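import Cfsg.Agent.GroupPartition.Basic
import Cfsg.Agent.NilpotentCover.Basic

/-!
# A group acting on a normal subgroup identified with a given group

For a normal subgroup `M` with `e : M ≃* X`, the conjugation action `act : G →* MulAut X`
and the embedding `emb : X →* G`; centralising elements and their components.
-/

set_option autoImplicit false
set_option linter.unusedSectionVars false

namespace CfsgLib.GroupPartition

open Subgroup

universe u v

section Act

variable {G : Type u} [Group G] {M : Subgroup G} [M.Normal] {X : Type v} [Group X] (e : M ≃* X)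

/-- Conjugation on `M`, transported to `X`. -/
noncomputable def act : G →* MulAut X :=
  (MulAut.congr e).toMonoidHom.comp MulAut.conjNormal

/-- `X` as a subgroup of `G`. -/
def emb : X →* G := M.subtype.comp e.symm.toMonoidHom

theorem act_apply (g : G) (x : X) : act e g x = e (MulAut.conjNormal g (e.symm x)) := rfl

theorem conj_emb (g : G) (x : X) : g * emb e x * g⁻¹ = emb e (act e g x) := by
  simp [emb, act_apply, MulAut.conjNormal_apply]

theorem emb_injective : Function.Injective (emb e) :=
  Subtype.val_injective.comp e.symm.injective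

theorem emb_mem (x : X) : emb e x ∈ M := (e.symm x).2

theorem act_emb (x : X) : act e (emb e x) = MulAut.conj x := by
  ext1 y
  refine emb_injective e ?_
  rw [← conj_emb, MulAut.conj_apply, map_mul, map_mul, map_inv]

theorem act_injective (hC : centralizer (M : Set G) = ⊥) : Function.Injective (act e) := by
  refine (injective_iff_map_eq_one _).2 fun g hg => ?_
  rw [← mem_bot, ← hC, mem_centralizer_iff]
  intro m hm
  have h := conj_emb e g (e ⟨m, hm⟩)
  rw [hg, MulAut.one_apply] at h
  simp [emb] at h
  exact (mul_inv_eq_iff_eq_mul.1 h).symm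

theorem commute_emb {g : G} {x : X} (h : act e g x = x) : Commute g (emb e x) := by
  have := conj_emb e g x
  rw [h] at this
  exact mul_inv_eq_iff_eq_mul.1 this

end Act

namespace Part

variable {G : Type u} [Group G] [Finite G] (P : Part G) {M : Subgroup G} [M.Normal]
  {X : Type v} [Group X] (e : M ≃* X)

/-- An element fixed by `φ` of order different from that of `φ` lies in the component of `φ`. -/
theorem emb_mem_of_fixed {φ : G} (hφ : φ ≠ 1) {x : X} (hx : x ≠ 1) (hfix : act e φ x = x)
    (ho : orderOf x ≠ orderOf φ) : emb e x ∈ P.comp φ :=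
  P.mem_comp_of_orderOf_ne hφ (fun h => hx (emb_injective e (by rw [h, map_one])))
    (commute_emb e hfix) (by rwa [orderOf_injective _ (emb_injective e)])

/-- Elements of coprime order inside a nilpotent component commute. -/
theorem commute_of_emb_mem {g : G} (hK : Group.IsNilpotent (P.comp g)) {x y : X}
    (hx : emb e x ∈ P.comp g) (hy : emb e y ∈ P.comp g) (ho : (orderOf x).Coprime (orderOf y)) :
    Commute x y := by
  refine emb_injective e ?_
  rw [map_mul, map_mul]
  exact (CfsgLib.NilpotentCover.commute_of_coprime_mem hK hx hy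
    (by rwa [orderOf_injective _ (emb_injective e), orderOf_injective _ (emb_injective e)])).eq

/-- A product of `p`-elements of a nilpotent component is a `p`-element. -/
theorem exists_pow_mul_eq_one {g : G} (hK : Group.IsNilpotent (P.comp g)) {p i j : ℕ}
    [Fact p.Prime] {x y : X} (hx : emb e x ∈ P.comp g) (hy : emb e y ∈ P.comp g)
    (hxp : x ^ p ^ i = 1) (hyp : y ^ p ^ j = 1) : ∃ k, (x * y) ^ p ^ k = 1 := by
  obtain ⟨T, -, hT, hmem, -⟩ := CfsgLib.NilpotentCover.exists_pGroup_of_mem (p := p) hK
  have hpow : ∀ {z : X} {n : ℕ}, z ^ p ^ n = 1 → ∃ m, orderOf (emb e z) = p ^ m := fun {z n} h => by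
    rw [orderOf_injective _ (emb_injective e)]
    obtain ⟨m, -, hm⟩ := (Nat.dvd_prime_pow Fact.out).1 (orderOf_dvd_of_pow_eq_one h)
    exact ⟨m, hm⟩
  obtain ⟨k, hk⟩ := hT ⟨_, mul_mem (hmem _ hx (hpow hxp)) (hmem _ hy (hpow hyp))⟩
  refine ⟨k, emb_injective e ?_⟩
  have := congrArg Subtype.val hk
  simpa using this

end Part

end CfsgLib.GroupPartition
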