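import Cfsg.Prelude.Def_Solvable
import Cfsg.Agent.Subnormal.HughesThompson
import Cfsg.Agent.CITGroups.Kernel
import Mathlib

/-!
# Partitions of finite groups

A partition of a group: a family of proper subgroups such that every non-identity element lies in
exactly one of them. We package it as the function giving the component of each element, and we
always work with partitions invariant under conjugation; every partition refines to one.
-/

set_option autoImplicit false
set_option linter.style.haveILetI false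
set_option linter.unusedSimpArgs false

namespace CfsgLib.GroupPartition

open Subgroup
open scoped Pointwise

universe u

/-- A conjugation invariant partition, by the component of each element. -/
structure Part (G : Type u) [Group G] where
  /-- The component of an element (`⊥` for the identity). -/
  comp : G → Subgroup G
  mem : ∀ g, g ∈ comp g
  eq_of_mem : ∀ {g h : G}, h ∈ comp g → h ≠ 1 → comp h = comp g
  ne_top : ∀ g, comp g ≠ ⊤
  one : comp 1 = ⊥
  conj : ∀ x g y : G, y ∈ comp g → x * y * x⁻¹ ∈ comp (x * g * x⁻¹)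

theorem exists_mem_ne_one {G : Type u} [Group G] {H : Subgroup G} (h : H ≠ ⊥) :
    ∃ a ∈ H, a ≠ 1 :=
  (bot_or_exists_ne_one H).resolve_left h

/-- The refinement of a partition given as a set of subgroups. -/
noncomputable def Part.ofSet {G : Type u} [Group G] (S : Set (Subgroup G))
    (hS2 : ∃ H ∈ S, ∃ K ∈ S, H ≠ K) (hS1 : ∀ H ∈ S, H ≠ ⊥)
    (hpart : ∀ g : G, g ≠ 1 → ∃! H : Subgroup G, H ∈ S ∧ g ∈ H) : Part G :=
  have hex : ∀ g : G, ∃ H : Subgroup G, g ≠ 1 → H ∈ S ∧ g ∈ H := fun g => by
    by_cases hg : g = 1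
    · exact ⟨⊥, fun h => absurd hg h⟩
    · exact ⟨_, fun _ => (hpart g hg).exists.choose_spec⟩
  let c : G → Subgroup G := fun g => (hex g).choose
  have hc : ∀ g : G, g ≠ 1 → c g ∈ S ∧ g ∈ c g := fun g => (hex g).choose_spec
  have huniq : ∀ {g : G} {H : Subgroup G}, g ≠ 1 → H ∈ S → g ∈ H → H = c g :=
    fun {g _} hg hH hgH => (hpart g hg).unique ⟨hH, hgH⟩ (hc g hg)
  haveI := Classical.decEq G
  { comp := fun g => if g = 1 then ⊥ else
      ⨅ x : G, (c (x * g * x⁻¹)).comap (MulAut.conj x).toMonoidHom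
    mem := fun g => by
      by_cases hg : g = 1
      · simp [hg]
      · simp only [if_neg hg, mem_iInf, mem_comap, MulEquiv.coe_toMonoidHom,
          MulAut.conj_apply]
        exact fun x => (hc _ (fun e => hg (conj_eq_one_iff.1 e))).2
    eq_of_mem := fun {g h} hh h1 => by
      by_cases hg : g = 1
      · simp [hg] at hh
        exact absurd hh h1
      simp only [if_neg hg, mem_iInf, mem_comap, MulEquiv.coe_toMonoidHom,
        MulAut.conj_apply] at hh
      simp only [if_neg h1, if_neg hg]
      refine iInf_congr fun x => congrArg (Subgroup.comap (MulAut.conj x).toMonoidHom) ?_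
      exact (huniq (fun e => h1 (conj_eq_one_iff.1 e))
        (hc _ (fun e => hg (conj_eq_one_iff.1 e))).1 (hh x)).symm
    ne_top := fun g htop => by
      obtain ⟨H, hH, K, hK, hne⟩ := hS2
      obtain ⟨a, ha, ha1⟩ := exists_mem_ne_one (hS1 H hH)
      obtain ⟨b, hb, hb1⟩ := exists_mem_ne_one (hS1 K hK)
      by_cases hg : g = 1
      · simp only [if_pos hg] at htop
        exact ha1 (mem_bot.1 (htop ▸ mem_top a))
      · have hall : ∀ y : G, y ∈ c g := fun y => by
          have hy := mem_top y
          rw [← htop] at hy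
          simp only [if_neg hg, mem_iInf, mem_comap, MulEquiv.coe_toMonoidHom,
            MulAut.conj_apply] at hy
          simpa using hy 1
        exact hne (((huniq ha1 hH ha).trans (huniq ha1 (hc g hg).1 (hall a)).symm).trans
          ((huniq hb1 hK hb).trans (huniq hb1 (hc g hg).1 (hall b)).symm).symm)
    one := by simp
    conj := fun x g y hy => by
      by_cases hg : g = 1
      · simp [hg] at hy
        simp [hg, hy]
      simp only [if_neg (fun e => hg (conj_eq_one_iff.1 e) : ¬ x * g * x⁻¹ = 1),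
        mem_iInf, mem_comap, MulEquiv.coe_toMonoidHom, MulAut.conj_apply]
      simp only [if_neg hg, mem_iInf, mem_comap, MulEquiv.coe_toMonoidHom,
        MulAut.conj_apply] at hy
      intro z
      have h := hy (z * x)
      have e1 : z * x * g * (z * x)⁻¹ = z * (x * g * x⁻¹) * z⁻¹ := by group
      have e2 : z * x * y * (z * x)⁻¹ = z * (x * y * x⁻¹) * z⁻¹ := by group
      rw [e1, e2] at h
      exact h }

namespace Part

variable {G : Type u} [Group G] (P : Part G)

theorem comp_ne_bot {g : G} (hg : g ≠ 1) : P.comp g ≠ ⊥ := fun h =>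
  hg (mem_bot.1 (h ▸ P.mem g))

theorem comp_eq_iff {g h : G} (hh : h ≠ 1) : P.comp h = P.comp g ↔ h ∈ P.comp g :=
  ⟨fun e => e ▸ P.mem h, fun h' => P.eq_of_mem h' hh⟩

/-- Components meeting nontrivially are equal. -/
theorem eq_of_mem_mem {a b g : G} (hga : g ∈ P.comp a) (hgb : g ∈ P.comp b) (hg : g ≠ 1) :
    P.comp a = P.comp b :=
  (P.eq_of_mem hga hg).symm.trans (P.eq_of_mem hgb hg)

theorem mem_comp_symm {a b : G} (h : a ∈ P.comp b) (ha : a ≠ 1) : b ∈ P.comp a :=
  (P.eq_of_mem h ha).symm ▸ P.mem b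

theorem comp_inv (g : G) : P.comp g⁻¹ = P.comp g := by
  by_cases hg : g = 1
  · rw [hg, inv_one]
  · exact P.eq_of_mem (inv_mem (P.mem g)) (inv_ne_one.2 hg)

/-- A power lying in a component pulls the element into it. -/
theorem mem_of_pow_mem {x g : G} {n : ℕ} (h : x ^ n ∈ P.comp g) (h1 : x ^ n ≠ 1) :
    x ∈ P.comp g := by
  rw [← P.eq_of_mem h h1, P.eq_of_mem (pow_mem (P.mem x) n) h1]
  exact P.mem x

theorem pow_eq_one_of_mem {x g : G} {n : ℕ} (h : x ^ n ∈ P.comp g) (hx : x ∉ P.comp g) :
    x ^ n = 1 :=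
  by_contra fun h1 => hx (P.mem_of_pow_mem h h1)

theorem conj_comp (x g : G) : P.comp (x * g * x⁻¹) = (P.comp g).map (MulAut.conj x).toMonoidHom := by
  ext y
  rw [mem_map]
  constructor
  · intro hy
    refine ⟨x⁻¹ * y * x, ?_, ?_⟩
    · have h := P.conj x⁻¹ _ _ hy
      rw [inv_inv, show x⁻¹ * (x * g * x⁻¹) * x = g by group] at h
      exact h
    · simp only [MulEquiv.coe_toMonoidHom, MulAut.conj_apply]
      group
  · rintro ⟨y, hy, rfl⟩
    exact P.conj x g y hy

theorem mem_normalizer_iff_comp {x g : G} (hg : g ≠ 1) :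
    x ∈ normalizer (P.comp g : Set G) ↔ x * g * x⁻¹ ∈ P.comp g := by
  constructor
  · intro h
    exact (mem_normalizer_iff.1 h g).1 (P.mem g)
  · intro h
    have hc : P.comp (x * g * x⁻¹) = P.comp g := P.eq_of_mem h (fun e => hg (conj_eq_one_iff.1 e))
    refine mem_normalizer_iff.2 fun y => ⟨fun hy => hc ▸ P.conj x g y hy, fun hy => ?_⟩
    rw [← hc, P.conj_comp] at hy
    obtain ⟨z, hz, hze⟩ := hy
    simp only [MulEquiv.coe_toMonoidHom, MulAut.conj_apply] at hze
    have : z = y := mul_left_cancel (mul_right_cancel hze)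
    rwa [← this]

/-- An element commuting with an element of a component normalises it. -/
theorem mem_normalizer_of_commute {x g a : G} (ha : a ∈ P.comp g) (ha1 : a ≠ 1)
    (hc : Commute x a) : x ∈ normalizer (P.comp g : Set G) := by
  rw [← P.eq_of_mem ha ha1]
  refine (P.mem_normalizer_iff_comp ha1).2 ?_
  rw [hc.eq, mul_inv_cancel_right]
  exact P.mem a

theorem centralizer_le_normalizer {g a : G} (ha : a ∈ P.comp g) (ha1 : a ≠ 1) :
    centralizer ({a} : Set G) ≤ normalizer (P.comp g : Set G) := fun _ hx =>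
  P.mem_normalizer_of_commute ha ha1 (mem_centralizer_singleton_iff.1 hx)

/-- TI property. -/
theorem mem_normalizer_of_conj_mem {x g a : G} (ha : a ∈ P.comp g) (ha1 : a ≠ 1)
    (h : x * a * x⁻¹ ∈ P.comp g) : x ∈ normalizer (P.comp g : Set G) := by
  rw [← P.eq_of_mem ha ha1] at h ⊢
  exact (P.mem_normalizer_iff_comp ha1).2 h

/-- Commuting elements in different components have the same prime order. -/
theorem orderOf_eq_of_commute [Finite G] {a b : G} (ha : a ≠ 1) (hb : b ≠ 1) (hab : Commute a b)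
    (hne : b ∉ P.comp a) : (orderOf a).Prime ∧ orderOf b = orderOf a := by
  have key : ∀ x y : G, x ≠ 1 → y ≠ 1 → Commute x y → y ∉ P.comp x →
      orderOf y ≤ orderOf x := by
    intro x y hx hy hxy hyx
    by_contra hlt
    push Not at hlt
    have hy' : y ^ orderOf x ≠ 1 := fun e =>
      absurd (Nat.le_of_dvd (orderOf_pos x) (orderOf_dvd_of_pow_eq_one e)) (not_le.2 hlt)
    have e : (x * y) ^ orderOf x = y ^ orderOf x := by
      rw [hxy.mul_pow, pow_orderOf_eq_one, one_mul]
    have h1 : x * y ∈ P.comp y :=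
      P.mem_of_pow_mem (n := orderOf x) (e ▸ pow_mem (P.mem y) _) (e ▸ hy')
    have h2 : x ∈ P.comp y := by
      have := mul_mem h1 (inv_mem (P.mem y))
      rwa [mul_inv_cancel_right] at this
    exact hyx (P.mem_comp_symm h2 hx)
  have hba : a ∉ P.comp b := fun h => hne (P.mem_comp_symm h ha)
  have heq : orderOf b = orderOf a :=
    le_antisymm (key a b ha hb hab hne) (key b a hb ha hab.symm hba)
  refine ⟨?_, heq⟩
  have h1 : orderOf a ≠ 1 := fun e => ha (orderOf_eq_one_iff.1 e)
  set q := (orderOf a).minFac with hq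
  have hqp : q.Prime := Nat.minFac_prime h1
  rcases (Nat.le_of_dvd (orderOf_pos a) (Nat.minFac_dvd _)).lt_or_eq with hlt | he
  · exfalso
    have ha' : a ^ q ≠ 1 := fun e =>
      absurd (Nat.le_of_dvd hqp.pos (orderOf_dvd_of_pow_eq_one e)) (not_le.2 hlt)
    have hne' : b ∉ P.comp (a ^ q) := by
      rw [P.eq_of_mem (pow_mem (P.mem a) q) ha']
      exact hne
    have h2 := le_antisymm (key (a ^ q) b ha' hb (hab.pow_left q) hne')
      (key b (a ^ q) hb ha' (hab.pow_left q).symm fun h => hne' (P.mem_comp_symm h ha'))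
    rw [orderOf_pow_of_dvd hqp.ne_zero (Nat.minFac_dvd _)] at h2
    exact absurd (h2.symm.trans heq) (Nat.div_lt_self (orderOf_pos a) hqp.one_lt).ne
  · rw [← he]; exact hqp

theorem mem_comp_of_orderOf_ne [Finite G] {a b : G} (ha : a ≠ 1) (hb : b ≠ 1) (hab : Commute a b)
    (ho : orderOf b ≠ orderOf a) : b ∈ P.comp a :=
  by_contra fun h => ho (P.orderOf_eq_of_commute ha hb hab h).2

/-- An element outside a component commuting with one of its elements has prime order `p`, and
every nontrivial element of the component commuting with it has order `p`. -/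
theorem pow_eq_one_of_commute [Finite G] {g a x : G} {p : ℕ} (ha : a ∈ P.comp g) (ha1 : a ≠ 1)
    (hx : x ∉ P.comp g) (hc : Commute x a) (hp : orderOf a = p) : x ^ p = 1 := by
  rw [← hp, ← (P.orderOf_eq_of_commute ha1 (fun e => hx (by rw [e]; exact one_mem _)) hc.symm
    (fun h => hx (P.eq_of_mem ha ha1 ▸ h))).2]
  exact pow_orderOf_eq_one x

/-- A component equal to its normaliser is a Frobenius complement. -/
theorem isFrobeniusComplement {g : G} (hg : g ≠ 1)
    (h : normalizer (P.comp g : Set G) ≤ P.comp g) : Cfsg.IsFrobeniusComplement (P.comp g) := by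
  refine ⟨P.comp_ne_bot hg, P.ne_top g, fun x hx => ?_⟩
  rw [eq_bot_iff]
  intro y ⟨hy, hy'⟩
  rw [mem_bot]
  by_contra hy1
  change y ∈ MulAut.conj x • P.comp g at hy'
  rw [mem_pointwise_smul_iff_inv_smul_mem, MulAut.smul_def, ← map_inv,
    MulAut.conj_apply, inv_inv] at hy'
  exact hx (by simpa using inv_mem (h (P.mem_normalizer_of_conj_mem (x := x⁻¹) hy hy1
    (by rwa [inv_inv]))))

/-- Restriction to a subgroup inside no component. -/
def restrict (K : Subgroup G) (hK : ∀ g, ¬ K ≤ P.comp g) : Part K where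
  comp k := (P.comp k).subgroupOf K
  mem k := P.mem k
  eq_of_mem {g h} hh h1 := by
    exact congrArg (fun L => Subgroup.subgroupOf L K)
      (P.eq_of_mem (g := (g : G)) (h := (h : G)) hh (fun e => h1 (Subtype.ext e)))
  ne_top k h := hK k (subgroupOf_eq_top.1 h)
  one := by
    rw [OneMemClass.coe_one, P.one, bot_subgroupOf]
  conj x g y hy := P.conj x g y hy

theorem restrict_comp (K : Subgroup G) (hK : ∀ g, ¬ K ≤ P.comp g) (k : K) :
    (P.restrict K hK).comp k = (P.comp k).subgroupOf K := rfl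

/-- A component that is not its own normaliser is nilpotent. -/
theorem isNilpotent_comp [Finite G] {g : G} (h : ¬ normalizer (P.comp g : Set G) ≤ P.comp g) :
    Group.IsNilpotent (P.comp g) := by
  classical
  set H := P.comp g with hH
  obtain ⟨x₀, hx₀N, hx₀⟩ := SetLike.not_le_iff_exists.1 h
  -- replace by an element of prime order modulo `H`
  set N := normalizer (H : Set G)
  haveI : (H.subgroupOf N).Normal := normal_in_normalizer
  have hne : (QuotientGroup.mk (⟨x₀, hx₀N⟩ : N) : N ⧸ H.subgroupOf N) ≠ 1 := fun e =>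
    hx₀ (mem_subgroupOf.1 ((QuotientGroup.eq_one_iff _).1 e))
  obtain ⟨p, hp, hdvd⟩ := Nat.exists_prime_and_dvd
    (fun e => hne (orderOf_eq_one_iff.1 e) :
      orderOf (QuotientGroup.mk (⟨x₀, hx₀N⟩ : N) : N ⧸ H.subgroupOf N) ≠ 1)
  set k := orderOf (QuotientGroup.mk (⟨x₀, hx₀N⟩ : N) : N ⧸ H.subgroupOf N) / p
  set xN : N := (⟨x₀, hx₀N⟩ : N) ^ k
  set x : G := (xN : G) with hxdef
  have hxo : orderOf (QuotientGroup.mk xN : N ⧸ H.subgroupOf N) = p := by
    rw [show (QuotientGroup.mk xN : N ⧸ H.subgroupOf N) =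
      (QuotientGroup.mk (⟨x₀, hx₀N⟩ : N) : N ⧸ H.subgroupOf N) ^ k from QuotientGroup.mk_pow _ _ _]
    exact orderOf_pow_orderOf_div (orderOf_pos _).ne' hdvd
  have hxH : x ∉ H := fun h' => hp.one_lt.ne' (by
    rw [← hxo, orderOf_eq_one_iff, QuotientGroup.eq_one_iff]
    exact mem_subgroupOf.2 h')
  have hxp : x ^ p ∈ H := by
    have := pow_orderOf_eq_one (QuotientGroup.mk xN : N ⧸ H.subgroupOf N)
    rw [hxo, ← QuotientGroup.mk_pow, QuotientGroup.eq_one_iff, mem_subgroupOf] at this
    exact this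
  haveI := Fact.mk hp
  -- the subgroup `H⟨x⟩`
  set W := H ⊔ zpowers x
  have hWN : W ≤ N := sup_le le_normalizer (zpowers_le.2 xN.2)
  haveI hHW : (H.subgroupOf W).Normal := normal_subgroupOf_of_le_normalizer hWN
  let xW : W := ⟨x, mem_sup_right (mem_zpowers x)⟩
  have hgen : ∀ w : W, ∃ i : ℤ, (xW ^ i)⁻¹ * w ∈ H.subgroupOf W := by
    rintro ⟨w, hw⟩
    have hw0 := hw
    rw [← SetLike.mem_coe, Subgroup.coe_mul_of_right_le_normalizer_left H (zpowers x)
      (zpowers_le.2 xN.2)] at hw0
    obtain ⟨a, ha, b, ⟨i, rfl⟩, rfl⟩ := hw0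
    refine ⟨i, mem_subgroupOf.2 ?_⟩
    show (x ^ i)⁻¹ * (a * x ^ i) ∈ H
    have := (mem_normalizer_iff.1 (N.inv_mem (N.zpow_mem xN.2 i)) a).1 ha
    simpa [mul_assoc] using this
  have hidx : (H.subgroupOf W).index = p := by
    have hord : orderOf (QuotientGroup.mk xW : W ⧸ H.subgroupOf W) = p := by
      refine orderOf_eq_prime ?_ fun e => hxH (mem_subgroupOf.1 ((QuotientGroup.eq_one_iff xW).1 e))
      rw [← QuotientGroup.mk_pow, QuotientGroup.eq_one_iff]
      exact mem_subgroupOf.2 hxp
    rw [index_eq_card, ← hord, ← Nat.card_zpowers]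
    refine Nat.card_congr (Equiv.subtypeUnivEquiv fun q => ?_).symm
    induction q using QuotientGroup.induction_on with
    | H w =>
      obtain ⟨i, hi⟩ := hgen w
      exact ⟨i, by
        show (QuotientGroup.mk xW : W ⧸ H.subgroupOf W) ^ i = QuotientGroup.mk w
        rw [← QuotientGroup.mk_zpow, QuotientGroup.eq]; exact hi⟩
  have hout : CfsgLib.HughesThompson.OuterExp p (H.subgroupOf W) := by
    intro y hy
    have hy' : (y : G) ∉ H := fun h' => hy (mem_subgroupOf.2 h')
    refine Subtype.ext (P.pow_eq_one_of_mem ?_ hy')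
    have := pow_card_eq_one' (x := (QuotientGroup.mk y : W ⧸ H.subgroupOf W))
    rw [← index_eq_card, hidx, ← QuotientGroup.mk_pow, QuotientGroup.eq_one_iff,
      mem_subgroupOf] at this
    exact this
  haveI := CfsgLib.HughesThompson.isNilpotent_of_outerExp p _ W (H.subgroupOf W) rfl hidx hout
  exact Group.nilpotent_of_mulEquiv (subgroupOfEquivOfLe (le_sup_left : H ≤ W))

end Part

end CfsgLib.GroupPartition
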