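import Cfsg.Agent.AutPSL.AutOrder

/-!
# Small computations in `SL₂` and `PSL₂`
-/

set_option autoImplicit false
set_option linter.unusedSectionVars false

namespace CfsgLib.GroupPartition.SL2

open Matrix CfsgLib.AutPSL
open scoped MatrixGroups

variable {F : Type*} [Field F]

local notation "SL₂" => Matrix.SpecialLinearGroup (Fin 2) F
local notation "PSL₂" => Matrix.ProjectiveSpecialLinearGroup (Fin 2) F

/-- The matrix `(a b; c d)` of determinant one. -/
def mat (a b c d : F) (h : a * d - b * c = 1) : SL₂ :=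
  ⟨!![a, b; c, d], by rw [Matrix.det_fin_two_of, h]⟩

theorem mat_val {a b c d : F} (h : a * d - b * c = 1) :
    ((mat a b c d h : SL₂) : Matrix (Fin 2) (Fin 2) F) = !![a, b; c, d] := rfl

/-- `diag(x, x⁻¹)`. -/
def dm : Fˣ →* SL₂ where
  toFun x := mat x 0 0 (x⁻¹ : Fˣ) (by simp)
  map_one' := by
    apply Subtype.ext
    simp [mat_val, Matrix.one_fin_two]
  map_mul' x y := by
    apply Subtype.ext
    simp [mat_val, mul_comm]

theorem dm_val (x : Fˣ) :
    ((dm x : SL₂) : Matrix (Fin 2) (Fin 2) F) = !![(x : F), 0; 0, ((x⁻¹ : Fˣ) : F)] := rfl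

/-- `(0 1; -1 0)`. -/
def wm : SL₂ := mat 0 1 (-1) 0 (by ring)

/-- A central element is scalar. -/
theorem central_entries {s : SL₂} (h : (QuotientGroup.mk s : PSL₂) = 1) :
    (s : Matrix (Fin 2) (Fin 2) F) 0 1 = 0 ∧ (s : Matrix (Fin 2) (Fin 2) F) 1 0 = 0 ∧
      (s : Matrix (Fin 2) (Fin 2) F) 0 0 = (s : Matrix (Fin 2) (Fin 2) F) 1 1 := by
  rw [QuotientGroup.eq_one_iff] at h
  obtain ⟨c, -, hc⟩ := Matrix.SpecialLinearGroup.mem_center_iff.1 h
  simp [← hc, Matrix.scalar_apply]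

theorem mk_eq_one_of_scalar {s : SL₂} {c : F}
    (h : (s : Matrix (Fin 2) (Fin 2) F) = !![c, 0; 0, c]) : (QuotientGroup.mk s : PSL₂) = 1 := by
  rw [QuotientGroup.eq_one_iff, Matrix.SpecialLinearGroup.mem_center_iff]
  refine ⟨c, ?_, ?_⟩
  · have := s.2
    rw [h, Matrix.det_fin_two_of] at this
    rw [Fintype.card_fin, sq]
    simpa using this
  · rw [h]
    ext i j
    fin_cases i <;> fin_cases j <;> simp [Matrix.scalar_apply]

theorem mk_dm_eq_one_iff {x : Fˣ} : (QuotientGroup.mk (dm x) : PSL₂) = 1 ↔ x * x = 1 := by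
  constructor
  · intro h
    have := (central_entries h).2.2
    simp [dm_val] at this
    refine mul_eq_one_iff_eq_inv.2 (Units.ext ?_)
    simpa using this
  · intro h
    refine mk_eq_one_of_scalar (c := (x : F)) ?_
    rw [dm_val, ← eq_inv_of_mul_eq_one_right h]

theorem dm_fix (σ : F ≃+* F) {x : Fˣ} (hx : σ x = x) : fieldSL σ (dm x) = dm x := by
  apply Subtype.ext
  ext i j
  fin_cases i <;> fin_cases j <;> simp [dm_val, hx, map_inv₀]

theorem mat_fix (σ : F ≃+* F) {a b c d : F} (h : a * d - b * c = 1) (ha : σ a = a) (hb : σ b = b)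
    (hc : σ c = c) (hd : σ d = d) : fieldSL σ (mat a b c d h) = mat a b c d h := by
  apply Subtype.ext
  ext i j
  fin_cases i <;> fin_cases j <;> simp [mat_val, ha, hb, hc, hd]

theorem wm_mul_self : (QuotientGroup.mk wm : PSL₂) * QuotientGroup.mk wm = 1 := by
  rw [← QuotientGroup.mk_mul]
  exact mk_eq_one_of_scalar (c := -1) (by simp [wm, mat_val])

theorem mk_wm_ne_one : (QuotientGroup.mk wm : PSL₂) ≠ 1 := fun h => by
  simpa [wm, mat_val] using (central_entries h).1

/-- An invertible matrix that is a scalar times an element of `SL₂` induces an inner automorphism. -/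
theorem toPSLAut_conjSL_scalar {A : GL (Fin 2) F} {h : SL₂} (c : F)
    (he : (A : Matrix (Fin 2) (Fin 2) F) = c • (h : Matrix (Fin 2) (Fin 2) F)) :
    toPSLAut (conjSL A) = MulAut.conj (QuotientGroup.mk h : PSL₂) := by
  have hc : c ≠ 0 := fun e => by
    refine A.det.ne_zero ?_
    rw [Matrix.GeneralLinearGroup.val_det_apply, he, e, zero_smul, Matrix.det_zero]
  have hA : A = Matrix.GeneralLinearGroup.scalar (Fin 2) (Units.mk0 c hc) *
      Matrix.SpecialLinearGroup.toGL h := by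
    apply Units.ext
    rw [Units.val_mul, he, Matrix.GeneralLinearGroup.coe_scalar]
    simp [Matrix.smul_eq_diagonal_mul]
  rw [hA, map_mul conjSL, conjSL_scalar, one_mul, conjSL_toGL, toPSLAut_conj]

/-- A matrix of square determinant induces an inner automorphism. -/
theorem exists_inner_of_isSquare {A : GL (Fin 2) F} (h : IsSquare (A.det : F)) :
    ∃ s : SL₂, toPSLAut (conjSL A) = MulAut.conj (QuotientGroup.mk s : PSL₂) := by
  obtain ⟨z, hz⟩ := h
  have hz0 : z ≠ 0 := fun e => A.det.ne_zero (by rw [hz, e, mul_zero])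
  refine ⟨⟨z⁻¹ • (A : Matrix (Fin 2) (Fin 2) F), ?_⟩, toPSLAut_conjSL_scalar z ?_⟩
  · rw [Matrix.det_smul, Fintype.card_fin]
    rw [Matrix.GeneralLinearGroup.val_det_apply] at hz
    rw [hz]
    field_simp
  · show (A : Matrix (Fin 2) (Fin 2) F) = z • (z⁻¹ • (A : Matrix (Fin 2) (Fin 2) F))
    rw [smul_smul, mul_inv_cancel₀ hz0, one_smul]

section Finite

variable [Fintype F]

/-- A generator of the unit group is not a square when some element is a non-square. -/
theorem not_isSquare_generator {l : Fˣ} (hl : ∀ x : Fˣ, x ∈ Subgroup.zpowers l) {a : F}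
    (ha : ¬ IsSquare a) : ¬ IsSquare (l : F) := by
  rintro ⟨z, hz⟩
  have ha0 : a ≠ 0 := fun e => ha (e ▸ IsSquare.zero)
  obtain ⟨k, hk⟩ := Subgroup.mem_zpowers_iff.1 (hl (Units.mk0 a ha0))
  refine ha ⟨z ^ k, ?_⟩
  rw [← mul_zpow, ← hz, ← Units.val_zpow_eq_zpow_val, hk, Units.val_mk0]

/-- A non-square is an odd power of a generator. -/
theorem exists_odd_pow {l : Fˣ} (hl : ∀ x : Fˣ, x ∈ Subgroup.zpowers l) {a : Fˣ}
    (ha : ¬ IsSquare (a : F)) : ∃ k : ℕ, a = l ^ (2 * k + 1) := by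
  obtain ⟨n, rfl⟩ : ∃ n : ℕ, l ^ n = a :=
    ((Submonoid.mem_powers_iff _ _).1 (mem_powers_iff_mem_zpowers.2 (hl a)))
  rcases Nat.even_or_odd n with ⟨k, rfl⟩ | ⟨k, rfl⟩
  · exact absurd ⟨(l : F) ^ k, by rw [Units.val_pow_eq_pow_val, pow_add]⟩ ha
  · exact ⟨k, rfl⟩

theorem isSquare_mul_of_not {a b : F} (ha : ¬ IsSquare a) (hb : ¬ IsSquare b) :
    IsSquare (a * b) := by
  obtain ⟨l, hl⟩ := IsCyclic.exists_generator (α := Fˣ)
  have ha0 : a ≠ 0 := fun e => ha (e ▸ IsSquare.zero)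
  have hb0 : b ≠ 0 := fun e => hb (e ▸ IsSquare.zero)
  obtain ⟨i, hi⟩ := exists_odd_pow hl (a := Units.mk0 a ha0) ha
  obtain ⟨j, hj⟩ := exists_odd_pow hl (a := Units.mk0 b hb0) hb
  refine ⟨(l : F) ^ (i + j + 1), ?_⟩
  have hi' := congrArg Units.val hi
  have hj' := congrArg Units.val hj
  rw [Units.val_mk0, Units.val_pow_eq_pow_val] at hi' hj'
  rw [hi', hj', ← pow_add, ← pow_add]
  congr 1
  omega

theorem not_isSquare_map (σ : F ≃+* F) {a : F} (ha : ¬ IsSquare a) : ¬ IsSquare (σ a) := by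
  rintro ⟨z, hz⟩
  exact ha ⟨σ.symm z, by rw [← map_mul, ← hz, σ.symm_apply_apply]⟩

end Finite

end CfsgLib.GroupPartition.SL2
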