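import Cfsg.Agent.GroupPartition.Action
import Cfsg.Agent.GroupPartition.SL2
import Cfsg.Agent.AutPSL.Main
import Cfsg.Agent.AutPSL.Structure
import Cfsg.Agent.FixedField.Basic
import Cfsg.Agent.Characters.Burnside
import Cfsg.Agent.Linear.Basic
import Cfsg.Agent.S0252
import Cfsg.Agent.S0253

/-!
# Groups with a partition and socle `PSL₂(q)`

If all components of a partition of `G` are nilpotent and `G` has a normal subgroup with trivial
centraliser isomorphic to `PSL₂(q)`, then `G` is `PSL₂(q)` or `PGL₂(q)`.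
-/

set_option autoImplicit false
set_option linter.unusedSectionVars false
set_option linter.style.haveILetI false

namespace CfsgLib.GroupPartition

open Matrix CfsgLib.AutPSL
open scoped MatrixGroups

universe u

theorem eq_one_of_coprime_pow {X : Type*} [Monoid X] {x : X} {m n : ℕ} (h1 : x ^ m = 1)
    (h2 : x ^ n = 1) (h : m.Coprime n) : x = 1 := by
  have := pow_gcd_eq_one.2 ⟨h1, h2⟩
  rwa [h.gcd_eq_one, pow_one] at this

namespace Part

variable {G : Type u} [Group G] [Finite G] (P : Part G) {M : Subgroup G} [M.Normal]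
  {F : Type} [Field F] [Fintype F] (e : M ≃* Matrix.ProjectiveSpecialLinearGroup (Fin 2) F)
  (hC : Subgroup.centralizer (M : Set G) = ⊥)
  (hnil : ∀ g : G, g ≠ 1 → Group.IsNilpotent (P.comp g))

local notation "SL₂" => Matrix.SpecialLinearGroup (Fin 2) F
local notation "PSL₂" => Matrix.ProjectiveSpecialLinearGroup (Fin 2) F

/-- The action of an element that induces a field automorphism of prime order. -/
structure FieldElt (φ : G) (σ : F ≃+* F) (r : ℕ) : Prop where
  prime : r.Prime
  order : orderOf σ = r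
  eq : act e φ = toPSLAut (fieldSL σ)

section Field

variable {e} {φ : G} {σ : F ≃+* F} {r : ℕ} (h : FieldElt e φ σ r)
include h hC

theorem FieldElt.orderOf_eq : orderOf φ = r := by
  obtain ⟨p, hp⟩ := CharP.exists F
  haveI := Fact.mk (CharP.char_is_prime F p)
  rw [← orderOf_injective (act e) (act_injective e hC), h.eq,
    orderOf_injective (toPSLAut (ι := Fin 2) (F := F)) (toPSLAut_injective p),
    orderOf_injective (fieldSL (ι := Fin 2) (F := F)) fieldSL_injective, h.order]

theorem FieldElt.ne_one : φ ≠ 1 := fun e' => h.prime.ne_one (by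
  rw [← h.orderOf_eq hC, e', orderOf_one])

theorem FieldElt.mem {s : SL₂} (hfix : fieldSL σ s = s) (h1 : (QuotientGroup.mk s : PSL₂) ≠ 1)
    (ho : orderOf (QuotientGroup.mk s : PSL₂) ≠ r) :
    emb e (QuotientGroup.mk s) ∈ P.comp φ :=
  P.emb_mem_of_fixed e (h.ne_one hC) h1 (by rw [h.eq, toPSLAut_mk, hfix])
    (by rwa [h.orderOf_eq hC])

end Field

theorem xe01_val (t : F) :
    ((xe 0 1 t : SL₂) : Matrix (Fin 2) (Fin 2) F) = !![1, t; 0, 1] := by
  rw [xe_coe (by decide)]
  ext i j
  fin_cases i <;> fin_cases j <;> simp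

theorem xe10_val (t : F) :
    ((xe 1 0 t : SL₂) : Matrix (Fin 2) (Fin 2) F) = !![1, 0; t, 1] := by
  rw [xe_coe (by decide)]
  ext i j
  fin_cases i <;> fin_cases j <;> simp

theorem mk_xe01_ne_one {t : F} (ht : t ≠ 0) : (QuotientGroup.mk (xe 0 1 t) : PSL₂) ≠ 1 :=
  fun h => ht (by simpa [xe01_val] using (SL2.central_entries h).1)

theorem mk_xe10_ne_one {t : F} (ht : t ≠ 0) : (QuotientGroup.mk (xe 1 0 t) : PSL₂) ≠ 1 :=
  fun h => ht (by simpa [xe10_val] using (SL2.central_entries h).2.1)

include hC hnil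

/-- The characteristic is the order of the field automorphism. -/
theorem eq_char {φ : G} {σ : F ≃+* F} {r : ℕ} (h : FieldElt e φ σ r) {p : ℕ} [Fact p.Prime]
    [CharP F p] : r = p := by
  by_contra hrp
  have hp : p.Prime := Fact.out
  have hK := hnil φ (h.ne_one hC)
  have hpow : ∀ (i j : Fin 2) (t : F), (QuotientGroup.mk (xe i j t) : PSL₂) ^ p ^ 1 = 1 :=
    fun i j t => by
      rw [← QuotientGroup.mk_pow, xe_pow_char p i j t, QuotientGroup.mk_one]
  have hmem : ∀ (i j : Fin 2) (t : F), σ t = t → (QuotientGroup.mk (xe i j t) : PSL₂) ≠ 1 →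
      emb e (QuotientGroup.mk (xe i j t)) ∈ P.comp φ := fun i j t ht h1 => by
    refine h.mem P hC (by rw [fieldSL_xe, ht]) h1 ?_
    rw [orderOf_eq_prime (by simpa using hpow i j t) h1]
    exact Ne.symm hrp
  have hu := hmem 0 1 1 (map_one σ) (mk_xe01_ne_one one_ne_zero)
  by_cases hp2 : p = 2
  · -- an element of order three in a `2`-group
    subst hp2
    have h2 : (2 : F) = 0 := CharTwo.two_eq_zero
    obtain ⟨k, hk⟩ := P.exists_pow_mul_eq_one e hK hu
      (hmem 1 0 1 (map_one σ) (mk_xe10_ne_one one_ne_zero)) (hpow _ _ _) (hpow _ _ _)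
    have hval : ((xe 0 1 1 * xe 1 0 1 : SL₂) : Matrix (Fin 2) (Fin 2) F) = !![0, 1; 1, 1] := by
      rw [Matrix.SpecialLinearGroup.coe_mul, xe01_val, xe10_val]
      ext i j
      fin_cases i <;> fin_cases j <;> simp [Matrix.mul_apply, Fin.sum_univ_two]
      linear_combination h2
    have h3 : (QuotientGroup.mk (xe 0 1 1 * xe 1 0 1) : PSL₂) ^ 3 = 1 := by
      rw [← QuotientGroup.mk_pow]
      refine SL2.mk_eq_one_of_scalar (c := 1) ?_
      rw [Matrix.SpecialLinearGroup.coe_pow, hval, pow_succ, sq]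
      ext i j
      fin_cases i <;> fin_cases j <;> simp [Matrix.mul_apply, Fin.sum_univ_two] <;>
        linear_combination h2
    rw [← QuotientGroup.mk_mul] at hk
    have := eq_one_of_coprime_pow hk h3
      (Nat.Coprime.pow_left k (by norm_num))
    simpa [hval] using (SL2.central_entries this).1
  · -- an element of order two in a `p`-group
    have hv := hmem 1 0 (-1) (by rw [map_neg, map_one]) (mk_xe10_ne_one (neg_ne_zero.2 one_ne_zero))
    obtain ⟨k, hk⟩ := P.exists_pow_mul_eq_one e hK hu hv (hpow _ _ _) (hpow _ _ _)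
    obtain ⟨k', hk'⟩ := P.exists_pow_mul_eq_one e hK (by rw [map_mul]; exact mul_mem hu hv) hu hk
      (hpow _ _ _)
    have hw : (xe 0 1 1 * xe 1 0 (-1) * xe 0 1 1 : SL₂) = SL2.wm := by
      apply Subtype.ext
      rw [Matrix.SpecialLinearGroup.coe_mul, Matrix.SpecialLinearGroup.coe_mul, xe01_val, xe10_val,
        SL2.wm, SL2.mat_val]
      ext i j
      fin_cases i <;> fin_cases j <;> simp [Matrix.mul_apply, Fin.sum_univ_two]
    rw [← QuotientGroup.mk_mul, ← QuotientGroup.mk_mul, hw] at hk'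
    refine SL2.mk_wm_ne_one (eq_one_of_coprime_pow hk' (by rw [sq]; exact SL2.wm_mul_self) ?_)
    exact Nat.Coprime.pow_left k' ((Nat.coprime_primes hp Nat.prime_two).2 hp2)

/-- The automorphism fixes at most three elements. -/
theorem fixed_le_three {φ : G} {σ : F ≃+* F} {p : ℕ} [Fact p.Prime] [CharP F p]
    (h : FieldElt e φ σ p) {a : F} (ha : σ a = a) : a = 0 ∨ a * a = 1 := by
  classical
  by_contra hcon
  push Not at hcon
  obtain ⟨ha0, haa⟩ := hcon
  have hp : p.Prime := Fact.out
  have hK := hnil φ (h.ne_one hC)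
  set x := Units.mk0 a ha0
  set d : PSL₂ := QuotientGroup.mk (SL2.dm x) with hd
  set u : PSL₂ := QuotientGroup.mk (xe 0 1 1) with hu
  have hd1 : d ≠ 1 := fun e' => haa (by
    simpa [x] using congrArg Units.val (SL2.mk_dm_eq_one_iff.1 e'))
  have hdo : (orderOf d).Coprime p := by
    refine Nat.Coprime.coprime_dvd_left
      (orderOf_dvd_of_pow_eq_one (n := Fintype.card Fˣ) ?_) ?_
    · rw [hd, ← QuotientGroup.mk_pow, ← map_pow, pow_card_eq_one, map_one, QuotientGroup.mk_one]
    · rw [Fintype.card_units, Nat.coprime_comm, hp.coprime_iff_not_dvd]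
      intro hdvd
      obtain ⟨n, -, hn⟩ := FiniteField.card F p
      have h1 : p ∣ Fintype.card F := hn ▸ dvd_pow_self p n.pos.ne'
      have h2 : Fintype.card F = Fintype.card F - 1 + 1 := by
        have := Fintype.card_pos (α := F); omega
      rw [h2] at h1
      exact hp.not_dvd_one ((Nat.dvd_add_right hdvd).1 h1)
  have hne : orderOf d ≠ p := fun e' => by
    rw [e', Nat.coprime_self] at hdo; exact hp.ne_one hdo
  have hdK : emb e d ∈ P.comp φ := h.mem P hC (SL2.dm_fix σ (by simpa [x] using ha)) hd1 hne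
  have hcK : emb e (u * d * u⁻¹) ∈ P.comp φ := by
    refine P.emb_mem_of_fixed e (h.ne_one hC) (fun e' => hd1 (conj_eq_one_iff.1 e')) ?_ ?_
    · rw [h.eq, map_mul, map_mul, map_inv, hd, hu, toPSLAut_mk, toPSLAut_mk,
        SL2.dm_fix σ (by simpa [x] using ha), fieldSL_xe, map_one]
    · rw [h.orderOf_eq hC]
      have : orderOf (u * d * u⁻¹) = orderOf d := (SemiconjBy.orderOf_eq u
        (show SemiconjBy u d (u * d * u⁻¹) by simp [SemiconjBy])).symm
      rwa [this]
  set b := 1 - a * a
  have hb : b ≠ 0 := sub_ne_zero.2 (Ne.symm haa)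
  have hz : u * d * u⁻¹ * d⁻¹ = QuotientGroup.mk (xe 0 1 b) := by
    rw [hu, hd, ← QuotientGroup.mk_inv, ← QuotientGroup.mk_inv, ← QuotientGroup.mk_mul,
      ← QuotientGroup.mk_mul, ← QuotientGroup.mk_mul, ← xe_neg, ← map_inv SL2.dm]
    congr 1
    apply Subtype.ext
    simp only [Matrix.SpecialLinearGroup.coe_mul, xe01_val, SL2.dm_val, inv_inv]
    ext i j
    fin_cases i <;> fin_cases j <;> simp [x, b, Matrix.mul_apply, Fin.sum_univ_two, ha0]
    field_simp
    ring
  have hzK : emb e (QuotientGroup.mk (xe 0 1 b)) ∈ P.comp φ := by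
    rw [← hz, map_mul, map_inv]
    exact mul_mem hcK (inv_mem hdK)
  have hzo : orderOf (QuotientGroup.mk (xe 0 1 b) : PSL₂) = p := by
    refine orderOf_eq_prime ?_ (mk_xe01_ne_one hb)
    rw [← QuotientGroup.mk_pow, ← pow_one p, xe_pow_char p 0 1 b, QuotientGroup.mk_one]
  have hc : Commute (xe 0 1 b) (SL2.dm x) := commute_of_mk_commute p (k := 1)
    (xe_pow_char p 0 1 b) (P.commute_of_emb_mem e hK hdK hzK (by rw [hzo]; exact hdo)).symm
  have h01 := congrArg (fun s : SL₂ => (s : Matrix (Fin 2) (Fin 2) F) 0 1) hc.eq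
  simp [xe01_val, SL2.dm_val, x, Matrix.mul_apply, Fin.sum_univ_two] at h01
  refine hb (mul_left_cancel₀ hb ?_)
  show b * (1 - a * a) = b * 0
  field_simp at h01
  linear_combination (1 - a * a) * h01

omit hC hnil in
theorem rot_mul (a b c d : F) : (!![a, b; -b, a] : Matrix (Fin 2) (Fin 2) F) * !![c, d; -d, c] =
    !![a * c - b * d, a * d + b * c; -(a * d + b * c), a * c - b * d] := by
  ext i j
  fin_cases i <;> fin_cases j <;> simp [Matrix.mul_apply, Fin.sum_univ_two] <;> ring

omit hC hnil in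
theorem rot_cube [CharP F 3] (a b : F) : (!![a, b; -b, a] : Matrix (Fin 2) (Fin 2) F) ^ 3 =
    !![a ^ 3, -b ^ 3; -(-b ^ 3), a ^ 3] := by
  have h3 : (3 : F) = 0 := by exact_mod_cast CharP.cast_eq_zero F 3
  rw [pow_succ, sq, rot_mul, rot_mul]
  ext i j
  fin_cases i <;> fin_cases j <;> simp
  · linear_combination (-a * b ^ 2) * h3
  · linear_combination (a ^ 2 * b) * h3
  · linear_combination (-a ^ 2 * b) * h3
  · linear_combination (-a * b ^ 2) * h3

omit hC hnil in
/-- A point of the circle `a² + b² = 1` off the axes. -/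
theorem exists_rot (hF : Fintype.card F = 27) [CharP F 3] :
    ∃ a b : F, a * a + b * b = 1 ∧ a ≠ 0 ∧ b ≠ 0 := by
  classical
  obtain ⟨t, -, ht⟩ := Finset.exists_mem_notMem_of_card_lt_card
    (s := ({0, 1, -1} : Finset F)) (t := Finset.univ)
    (Finset.card_le_three.trans_lt (by rw [Finset.card_univ, hF]; norm_num))
  simp only [Finset.mem_insert, Finset.mem_singleton, not_or] at ht
  obtain ⟨ht0, ht1, htm⟩ := ht
  have hns : ¬ IsSquare (-1 : F) := by
    rw [FiniteField.isSquare_neg_one_iff, hF]; norm_num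
  have hd : 1 + t * t ≠ 0 := fun e' => hns ⟨t, by linear_combination -e'⟩
  have h2 : (2 : F) ≠ 0 := fun e' => by
    have h3 : (3 : F) = 0 := by exact_mod_cast CharP.cast_eq_zero F 3
    exact one_ne_zero (show (1 : F) = 0 by linear_combination h3 - e')
  refine ⟨(1 - t * t) / (1 + t * t), 2 * t / (1 + t * t), by
    rw [div_mul_div_comm, div_mul_div_comm, ← add_div, div_eq_one_iff_eq (mul_ne_zero hd hd)]
    ring,
    div_ne_zero ?_ hd, div_ne_zero (mul_ne_zero h2 ht0) hd⟩
  intro e'
  rcases mul_eq_zero.1 (show (1 - t) * (1 + t) = 0 by linear_combination e') with h | h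
  · exact ht1 (sub_eq_zero.1 h).symm
  · exact htm (by linear_combination h)

/-- The field of order `27` is impossible. -/
theorem false_27 {φ : G} {σ : F ≃+* F} [CharP F 3] (h : FieldElt e φ σ 3)
    (hF : Fintype.card F = 27) : False := by
  haveI : Fact (Nat.Prime 3) := ⟨Nat.prime_three⟩
  haveI := Fact.mk Nat.prime_two
  have h3 : (3 : F) = 0 := by exact_mod_cast CharP.cast_eq_zero F 3
  have h2 : (2 : F) ≠ 0 := fun e' =>
    one_ne_zero (show (1 : F) = 0 by linear_combination h3 - e')
  have hK := hnil φ (h.ne_one hC)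
  set W : PSL₂ := QuotientGroup.mk SL2.wm with hW
  have hwo : orderOf W = 2 := orderOf_eq_prime (by rw [sq]; exact SL2.wm_mul_self) SL2.mk_wm_ne_one
  have hwK : emb e W ∈ P.comp φ := h.mem P hC
    (SL2.mat_fix σ _ (map_zero σ) (map_one σ) (by rw [map_neg, map_one]) (map_zero σ))
    SL2.mk_wm_ne_one (by rw [hwo]; norm_num)
  set w' : SL₂ := SL2.mat (-1) 2 (-1) 1 (by ring) with hw'
  set W' : PSL₂ := QuotientGroup.mk w'
  have hW'1 : W' ≠ 1 := fun e' => h2 (by simpa [hw', SL2.mat_val] using (SL2.central_entries e').1)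
  have hW'2 : W' ^ 2 = 1 := by
    rw [← QuotientGroup.mk_pow]
    refine SL2.mk_eq_one_of_scalar (c := -1) ?_
    rw [Matrix.SpecialLinearGroup.coe_pow, sq, hw', SL2.mat_val]
    ext i j
    fin_cases i <;> fin_cases j <;> simp [Matrix.mul_apply, Fin.sum_univ_two]
    all_goals norm_num
  have hw'K : emb e W' ∈ P.comp φ := h.mem P hC
    (SL2.mat_fix σ _ (by rw [map_neg, map_one]) (map_ofNat σ 2) (by rw [map_neg, map_one])
      (map_one σ))
    hW'1 (by rw [orderOf_eq_prime hW'2 hW'1]; norm_num)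
  obtain ⟨a, b, hab, ha0, hb0⟩ := exists_rot hF
  set R : SL₂ := SL2.mat a b (-b) a (by linear_combination hab) with hR
  set Q : PSL₂ := QuotientGroup.mk R with hQ
  have hR1 : Q ≠ 1 := fun e' => hb0 (by simpa [hR, SL2.mat_val] using (SL2.central_entries e').1)
  have hRv : (R : Matrix (Fin 2) (Fin 2) F) = !![a, b; -b, a] := SL2.mat_val _
  have hR2v : ((R ^ 2 : SL₂) : Matrix (Fin 2) (Fin 2) F) =
      !![a * a - b * b, a * b + b * a; -(a * b + b * a), a * a - b * b] := by
    rw [Matrix.SpecialLinearGroup.coe_pow, sq, hRv, rot_mul]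
  have hD : a * b + b * a ≠ 0 := by
    rw [show a * b + b * a = 2 * (a * b) by ring]
    exact mul_ne_zero h2 (mul_ne_zero ha0 hb0)
  have hR2 : Q ^ 2 ≠ 1 := fun e' => hD (by
    rw [hQ, ← QuotientGroup.mk_pow] at e'
    simpa [hR2v] using (SL2.central_entries e').1)
  have hc : Commute W Q := by
    have : Commute SL2.wm R := by
      apply Subtype.ext
      rw [Matrix.SpecialLinearGroup.coe_mul, Matrix.SpecialLinearGroup.coe_mul, hRv, SL2.wm,
        SL2.mat_val, rot_mul, rot_mul]
      ext i j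
      fin_cases i <;> fin_cases j <;> simp
    exact this.map (QuotientGroup.mk' _)
  have hRK : emb e Q ∈ P.comp φ := by
    have h1 : emb e W ≠ 1 := fun e' =>
      SL2.mk_wm_ne_one (emb_injective e (e'.trans (map_one _).symm))
    rw [← P.eq_of_mem hwK h1]
    refine P.mem_comp_of_orderOf_ne h1 (fun e' => hR1 (emb_injective e (e'.trans (map_one _).symm)))
      (hc.map (emb e)) ?_
    rw [orderOf_injective _ (emb_injective e), orderOf_injective _ (emb_injective e), hwo]
    exact fun e' => hR2 (orderOf_dvd_iff_pow_eq_one.1 (dvd_of_eq e'))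
  -- `R` has order dividing `28`
  have h27 : ∀ x : F, x ^ 27 = x := fun x => by rw [← hF]; exact FiniteField.pow_card x
  have hR28 : R ^ 28 = 1 := by
    apply Subtype.ext
    rw [Matrix.SpecialLinearGroup.coe_pow, Matrix.SpecialLinearGroup.coe_one, hRv,
      show (28 : ℕ) = 3 * 3 * 3 + 1 from rfl, pow_succ, pow_mul, pow_mul, rot_cube, rot_cube,
      rot_cube, rot_mul]
    simp only [← pow_mul, Odd.neg_pow (show Odd 3 by decide), neg_neg]
    norm_num [h27]
    rw [Matrix.one_fin_two]
    ext i j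
    fin_cases i <;> fin_cases j <;> simp <;> first | linear_combination hab | ring
  have h7 : (Q ^ 4) ^ 7 = 1 := by
    rw [← pow_mul, hQ, ← QuotientGroup.mk_pow, hR28, QuotientGroup.mk_one]
  have hco : (orderOf (Q ^ 4)).Coprime (orderOf W') :=
    ((show Nat.Coprime 7 2 by norm_num).coprime_dvd_left
      (orderOf_dvd_of_pow_eq_one h7)).coprime_dvd_right (orderOf_dvd_of_pow_eq_one hW'2)
  have hcomm := P.commute_of_emb_mem e hK (by rw [map_pow]; exact pow_mem hRK 4) hw'K hco
  set C := a * a - b * b with hCdef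
  set D := a * b + b * a with hDdef
  set A := C * C - D * D with hA
  set B := C * D + D * C with hB
  have hR4v : ((R ^ 4 : SL₂) : Matrix (Fin 2) (Fin 2) F) = !![A, B; -B, A] := by
    rw [show (4 : ℕ) = 2 * 2 from rfl, pow_mul, Matrix.SpecialLinearGroup.coe_pow, hR2v, sq,
      rot_mul]
  have hAB : A * B = 0 := by
    have e' : (QuotientGroup.mk (R ^ 4 * w') : PSL₂) = QuotientGroup.mk (w' * R ^ 4) := by
      rw [QuotientGroup.mk_mul, QuotientGroup.mk_mul, QuotientGroup.mk_pow]
      exact hcomm.eq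
    obtain ⟨z, hz, hz'⟩ : ∃ z ∈ Subgroup.center SL₂, w' * R ^ 4 = R ^ 4 * w' * z :=
      ⟨(R ^ 4 * w')⁻¹ * (w' * R ^ 4), QuotientGroup.eq.1 e', (mul_inv_cancel_left _ _).symm⟩
    obtain ⟨c, hc2, hcz⟩ := Matrix.SpecialLinearGroup.mem_center_iff.1 hz
    rw [Fintype.card_fin] at hc2
    have h00 := congrArg (fun s : SL₂ => (s : Matrix (Fin 2) (Fin 2) F) 0 0) hz'
    simp [hR4v, hw', SL2.mat_val, ← hcz, Matrix.mul_apply, Fin.sum_univ_two,
      Matrix.scalar_apply] at h00
    rcases (mul_self_eq_one_iff.1 ((sq c).symm.trans hc2)) with rfl | rfl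
    · have : B = 0 := by linear_combination -h00
      rw [this, mul_zero]
    · have : A = 0 := by
        refine mul_left_cancel₀ h2 ?_
        linear_combination -h00 - B * h3
      rw [this, zero_mul]
  have hQ8 : (Q ^ 4) ^ 2 = 1 := by
    rw [hQ, ← QuotientGroup.mk_pow, ← QuotientGroup.mk_pow]
    refine SL2.mk_eq_one_of_scalar (c := A * A - B * B) ?_
    rw [Matrix.SpecialLinearGroup.coe_pow, hR4v, sq, rot_mul]
    ext i j
    fin_cases i <;> fin_cases j <;> simp <;>
      first | linear_combination 2 * hAB | linear_combination (-2 : F) * hAB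
  have hQ4 : Q ^ 4 = 1 := eq_one_of_coprime_pow h7 hQ8 (by norm_num)
  rw [hQ, ← QuotientGroup.mk_pow] at hQ4
  have hB0 : B = 0 := by simpa [hR4v] using (SL2.central_entries hQ4).1
  have hC0 : C = 0 := by
    have : 2 * (C * D) = 0 := by rw [← hB0, hB]; ring
    simpa [h2, hD] using this
  refine (show ¬ IsSquare (-1 : F) by rw [FiniteField.isSquare_neg_one_iff, hF]; norm_num) ⟨a, ?_⟩
  rw [hCdef] at hC0
  linear_combination hC0 + hab - a * a * h3

/-- No element induces a field automorphism. -/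
theorem no_fieldElt (hq : 5 ≤ Fintype.card F) {φ : G} {σ : F ≃+* F} {r : ℕ}
    (h : FieldElt e φ σ r) : False := by
  classical
  obtain ⟨p, hchar⟩ := CharP.exists F
  have hp := CharP.char_is_prime F p
  haveI := Fact.mk hp
  obtain rfl := P.eq_char e hC hnil h (p := p)
  have hle : Nat.card (CfsgLib.FixedField.fixedSub σ) ≤ 3 := by
    refine le_trans ?_ (Finset.card_le_three (a := (0 : F)) (b := 1) (c := -1))
    rw [← Nat.card_eq_finsetCard]
    refine Nat.card_le_card_of_injective (fun x => (⟨(x : F), ?_⟩ : ({0, 1, -1} : Finset F)))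
      fun x y hxy => Subtype.ext (congrArg Subtype.val hxy :)
    rcases P.fixed_le_three e hC hnil h (a := (x : F)) x.2 with h0 | h1
    · simp [h0]
    · rcases mul_self_eq_one_iff.1 h1 with h1 | h1 <;> simp [h1]
  have hcard := CfsgLib.FixedField.card_pow σ h.order
  obtain ⟨n, -, hn⟩ := FiniteField.card F r
  have hdvd : r ∣ Nat.card (CfsgLib.FixedField.fixedSub σ) := hp.dvd_of_dvd_pow
    (hcard ▸ hn ▸ dvd_pow_self r n.pos.ne')
  generalize Nat.card (CfsgLib.FixedField.fixedSub σ) = c at hle hcard hdvd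
  have hc0 : c ≠ 0 := fun e' => by
    rw [e', zero_pow hp.ne_zero] at hcard
    exact Fintype.card_ne_zero hcard
  have := Nat.le_of_dvd (Nat.pos_of_ne_zero hc0) hdvd
  have := hp.two_le
  obtain rfl | rfl : r = 2 ∨ r = 3 := by omega
  · obtain rfl : c = 2 := by omega
    omega
  · obtain rfl : c = 3 := by omega
    exact P.false_27 e hC hnil h (by simpa using hcard)

omit hC hnil in
/-- `diag(l, 1)`. -/
def diagOne (l : Fˣ) : GL (Fin 2) F :=
  Matrix.GeneralLinearGroup.mkOfDetNeZero !![(l : F), 0; 0, 1]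
    (by rw [Matrix.det_fin_two_of]; simp)

omit hC hnil in
theorem diagOne_val (l : Fˣ) :
    ((diagOne l : GL (Fin 2) F) : Matrix (Fin 2) (Fin 2) F) = !![(l : F), 0; 0, 1] := rfl

omit hC hnil in
theorem det_diagOne (l : Fˣ) : ((diagOne l).det : F) = l := by
  rw [Matrix.GeneralLinearGroup.val_det_apply, diagOne_val, Matrix.det_fin_two_of]
  simp

omit hC hnil in
theorem eq_three_of_two_pow {m k : ℕ} (hm : 2 ≤ m) (h : m ^ 2 - 1 = 2 ^ k) : m = 3 := by
  obtain ⟨j, rfl⟩ : ∃ j, m = j + 2 := ⟨m - 2, by omega⟩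
  have h' : (j + 3) * (j + 1) = 2 ^ k := by
    rw [← h]
    exact (Nat.sub_eq_of_eq_add (by ring)).symm
  obtain ⟨a, -, ha⟩ := (Nat.dvd_prime_pow Nat.prime_two).1 (h' ▸ Dvd.intro_left _ rfl : j + 1 ∣ 2 ^ k)
  obtain ⟨b, -, hb⟩ := (Nat.dvd_prime_pow Nat.prime_two).1 (h' ▸ Dvd.intro _ rfl : j + 3 ∣ 2 ^ k)
  rcases a with _ | _ | a
  · simp only [pow_zero, Nat.add_eq_right] at ha
    subst ha
    rcases b with _ | _ | b <;> simp [pow_succ] at hb
    omega
  · simp at ha; omega
  · have h4a : 4 ∣ 2 ^ (a + 1 + 1) := ⟨2 ^ a, by ring⟩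
    rcases b with _ | _ | b
    · simp at hb
    · simp at hb
    · have h4b : 4 ∣ 2 ^ (b + 1 + 1) := ⟨2 ^ b, by ring⟩
      omega

set_option maxHeartbeats 1600000 in
/-- An element inducing a diagonal times a field automorphism of order two is impossible. -/
theorem no_twisted (hq : 5 ≤ Fintype.card F) {g : G} {σ : F ≃+* F} (hσ : orderOf σ = 2) {l : Fˣ}
    (hl : ∀ x : Fˣ, x ∈ Subgroup.zpowers l) (hns : ¬ IsSquare (l : F))
    (hg : act e g = toPSLAut (conjSL (diagOne l) * fieldSL σ)) : False := by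
  classical
  haveI := Fact.mk Nat.prime_two
  have hlo : orderOf l = Fintype.card F - 1 := by
    rw [orderOf_eq_card_of_forall_mem_zpowers hl, Nat.card_eq_fintype_card, Fintype.card_units]
  have hll : l * l ≠ 1 := fun e' => by
    have := orderOf_dvd_of_pow_eq_one (n := 2) (by rw [sq]; exact e' : l ^ 2 = 1)
    rw [hlo] at this
    have := Nat.le_of_dvd two_pos this
    omega
  have hl4 : l ^ 2 * l ≠ l := fun e' => hll (by rw [← sq]; exact mul_eq_right.1 e')
  obtain ⟨k, hk⟩ := SL2.exists_odd_pow hl (a := Units.map σ.toMonoidHom l)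
    (SL2.not_isSquare_map σ hns)
  have hkv : σ l = (l : F) ^ (2 * k + 1) := by
    have := congrArg Units.val hk
    simpa using this
  have hσ2 : σ ^ 2 = 1 := by rw [← hσ]; exact pow_orderOf_eq_one σ
  have hσl : σ l ≠ l := by
    intro e'
    have h1 : σ = 1 := RingEquiv.ext fun x => by
      by_cases hx : x = 0
      · rw [hx, map_zero]; rfl
      obtain ⟨n, hn⟩ := (Submonoid.mem_powers_iff _ _).1
        (mem_powers_iff_mem_zpowers.2 (hl (Units.mk0 x hx)))
      have := congrArg Units.val hn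
      simp only [Units.val_pow_eq_pow_val, Units.val_mk0] at this
      rw [← this, map_pow, e']
      rfl
    rw [h1, orderOf_one] at hσ
    omega
  -- `s² = l σ(l)` and `v² = l / σ(l)`
  set s : Fˣ := l ^ (k + 1) with hs
  set v : Fˣ := (l ^ k)⁻¹ with hv
  have hs2 : (s : F) * s = l * σ l := by rw [hs, hkv, Units.val_pow_eq_pow_val]; ring
  have hv2 : (v : F) * v * σ l = l := by
    rw [hv, hkv, Units.val_inv_eq_inv_val, Units.val_pow_eq_pow_val]
    have : (l : F) ^ k ≠ 0 := pow_ne_zero _ l.ne_zero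
    field_simp
    ring
  have hs1 : s * s ≠ 1 := by
    intro e'
    have hinv : ∀ x : F, x ≠ 0 → σ x * x = 1 := by
      intro x hx
      obtain ⟨n, hn⟩ := (Submonoid.mem_powers_iff _ _).1
        (mem_powers_iff_mem_zpowers.2 (hl (Units.mk0 x hx)))
      have hn' := congrArg Units.val hn
      simp only [Units.val_pow_eq_pow_val, Units.val_mk0] at hn'
      have he : σ l * (l : F) = 1 := by
        rw [mul_comm, ← hs2, ← Units.val_mul, e', Units.val_one]
      rw [← hn', map_pow, ← mul_pow, he, one_pow]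
    have hl1 : (l : F) + 1 ≠ 0 := fun e'' => hll (Units.ext (by
      rw [Units.val_mul, Units.val_one]; linear_combination ((l : F) - 1) * e''))
    have h := hinv _ hl1
    rw [map_add, map_one] at h
    have h' := hinv _ l.ne_zero
    -- `l² + l + 1 = 0` and the fixed element `2` equals its inverse
    have hq1 : (l : F) * l + l + 1 = 0 := by linear_combination (l : F) * h - ((l : F) + 1) * h'
    have h3 : (3 : F) = 0 := by
      by_cases h2 : (2 : F) = 0
      · exfalso
        have hl3 : l ^ 3 = 1 := Units.ext (by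
          rw [Units.val_pow_eq_pow_val, Units.val_one]
          linear_combination ((l : F) - 1) * hq1)
        have := orderOf_dvd_of_pow_eq_one hl3
        rw [hlo] at this
        have := Nat.le_of_dvd (by norm_num) this
        omega
      · have := hinv 2 h2
        rw [map_ofNat] at this
        linear_combination this
    refine hll ?_
    have h2 : ((l : F) - 1) * ((l : F) - 1) = 0 := by linear_combination hq1 - (l : F) * h3
    have h4 : (l : F) = 1 := sub_eq_zero.1 (mul_self_eq_zero.1 h2)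
    exact Units.ext (by rw [Units.val_mul, h4, one_mul, Units.val_one])
  have hv1 : v * v ≠ 1 := fun e' => hσl (by
    have := congrArg Units.val e'
    rw [Units.val_mul, Units.val_one] at this
    rw [this, one_mul] at hv2
    exact hv2)
  -- the component of the torus
  set c : PSL₂ := QuotientGroup.mk (SL2.dm l) with hc
  have hc1 : c ≠ 1 := fun e' => hll (SL2.mk_dm_eq_one_iff.1 e')
  have he1 : emb e c ≠ 1 := fun e' => hc1 (emb_injective e (e'.trans (map_one _).symm))
  set H := P.comp (emb e c) with hH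
  have hcH : emb e c ∈ H := P.mem _
  have hdmH : ∀ x : Fˣ, emb e (QuotientGroup.mk (SL2.dm x)) ∈ H := fun x => by
    obtain ⟨n, rfl⟩ := (Submonoid.mem_powers_iff _ _).1 (mem_powers_iff_mem_zpowers.2 (hl x))
    rw [map_pow, QuotientGroup.mk_pow, map_pow]
    exact pow_mem hcH n
  have hne : ∀ x : Fˣ, x * x ≠ 1 → emb e (QuotientGroup.mk (SL2.dm x)) ≠ 1 := fun x hx e' =>
    hx (SL2.mk_dm_eq_one_iff.1 (emb_injective e (e'.trans (map_one _).symm)))
  have hinj := act_injective e hC
  have hmapl : mapGL σ (diagOne l) = diagOne (Units.map σ.toMonoidHom l) := by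
    apply Units.ext
    ext i j
    fin_cases i <;> fin_cases j <;> simp [diagOne_val]
  have hsq : g ^ 2 = emb e (QuotientGroup.mk (SL2.dm s)) := hinj (by
    rw [map_pow, hg, ← map_pow, conjSL_fieldSL_pow, hσ2, map_one, mul_one, act_emb]
    refine SL2.toPSLAut_conjSL_scalar (s : F) ?_
    rw [twNorm_succ', twNorm_one, pow_one, hmapl, Units.val_mul, diagOne_val, diagOne_val,
      SL2.dm_val]
    ext i j
    fin_cases i <;> fin_cases j <;> simp [Matrix.mul_apply, Fin.sum_univ_two, hs2, mul_comm])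
  have hgH : g ∈ H := P.mem_of_pow_mem (n := 2) (hsq ▸ hdmH s) (hsq ▸ hne s hs1)
  set W : PSL₂ := QuotientGroup.mk SL2.wm with hW
  have hWc : W * c * W⁻¹ = c⁻¹ := by
    rw [mul_inv_eq_iff_eq_mul, hW, hc, ← QuotientGroup.mk_inv, ← QuotientGroup.mk_mul,
      ← QuotientGroup.mk_mul, ← map_inv SL2.dm]
    congr 1
    apply Subtype.ext
    simp only [Matrix.SpecialLinearGroup.coe_mul, SL2.wm, SL2.mat_val, SL2.dm_val]
    ext i j
    fin_cases i <;> fin_cases j <;> simp [Matrix.mul_apply, Fin.sum_univ_two]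
  by_cases hWH : emb e W ∈ H
  swap
  · -- the square of `g w` is a nontrivial torus element
    have hfix : act e g = toPSLAut (conjSL (diagOne l) * fieldSL σ) := hg
    have hwfix : fieldSL σ SL2.wm = SL2.wm := SL2.mat_fix σ _ (map_zero σ) (map_one σ)
      (by rw [map_neg, map_one]) (map_zero σ)
    have hact : act e (g * emb e W) =
        toPSLAut (conjSL (diagOne l * Matrix.SpecialLinearGroup.toGL SL2.wm) * fieldSL σ) := by
      rw [map_mul, hfix, act_emb, hW, ← toPSLAut_conj, ← map_mul, mul_assoc, ← conjSL_toGL,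
        fieldSL_mul_conjSL, map_mul conjSL, ← mul_assoc]
      congr 3
      congr 1
      apply Units.ext
      exact congrArg Subtype.val hwfix
    have hsq' : (g * emb e W) ^ 2 = emb e (QuotientGroup.mk (SL2.dm v)) := hinj (by
      rw [map_pow, hact, ← map_pow, conjSL_fieldSL_pow, hσ2, map_one, mul_one, act_emb]
      refine SL2.toPSLAut_conjSL_scalar (-(σ l) * v) ?_
      have hw : ((mapGL σ (Matrix.SpecialLinearGroup.toGL SL2.wm) : GL (Fin 2) F) :
          Matrix (Fin 2) (Fin 2) F) = !![0, 1; -1, 0] := by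
        ext i j
        fin_cases i <;> fin_cases j <;> simp [SL2.wm, SL2.mat_val]
      rw [twNorm_succ', twNorm_one, pow_one, map_mul, hmapl, Units.val_mul, Units.val_mul,
        Units.val_mul, hw, diagOne_val, diagOne_val, SL2.dm_val,
        show ((Matrix.SpecialLinearGroup.toGL SL2.wm : GL (Fin 2) F) : Matrix (Fin 2) (Fin 2) F) =
          !![0, 1; -1, 0] from rfl]
      ext i j
      fin_cases i <;> fin_cases j <;> simp [Matrix.mul_apply, Fin.sum_univ_two] <;>
        first | linear_combination hv2 | linear_combination -(1 : F) * hv2)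
    have hnot : g * emb e W ∉ H := fun e' => hWH (by simpa using mul_mem (inv_mem hgH) e')
    refine hne v hv1 ?_
    rw [← hsq']
    exact P.pow_eq_one_of_mem (hsq' ▸ hdmH v) hnot
  -- `w` lies in the nilpotent component
  have hK : Group.IsNilpotent H := hnil _ he1
  have hWinv : W⁻¹ = W := inv_eq_of_mul_eq_one_right SL2.wm_mul_self
  have hW2 : W ^ 2 ^ 1 = 1 := by rw [pow_one, sq]; exact SL2.wm_mul_self
  have hWo : orderOf W = 2 := orderOf_eq_prime (by simpa using hW2) SL2.mk_wm_ne_one
  -- no odd prime divides `q - 1`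
  have hodd : ∀ ℓ, ℓ.Prime → ℓ ∣ Fintype.card F - 1 → ℓ = 2 := by
    intro ℓ hℓ hd
    by_contra hℓ2
    set x := l ^ ((Fintype.card F - 1) / ℓ) with hx
    have hxo : orderOf x = ℓ := by
      rw [hx, ← hlo]
      exact orderOf_pow_orderOf_div (orderOf_pos l).ne' (hlo ▸ hd)
    have hxx : (QuotientGroup.mk (SL2.dm x) : PSL₂) ^ ℓ = 1 := by
      rw [← QuotientGroup.mk_pow, ← map_pow, ← hxo, pow_orderOf_eq_one, map_one,
        QuotientGroup.mk_one]
    have hcomm := P.commute_of_emb_mem e hK (hdmH x) hWH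
      (((Nat.coprime_primes hℓ Nat.prime_two).2 hℓ2).coprime_dvd_left
        (orderOf_dvd_of_pow_eq_one hxx) |>.coprime_dvd_right (dvd_of_eq hWo))
    obtain ⟨n, hn⟩ : ∃ n, x = l ^ n := ⟨_, hx⟩
    have hinv : W * QuotientGroup.mk (SL2.dm x) * W⁻¹ =
        (QuotientGroup.mk (SL2.dm x))⁻¹ := by
      rw [hn, map_pow, QuotientGroup.mk_pow, ← hc, ← conj_pow, hWc, inv_pow]
    rw [← hcomm.eq, mul_inv_cancel_right, eq_comm, inv_eq_iff_mul_eq_one, ← QuotientGroup.mk_mul,
      ← map_mul, SL2.mk_dm_eq_one_iff] at hinv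
    have h4 : x ^ 4 = 1 := by
      rw [show x ^ 4 = x * x * (x * x) by simp [pow_succ, mul_assoc]]
      exact hinv
    have := orderOf_dvd_of_pow_eq_one h4
    rw [hxo] at this
    exact hℓ2 ((Nat.prime_dvd_prime_iff_eq hℓ Nat.prime_two).1
      (hℓ.dvd_of_dvd_pow (show ℓ ∣ 2 ^ 2 from this)))
  -- so `q = 9`
  have hcard := CfsgLib.FixedField.card_pow σ hσ
  have hpow : Fintype.card F - 1 = 2 ^ ((Fintype.card F - 1).primeFactorsList.length) :=
    Nat.eq_prime_pow_of_unique_prime_dvd (by omega) fun {d} hd hdd => hodd d hd hdd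
  have hq9 : Fintype.card F = 9 := by
    rw [hcard] at hpow hq ⊢
    rw [eq_three_of_two_pow (by nlinarith) hpow]
    rfl
  have hl8 : (l : F) ^ 4 = -1 := by
    have h8 : ((l : F) ^ 4) * ((l : F) ^ 4) = 1 := by
      rw [← pow_add, ← Units.val_pow_eq_pow_val, show 4 + 4 = Fintype.card F - 1 by omega, ← hlo,
        pow_orderOf_eq_one, Units.val_one]
    refine (mul_self_eq_one_iff.1 h8).resolve_left fun e' => ?_
    have := orderOf_dvd_of_pow_eq_one (Units.ext (by simpa using e') : l ^ 4 = 1)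
    rw [hlo, hq9] at this
    norm_num at this
  have h3 : (3 : F) = 0 := by
    obtain ⟨p, hchar⟩ := CharP.exists F
    obtain ⟨n, hp, hn⟩ := FiniteField.card F p
    have h3p : p ∣ 3 ^ 2 := by
      rw [show 3 ^ 2 = Fintype.card F by rw [hq9]; rfl, hn]
      exact dvd_pow_self p n.pos.ne'
    obtain rfl := (Nat.prime_dvd_prime_iff_eq hp Nat.prime_three).1 (hp.dvd_of_dvd_pow h3p)
    exact_mod_cast CharP.cast_eq_zero F 3
  set i : F := (l : F) ^ 2 with hi
  have hi2 : i * i = -1 := by rw [hi]; linear_combination hl8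
  set R : SL₂ := SL2.mat i i (-i) i (by linear_combination 2 * hi2 - h3) with hR
  set Q : PSL₂ := QuotientGroup.mk R with hQ
  have hR2 : Q ^ 2 = W := by
    rw [hQ, hW, ← QuotientGroup.mk_pow]
    congr 1
    apply Subtype.ext
    rw [Matrix.SpecialLinearGroup.coe_pow, sq, hR, SL2.mat_val, SL2.wm, SL2.mat_val, rot_mul]
    ext a b
    fin_cases a <;> fin_cases b <;> simp <;>
      first | linear_combination 2 * hi2 - h3 | linear_combination -2 * hi2 + h3
  have hQH : emb e Q ∈ H := P.mem_of_pow_mem (n := 2) (by rw [← map_pow, hR2]; exact hWH) (by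
    rw [← map_pow, hR2]
    exact fun e' => SL2.mk_wm_ne_one (emb_injective e (e'.trans (map_one _).symm)))
  have hc8 : c ^ 2 ^ 3 = 1 := by
    rw [hc, ← QuotientGroup.mk_pow, ← map_pow, show 2 ^ 3 = Fintype.card F - 1 by omega, ← hlo,
      pow_orderOf_eq_one, map_one, QuotientGroup.mk_one]
  have hQ4 : Q ^ 2 ^ 2 = 1 := by rw [pow_succ 2 1, pow_mul, pow_one, hR2]; simpa using hW2
  obtain ⟨n, hn⟩ := P.exists_pow_mul_eq_one e hK hcH hQH hc8 hQ4
  set L : F := (l : F) with hL
  have hinvl : ((l⁻¹ : Fˣ) : F) * i = L := by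
    rw [hi, Units.val_inv_eq_inv_val, sq, ← mul_assoc, inv_mul_cancel₀ l.ne_zero, one_mul]
  have hX : ((SL2.dm l * R : SL₂) : Matrix (Fin 2) (Fin 2) F) = !![L ^ 3, L ^ 3; -L, L] := by
    rw [Matrix.SpecialLinearGroup.coe_mul, SL2.dm_val, hR, SL2.mat_val]
    ext a b
    fin_cases a <;> fin_cases b <;>
      simp only [Matrix.mul_apply, Fin.sum_univ_two] <;> simp <;>
      simp only [hi, Units.val_inv_eq_inv_val] <;> field_simp <;> ring
  have hX3 : (QuotientGroup.mk (SL2.dm l * R) : PSL₂) ^ 3 = 1 := by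
    rw [← QuotientGroup.mk_pow]
    refine SL2.mk_eq_one_of_scalar
      (c := (L ^ 6 - L ^ 4) * L ^ 3 + (L ^ 6 + L ^ 4) * (-L)) ?_
    rw [Matrix.SpecialLinearGroup.coe_pow, hX, pow_succ, sq]
    ext a b
    fin_cases a <;> fin_cases b <;> simp [Matrix.mul_apply, Fin.sum_univ_two]
    · ring
    · linear_combination L ^ 5 * hl8
    · linear_combination (-L ^ 3) * hl8
    · linear_combination (-(L ^ 3 * (L ^ 2 - 1))) * hl8
  rw [hc, hQ, ← QuotientGroup.mk_mul] at hn
  have hone := eq_one_of_coprime_pow hn hX3 (Nat.Coprime.pow_left n (by norm_num))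
  have h01 := (SL2.central_entries hone).1
  rw [hX] at h01
  simp [L] at h01

omit [Finite G] hC hnil in
/-- The action of any element is induced by a semilinear map. -/
theorem exists_semilinear (g : G) : ∃ (A : GL (Fin 2) F) (σ : F ≃+* F),
    act e g = toPSLAut (conjSL A * fieldSL σ) := by
  obtain ⟨A, σ, γ, hγ, h⟩ := exists_form le_rfl (act e g)
  rcases hγ with rfl | rfl
  · exact ⟨A, σ, by rw [h, mul_one]⟩
  · obtain ⟨w, hw⟩ := invTransSL_fin_two (F := F)
    refine ⟨A * mapGL σ w, σ, ?_⟩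
    rw [h, hw, mul_assoc, fieldSL_mul_conjSL, ← mul_assoc, ← map_mul conjSL]

/-- No element acts with a nontrivial field part. -/
theorem field_part_eq_one (hq : 5 ≤ Fintype.card F) {g : G} {A : GL (Fin 2) F} {σ : F ≃+* F}
    (hg : act e g = toPSLAut (conjSL A * fieldSL σ)) : σ = 1 := by
  classical
  haveI : Finite (F ≃+* F) := Finite.of_injective (fun σ : F ≃+* F => (σ : F → F)) DFunLike.coe_injective
  by_contra hσ
  obtain ⟨r, hr, hdvd⟩ := Nat.exists_prime_and_dvd (fun h => hσ (orderOf_eq_one_iff.1 h) :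
    orderOf σ ≠ 1)
  set k := orderOf σ / r
  have hτ : orderOf (σ ^ k) = r := orderOf_pow_orderOf_div (orderOf_pos σ).ne' hdvd
  have hgk : act e (g ^ k) = toPSLAut (conjSL (twNorm σ A k) * fieldSL (σ ^ k)) := by
    rw [map_pow, hg, ← map_pow, conjSL_fieldSL_pow]
  -- remove an inner factor
  have key : ∀ (g : G) (B : GL (Fin 2) F) (τ : F ≃+* F), IsSquare (B.det : F) →
      orderOf τ = r → act e g = toPSLAut (conjSL B * fieldSL τ) → False := by
    intro g B τ hB hτ hg
    obtain ⟨s, hs⟩ := SL2.exists_inner_of_isSquare hB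
    refine P.no_fieldElt e hC hnil hq (φ := (emb e (QuotientGroup.mk s))⁻¹ * g) (σ := τ) (r := r)
      ⟨hr, hτ, ?_⟩
    rw [map_mul, map_inv, act_emb, hg, map_mul toPSLAut, hs, inv_mul_cancel_left]
  set B := twNorm σ A k
  set τ := σ ^ k
  by_cases hB : IsSquare (B.det : F)
  · exact key _ B τ hB hτ hgk
  obtain ⟨l, hl⟩ := IsCyclic.exists_generator (α := Fˣ)
  have hns : ¬ IsSquare (l : F) := SL2.not_isSquare_generator hl hB
  by_cases hr2 : r = 2
  · subst hr2
    have hd : IsSquare ((B * (diagOne l)⁻¹).det : F) := by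
      rw [map_mul, Units.val_mul, map_inv, Units.val_inv_eq_inv_val, det_diagOne]
      exact SL2.isSquare_mul_of_not hB fun ⟨z, hz⟩ =>
        hns ⟨z⁻¹, by rw [← mul_inv, ← hz, inv_inv]⟩
    obtain ⟨s, hs⟩ := SL2.exists_inner_of_isSquare hd
    refine P.no_twisted e hC hnil hq (g := (emb e (QuotientGroup.mk s))⁻¹ * g ^ k) hτ hl hns ?_
    rw [map_mul, map_inv, act_emb, hgk, ← hs, ← map_inv, ← map_mul, ← mul_assoc, ← map_inv conjSL,
      ← map_mul conjSL, _root_.mul_inv_rev, inv_inv, inv_mul_cancel_right]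
  · refine key ((g ^ k) ^ 2) (twNorm τ B 2) (τ ^ 2) ?_ ?_ (by
      rw [map_pow, hgk, ← map_pow, conjSL_fieldSL_pow])
    · rw [twNorm_succ', twNorm_one, pow_one, map_mul, Units.val_mul]
      refine SL2.isSquare_mul_of_not hB ?_
      rw [Matrix.GeneralLinearGroup.val_det_apply,
        show ((mapGL τ B : GL (Fin 2) F) : Matrix (Fin 2) (Fin 2) F) =
          τ.toRingHom.mapMatrix (B : Matrix (Fin 2) (Fin 2) F) from rfl,
        ← RingHom.map_det, ← Matrix.GeneralLinearGroup.val_det_apply]
      exact SL2.not_isSquare_map τ hB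
    · rw [Nat.Coprime.orderOf_pow, hτ]
      rw [hτ]
      exact (Nat.coprime_primes hr Nat.prime_two).2 hr2

include e in
/-- The classification for fields with at least five elements. -/
theorem psl_extension_aux (hq : 5 ≤ Fintype.card F) :
    (∃ (F : Type) (_ : Field F) (_ : Fintype F), 4 ≤ Fintype.card F ∧
        Nonempty (G ≃* Matrix.ProjectiveSpecialLinearGroup (Fin 2) F)) ∨
    (∃ (F : Type) (_ : Field F) (_ : Fintype F), 5 ≤ Fintype.card F ∧ Odd (Fintype.card F) ∧
        Nonempty (G ≃* (GL (Fin 2) F ⧸ Subgroup.center (GL (Fin 2) F)))) := by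
  classical
  obtain ⟨p, hp⟩ := CharP.exists F
  haveI := Fact.mk (CharP.char_is_prime F p)
  have hinj := act_injective e hC
  have hlin : ∀ g : G, ∃ A : GL (Fin 2) F, act e g = toPSLAut (conjSL A) := fun g => by
    obtain ⟨A, σ, h⟩ := exists_semilinear e g
    refine ⟨A, ?_⟩
    rw [h, P.field_part_eq_one e hC hnil hq h, map_one, mul_one]
  choose A hA using hlin
  by_cases hall : ∀ g, IsSquare ((A g).det : F)
  · refine Or.inl ⟨F, inferInstance, inferInstance, by omega, ⟨?_⟩⟩
    refine (MulEquiv.ofBijective (emb e) ⟨emb_injective e, fun g => ?_⟩).symm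
    obtain ⟨s, hs⟩ := SL2.exists_inner_of_isSquare (hall g)
    exact ⟨QuotientGroup.mk s, hinj (by rw [act_emb, hA, hs])⟩
  · push Not at hall
    obtain ⟨g, hg⟩ := hall
    refine Or.inr ⟨F, inferInstance, inferInstance, hq, ?_, ⟨?_⟩⟩
    · refine Nat.not_even_iff_odd.1 fun he => hg ?_
      exact FiniteField.isSquare_of_char_two
        (FiniteField.even_card_iff_char_two.2 (Nat.even_iff.1 he)) _
    let f : GL (Fin 2) F →* MulAut PSL₂ := toPSLAut.comp conjSL
    have hker : f.ker = Subgroup.center (GL (Fin 2) F) := by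
      ext B
      rw [MonoidHom.mem_ker, MonoidHom.comp_apply, map_eq_one_iff _ (toPSLAut_injective p),
        conjSL_eq_one_iff, Matrix.GeneralLinearGroup.center_eq_range_scalar, MonoidHom.mem_range]
      simp [eq_comm]
    have hrange : (act e).range = f.range := by
      apply le_antisymm
      · rintro _ ⟨x, rfl⟩
        exact ⟨A x, (hA x).symm⟩
      · rintro _ ⟨B, rfl⟩
        show toPSLAut (conjSL B) ∈ (act e).range
        by_cases hB : IsSquare (B.det : F)
        · obtain ⟨s, hs⟩ := SL2.exists_inner_of_isSquare hB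
          exact ⟨emb e (QuotientGroup.mk s), by rw [act_emb, hs]⟩
        · obtain ⟨l, hl⟩ := IsCyclic.exists_generator (α := Fˣ)
          have hd : IsSquare ((B * (A g)⁻¹).det : F) := by
            rw [map_mul, Units.val_mul, map_inv, Units.val_inv_eq_inv_val]
            exact SL2.isSquare_mul_of_not hB fun ⟨z, hz⟩ =>
              hg ⟨z⁻¹, by rw [← mul_inv, ← hz, inv_inv]⟩
          obtain ⟨s, hs⟩ := SL2.exists_inner_of_isSquare hd
          refine ⟨emb e (QuotientGroup.mk s) * g, ?_⟩
          rw [map_mul, act_emb, hA, ← hs, ← map_mul, ← map_mul conjSL, inv_mul_cancel_right]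
    exact (MonoidHom.ofInjective hinj).trans ((MulEquiv.subgroupCongr hrange).trans
      ((QuotientGroup.quotientKerEquivRange f).symm.trans
        (QuotientGroup.quotientMulEquivOfEq hker)))

end Part

namespace Part

variable {G : Type u} [Group G] [Finite G] (P : Part G) {M : Subgroup G} [M.Normal]

/-- **Partitioned groups with socle `PSL₂(q)`** are `PSL₂(q)` or `PGL₂(q)`. -/
theorem psl_extension [IsSimpleGroup M] (hna : ∃ a b : M, a * b ≠ b * a)
    (hC : Subgroup.centralizer (M : Set G) = ⊥)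
    (hnil : ∀ g : G, g ≠ 1 → Group.IsNilpotent (P.comp g))
    {F : Type} [Field F] [Fintype F] (e : M ≃* Matrix.ProjectiveSpecialLinearGroup (Fin 2) F) :
    (∃ (F : Type) (_ : Field F) (_ : Fintype F), 4 ≤ Fintype.card F ∧
        Nonempty (G ≃* Matrix.ProjectiveSpecialLinearGroup (Fin 2) F)) ∨
    (∃ (F : Type) (_ : Field F) (_ : Fintype F), 5 ≤ Fintype.card F ∧ Odd (Fintype.card F) ∧
        Nonempty (G ≃* (GL (Fin 2) F ⧸ Subgroup.center (GL (Fin 2) F)))) := by
  classical
  have hns : ¬ Group.IsSolvable M := fun h => by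
    obtain ⟨a, b, hab⟩ := hna
    exact hab (IsSimpleGroup.comm_iff_isSolvable.2 h a b)
  have hq : 4 ≤ Fintype.card F := by
    by_contra hlt
    refine hns (CfsgLib.Characters.isSolvable_of_card_eq_primePow_mul 2 3 2 1 Nat.prime_two
      Nat.prime_three ?_)
    rw [Nat.card_congr e.toEquiv]
    have := Fintype.one_lt_card (α := F)
    rcases (by omega : Fintype.card F = 2 ∨ Fintype.card F = 3) with h | h
    · rw [CfsgLib.Linear.card_PSL_two_even (by rw [h]; exact even_two), h]; norm_num
    · have := CfsgLib.Linear.card_PSL_two_odd (F := F) (by rw [h]; decide)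
      rw [h] at this
      have h12 : Nat.card (Matrix.ProjectiveSpecialLinearGroup (Fin 2) F) = 12 := by omega
      rw [h12]; norm_num
  rcases hq.eq_or_lt with h4 | h5
  · haveI : Fact (Nat.Prime 5) := ⟨Nat.prime_five⟩
    obtain ⟨e4⟩ := Cfsg.Agent.S0252.result h4.symm
    obtain ⟨e5⟩ := Cfsg.Agent.S0253.result (F := ZMod 5) (ZMod.card 5)
    exact P.psl_extension_aux (e.trans (e4.trans e5.symm)) hC hnil (by rw [ZMod.card])
  · exact P.psl_extension_aux e hC hnil h5

end Part

end CfsgLib.GroupPartition
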