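import Cfsg.Agent.GroupPartition.Action
import Cfsg.Agent.AutSuzuki.Basic
import Cfsg.Agent.Suzuki.LieModel

/-!
# Groups with a partition and socle a Suzuki group

If all components of a partition of `G` are nilpotent and `G` has a normal subgroup with trivial
centraliser isomorphic to a Suzuki group, then `G` is that Suzuki group.
-/

set_option autoImplicit false
set_option linter.unusedSectionVars false
set_option linter.style.haveILetI false

namespace CfsgLib.GroupPartition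

open CfsgLib.Suzuki CfsgLib.AutSuzuki

universe u

namespace Part

variable {G : Type u} [Group G] [Finite G] (P : Part G) {M : Subgroup G} [M.Normal]

theorem weyl_uni_pow_five {F : Type} [Field F] [Fintype F] {m : ℕ} (hS : SzField F m) :
    (weylEl hS * uniEl hS 0 1) ^ 5 = 1 := by
  haveI := hS.charP
  let X : Matrix (Fin 4) (Fin 4) (ZMod 2) :=
    !![0, 0, 0, 1; 0, 0, 1, 0; 0, 1, 0, 1; 1, 0, 1, 1]
  have hX : X ^ 5 = 1 := by decide
  apply Subtype.ext
  apply Subtype.ext
  have hval : (weylMat : Matrix (Fin 4) (Fin 4) F) * uniMat m 0 1 =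
      (ZMod.castHom (dvd_refl 2) F).mapMatrix X := by
    ext i j
    fin_cases i <;> fin_cases j <;>
      simp [X, weylMat, uniMat, szF, θ, Matrix.mul_apply, Fin.sum_univ_four]
  rw [SubmonoidClass.coe_pow, Matrix.SpecialLinearGroup.coe_pow, Subgroup.coe_mul,
    Matrix.SpecialLinearGroup.coe_mul, uniEl_val, uni_val,
    show ((weylEl hS : Cfsg.Sz F m) : Matrix.SpecialLinearGroup (Fin 4) F) = weyl from rfl,
    weyl_val, hval, ← map_pow, hX, map_one]
  rfl

/-- **Partitioned groups with socle a Suzuki group** are Suzuki groups. -/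
theorem suzuki_extension (hC : Subgroup.centralizer (M : Set G) = ⊥)
    (hnil : ∀ g : G, g ≠ 1 → Group.IsNilpotent (P.comp g))
    (hM : Cfsg.Lie.IsoSuzuki M) : Cfsg.Lie.IsoSuzuki G := by
  classical
  obtain ⟨F, _, _, m, hm, hF, ⟨e₀⟩⟩ := hM
  have hS : SzField F m := ⟨hm, hF⟩
  haveI := hS.charP
  haveI : Finite (F ≃+* F) := Finite.of_injective (fun σ : F ≃+* F => (σ : F → F)) DFunLike.coe_injective
  haveI := Fact.mk Nat.prime_two
  set e : M ≃* Cfsg.Sz F m := e₀.trans (lieSzEquiv hS).symm with he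
  have hinj := act_injective e hC
  have hform : ∀ g : G, ∃ (σ : F ≃+* F) (a : Cfsg.Sz F m),
      act e g = MulAut.conj a * fieldAut hS σ := fun g => by
    obtain ⟨σ, hσ⟩ := (fieldOut_bijective hS).2 (QuotientGroup.mk (act e g))
    have h1 : act e g * (fieldAut hS σ)⁻¹ ∈ Cfsg.Inn (Cfsg.Sz F m) := by
      rw [← QuotientGroup.eq_one_iff, QuotientGroup.mk_mul, QuotientGroup.mk_inv, mul_inv_eq_one]
      exact hσ.symm
    obtain ⟨a, ha⟩ := h1
    exact ⟨σ, a, by rw [ha, inv_mul_cancel_right]⟩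
  suffices key : ∀ g : G, ∃ a, act e g = MulAut.conj a by
    refine ⟨F, inferInstance, inferInstance, m, hm, hF, ⟨?_⟩⟩
    refine MulEquiv.trans ?_ (lieSzEquiv hS)
    refine (MulEquiv.ofBijective (emb e) ⟨emb_injective e, fun g => ?_⟩).symm
    obtain ⟨a, ha⟩ := key g
    exact ⟨a, hinj (by rw [act_emb, ha])⟩
  intro g
  obtain ⟨σ, a, ha⟩ := hform g
  by_cases hσ1 : σ = 1
  · exact ⟨a, by rw [ha, hσ1, map_one, mul_one]⟩
  exfalso
  have hmk : ∀ (g : G) (σ : F ≃+* F) (a : Cfsg.Sz F m), act e g = MulAut.conj a * fieldAut hS σ →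
      (QuotientGroup.mk (act e g) : Cfsg.Out (Cfsg.Sz F m)) = fieldOut hS σ := fun g σ a h => by
    rw [h, QuotientGroup.mk_mul, (QuotientGroup.eq_one_iff (N := Cfsg.Inn (Cfsg.Sz F m)) (MulAut.conj a)).2 ⟨a, rfl⟩,
      one_mul]
    rfl
  obtain ⟨r, hr, hdvd⟩ := Nat.exists_prime_and_dvd (fun h => hσ1 (orderOf_eq_one_iff.1 h) :
    orderOf σ ≠ 1)
  have hr2 : r ≠ 2 := by
    rintro rfl
    have h2 := hdvd.trans (orderOf_dvd_natCard σ)
    rw [card_ringAut hS] at h2
    omega
  set k := orderOf σ / r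
  have hτ : orderOf (σ ^ k) = r := orderOf_pow_orderOf_div (orderOf_pos σ).ne' hdvd
  obtain ⟨σ', b, hb⟩ := hform (g ^ k)
  have hσ' : σ' = σ ^ k := (fieldOut_bijective hS).1 (by
    rw [map_pow, ← hmk g σ a ha, ← hmk _ σ' b hb, map_pow, QuotientGroup.mk_pow])
  subst hσ'
  set φ := (emb e b)⁻¹ * g ^ k with hφdef
  have hact : act e φ = fieldAut hS (σ ^ k) := by
    rw [hφdef, map_mul, map_inv, act_emb, hb, inv_mul_cancel_left]
  have hfinj : Function.Injective (fieldAut (F := F) hS) := fun x y hxy =>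
    (fieldOut_bijective hS).1 (congrArg (QuotientGroup.mk' (Cfsg.Inn (Cfsg.Sz F m))) hxy)
  have hφo : orderOf φ = r := by
    rw [← orderOf_injective (act e) hinj, hact, orderOf_injective _ hfinj, hτ]
  have hφ1 : φ ≠ 1 := fun h => hr.ne_one (by rw [← hφo, h, orderOf_one])
  set t := uniEl hS (0 : F) 1 with ht
  set w := weylEl hS with hw
  have htf : fieldAut hS (σ ^ k) t = t := Subtype.ext (by
    show Matrix.SpecialLinearGroup.map (σ ^ k).toRingHom (uni m 0 1) = uni m 0 1
    rw [map_uni, map_zero, map_one])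
  have hwf : fieldAut hS (σ ^ k) w = w := Subtype.ext (map_weyl (σ ^ k))
  have ht2 : t ^ 2 = 1 := by
    rw [sq, ht, uniEl_mul, ← uniEl_zero hS]
    congr 1 <;> simp [θ, CharTwo.add_self_eq_zero]
  have hw2 : w ^ 2 = 1 := by
    rw [sq]
    exact Subtype.ext weyl_mul_weyl
  have ht1 : t ≠ 1 := fun h => by
    rw [ht, ← uniEl_zero hS, uniEl_eq_iff] at h
    exact one_ne_zero h.2
  have hw1 : w ≠ 1 := fun h => by
    have := congrArg (fun x : Cfsg.Sz F m =>
      ((x : Matrix.SpecialLinearGroup (Fin 4) F) : Matrix (Fin 4) (Fin 4) F) 0 0) h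
    simp [hw, weylEl, weyl_val, weylMat] at this
  have hmem : ∀ x : Cfsg.Sz F m, fieldAut hS (σ ^ k) x = x → x ^ 2 = 1 → x ≠ 1 →
      emb e x ∈ P.comp φ := fun x hfix hx2 hx1 => by
    refine P.emb_mem_of_fixed e hφ1 hx1 (by rw [hact, hfix]) ?_
    rw [hφo, orderOf_eq_prime hx2 hx1]
    exact hr2.symm
  obtain ⟨i, hi⟩ := P.exists_pow_mul_eq_one e (hnil φ hφ1) (hmem w hwf hw2 hw1)
    (hmem t htf ht2 ht1) (i := 1) (j := 1) (by simpa using hw2) (by simpa using ht2)
  have h5 := weyl_uni_pow_five hS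
  have hwt : w * t = 1 := by
    have := pow_gcd_eq_one.2 ⟨hi, h5⟩
    rwa [(Nat.Coprime.pow_left i (by norm_num : Nat.Coprime 2 5)).gcd_eq_one, pow_one] at this
  have h0 := congrArg (fun x : Cfsg.Sz F m =>
    ((x : Matrix.SpecialLinearGroup (Fin 4) F) : Matrix (Fin 4) (Fin 4) F) 0 0) hwt
  simp [hw, ht, weylEl, uniEl, weyl_val, uni_val, weylMat, uniMat, Matrix.mul_apply,
    Fin.sum_univ_four] at h0

end Part

end CfsgLib.GroupPartition
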