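import Cfsg.Agent.GroupPartition.Tools
import Cfsg.Agent.Small.BaerSuzuki
import Cfsg.Agent.Small.Order24

/-!
# A partition without normal component and a nontrivial abelian normal subgroup

Such a group has a Frobenius complement, or has exponent `p`, or is `S₄`.
-/

set_option autoImplicit false
set_option linter.style.haveILetI false
set_option linter.unusedSectionVars false

namespace CfsgLib.GroupPartition

open Subgroup

universe u

variable {G : Type u} [Group G]

/-- An `r`-element fixes a non-identity element of a normal subgroup of order divisible by `r`. -/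
theorem exists_commute_of_rElement [Finite G] {A : Subgroup G} [A.Normal] {r k : ℕ}
    [Fact r.Prime] {g : G} (hg : g ^ r ^ k = 1) (hd : r ∣ Nat.card A) :
    ∃ a ∈ A, a ≠ 1 ∧ Commute g a := by
  haveI := Fintype.ofFinite A
  let σ : Equiv.Perm A := (MulAut.conjNormal g : MulAut A).toEquiv
  have hσ : ∀ (n : ℕ) (x : A), (σ ^ n) x = (MulAut.conjNormal (g ^ n) : MulAut A) x := by
    intro n
    induction n with
    | zero => intro x; simp
    | succ n ih =>
      intro x
      rw [pow_succ', Equiv.Perm.mul_apply, ih, pow_succ', map_mul]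
      rfl
  obtain ⟨a, ha, ha1⟩ := Equiv.Perm.exists_fixed_point_of_prime' (p := r) (n := k) (σ := σ)
    (by rwa [← Nat.card_eq_fintype_card])
    (Equiv.ext fun x => by rw [hσ, hg, map_one]; rfl) (a := 1) (map_one (MulAut.conjNormal g : MulAut A))
  exact ⟨a, a.2, fun e => ha1 (Subtype.ext e), mul_inv_eq_iff_eq_mul.1 (congrArg Subtype.val ha)⟩

/-- A quotient-free form of `Nat.card (f.range) * Nat.card (f.ker) = Nat.card A`. -/
theorem card_range_mul_card_ker {A B : Type*} [Group A] [Group B] (f : A →* B) :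
    Nat.card f.range * Nat.card f.ker = Nat.card A := by
  rw [← index_ker, mul_comm, card_mul_index]

/-- Two subgroups of a subgroup meeting trivially. -/
theorem card_mul_card_le [Finite G] {A B C : Subgroup G} (hB : B ≤ A) (hC : C ≤ A)
    (h : ∀ x ∈ B, x ∈ C → x = 1) : Nat.card B * Nat.card C ≤ Nat.card A := by
  rw [← Nat.card_prod]
  refine Nat.card_le_card_of_injective
    (fun p : B × C => (⟨p.1 * p.2, mul_mem (hB p.1.2) (hC p.2.2)⟩ : A)) ?_
  rintro ⟨a, b⟩ ⟨a', b'⟩ he
  have he' : (a : G) * b = a' * b' := congrArg Subtype.val he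
  have h1 : (a' : G)⁻¹ * a = b' * (b : G)⁻¹ := by
    calc (a' : G)⁻¹ * a = (a' : G)⁻¹ * ((a : G) * b) * (b : G)⁻¹ := by group
      _ = _ := by rw [he']; group
  have h2 : (a' : G)⁻¹ * a = 1 :=
    h _ (mul_mem (inv_mem a'.2) a.2) (h1 ▸ mul_mem b'.2 (inv_mem b.2))
  have ha : a = a' := Subtype.ext (inv_mul_eq_one.1 h2).symm
  subst ha
  exact Prod.ext rfl (Subtype.ext (mul_left_cancel he'))

/-- The map `v ↦ [v, g]` on an abelian normal subgroup. -/
noncomputable def commHom (A : Subgroup G) [A.Normal] [IsMulCommutative A] (g : G) : A →* A where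
  toFun v := ⟨v * (g * (v : G)⁻¹ * g⁻¹),
    mul_mem v.2 ((inferInstance : A.Normal).conj_mem _ (inv_mem v.2) g)⟩
  map_one' := Subtype.ext (by simp)
  map_mul' v w := by
    refine Subtype.ext ?_
    show (v : G) * w * (g * ((v : G) * w)⁻¹ * g⁻¹) =
      v * (g * (v : G)⁻¹ * g⁻¹) * (w * (g * (w : G)⁻¹ * g⁻¹))
    have h1 := congrArg Subtype.val (IsMulCommutative.is_comm.comm
      (⟨w, w.2⟩ : A) ⟨g * (v : G)⁻¹ * g⁻¹, (inferInstance : A.Normal).conj_mem _ (inv_mem v.2) g⟩)
    have h2 : (v : G) * w = w * v := congrArg Subtype.val (IsMulCommutative.is_comm.comm v w)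
    simp only [Subgroup.coe_mul] at h1
    calc (v : G) * w * (g * ((v : G) * w)⁻¹ * g⁻¹)
        = v * w * (g * (v : G)⁻¹ * g⁻¹ * (g * (w : G)⁻¹ * g⁻¹)) := by rw [h2]; group
      _ = v * ((w : G) * (g * (v : G)⁻¹ * g⁻¹)) * (g * (w : G)⁻¹ * g⁻¹) := by group
      _ = v * ((g * (v : G)⁻¹ * g⁻¹) * w) * (g * (w : G)⁻¹ * g⁻¹) := by rw [h1]
      _ = _ := by group

theorem mem_ker_commHom {A : Subgroup G} [A.Normal] [IsMulCommutative A] {g : G} {v : A} :
    v ∈ (commHom A g).ker ↔ Commute g (v : G) := by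
  rw [MonoidHom.mem_ker, Subtype.ext_iff]
  show (v : G) * (g * (v : G)⁻¹ * g⁻¹) = 1 ↔ _
  constructor
  · intro h
    show g * (v : G) = v * g
    calc g * (v : G) = ((v : G) * (g * (v : G)⁻¹ * g⁻¹))⁻¹ * v * g := by group
      _ = v * g := by rw [h, inv_one, one_mul]
  · intro h
    calc (v : G) * (g * (v : G)⁻¹ * g⁻¹) = (v : G) * g * (g * v)⁻¹ := by group
      _ = 1 := by rw [h.eq, mul_inv_cancel]

/-- Group facts about the dihedral group generated by two involutions. -/
theorem exists_odd_inverted [Finite G] {x : G} (hx : orderOf x = 2)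
    (hcore : ∀ N : Subgroup G, N.Normal → IsPGroup 2 N → N = ⊥) :
    ∃ c : G, ∃ q : ℕ, q.Prime ∧ q ≠ 2 ∧ orderOf c = q ∧ x * c * x⁻¹ = c⁻¹ := by
  haveI := Fact.mk Nat.prime_two
  by_contra hcon
  push Not at hcon
  suffices hall : ∀ g : G, IsPGroup 2 ↥(closure ({x, g * x * g⁻¹} : Set G)) by
    obtain ⟨N, hN, hNp, hxN⟩ := CfsgLib.Small.baerSuzuki_elem (p := 2) x hall
    rw [hcore N hN hNp, mem_bot] at hxN
    rw [hxN, orderOf_one] at hx
    exact absurd hx (by norm_num)
  intro g
  set y := g * x * g⁻¹ with hy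
  have hyo : orderOf y = 2 := by rw [hy, CfsgLib.Small.orderOf_conj_eq, hx]
  have hinv : x * (x * y) * x⁻¹ = (x * y)⁻¹ := CfsgLib.Small.invol_conj_mul hx hyo
  have hxy : ∃ k, orderOf (x * y) = 2 ^ k := by
    refine ⟨_, Nat.eq_prime_pow_of_unique_prime_dvd (orderOf_pos _).ne' fun {q} hq hd => ?_⟩
    by_contra hne
    refine hcon ((x * y) ^ (orderOf (x * y) / q)) q hq hne
      (orderOf_pow_orderOf_div (orderOf_pos _).ne' hd) ?_
    exact CfsgLib.Small.invol_conj_pow hinv _
  obtain ⟨k, hk⟩ := hxy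
  rintro ⟨d, hd⟩
  obtain ⟨i, hi | hi⟩ := CfsgLib.Small.mem_closure_pair_invol hx hyo hd
  · refine ⟨k, Subtype.ext ?_⟩
    show d ^ 2 ^ k = 1
    rw [hi, ← zpow_natCast, ← zpow_mul, mul_comm, zpow_mul, zpow_natCast, ← hk, pow_orderOf_eq_one,
      one_zpow]
  · refine ⟨1, Subtype.ext ?_⟩
    show d ^ 2 ^ 1 = 1
    have hxi := CfsgLib.Small.invol_conj_zpow hinv i
    rw [pow_one, sq, hi]
    calc x * (x * y) ^ i * (x * (x * y) ^ i)
        = (x * (x * y) ^ i * x⁻¹) * (x * x) * (x * y) ^ i := by group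
      _ = 1 := by rw [hxi, CfsgLib.Small.mul_self_of_orderOf_two hx, mul_one, inv_mul_cancel]

namespace Part

variable [Finite G] (P : Part G) (A : Subgroup G) [A.Normal] [IsMulCommutative A] {r : ℕ}

/-- The standing hypotheses. -/
structure FitHyp (r : ℕ) : Prop where
  prime : r.Prime
  ne_bot : A ≠ ⊥
  exp : ∀ a ∈ A, a ^ r = 1
  not_le : ∀ g, ¬ A ≤ P.comp g
  minimal : ∀ M : Subgroup G, M.Normal → M ≤ A → M = ⊥ ∨ M = A

variable {P A}

theorem not_le_of_no_normal (hnn : ∀ g : G, g ≠ 1 → ¬ (P.comp g).Normal) (hA : A ≠ ⊥) (g : G) :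
    ¬ A ≤ P.comp g := by
  intro hle
  obtain ⟨a, ha, ha1⟩ := exists_mem_ne_one hA
  refine hnn a ha1 ⟨fun y hy x => ?_⟩
  have hx := P.mem_normalizer_of_conj_mem (x := x) (hle ha) ha1
    (hle ((inferInstance : A.Normal).conj_mem a ha x))
  rw [P.eq_of_mem (hle ha) ha1] at hy ⊢
  exact (mem_normalizer_iff.1 hx y).1 hy

namespace FitHyp

variable (h : FitHyp P A r)
include h

theorem orderOf_eq {a : G} (ha : a ∈ A) (ha1 : a ≠ 1) : orderOf a = r :=
  haveI := Fact.mk h.prime
  orderOf_eq_prime (h.exp a ha) ha1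

theorem dvd_card : r ∣ Nat.card A := by
  obtain ⟨a, ha, ha1⟩ := exists_mem_ne_one h.ne_bot
  rw [← h.orderOf_eq ha ha1]
  exact Subgroup.orderOf_dvd_natCard A ha

/-- `A` normalises the components of the elements commuting with one of its elements. -/
theorem commutator_mem {a b k g : G} (hb : b ∈ A) (hg : a ∈ P.comp g) (ha1 : a ≠ 1)
    (hab : Commute b a) (hk : k ∈ P.comp g) :
    b * k * b⁻¹ * k⁻¹ ∈ A ∧ b * k * b⁻¹ * k⁻¹ ∈ P.comp g := by
  refine ⟨?_, mul_mem ((mem_normalizer_iff.1 (P.mem_normalizer_of_commute hg ha1 hab) k).1 hk)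
    (inv_mem hk)⟩
  rw [show b * k * b⁻¹ * k⁻¹ = b * (k * b⁻¹ * k⁻¹) by group]
  exact mul_mem hb ((inferInstance : A.Normal).conj_mem _ (inv_mem hb) k)

theorem commute_mem {a b : G} (ha : a ∈ A) (hb : b ∈ A) : Commute a b :=
  congrArg Subtype.val (IsMulCommutative.is_comm.comm (⟨a, ha⟩ : A) ⟨b, hb⟩)

/-- The component of a non-identity element of `A` has no element of prime order other than `r`. -/
theorem prime_eq {a k : G} {q : ℕ} (ha : a ∈ A) (ha1 : a ≠ 1) (hk : k ∈ P.comp a) (hq : q.Prime)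
    (hko : orderOf k = q) : q = r := by
  classical
  by_contra hne
  have hk1 : k ≠ 1 := fun e => hq.ne_one (by rw [← hko, e, orderOf_one])
  refine h.not_le a fun b hb => ?_
  have hkq : k ^ q = 1 := by rw [← hko]; exact pow_orderOf_eq_one k
  let θ : MulAut A := MulAut.conjNormal k
  haveI : Fact q.Prime := ⟨hq⟩
  let bA : A := ⟨b, hb⟩
  open scoped IsMulCommutative in
  set Nv : A := ∏ i ∈ Finset.range q, (θ ^ i) bA with hNv
  have hθq : θ ^ q = 1 := by
    show (MulAut.conjNormal k : MulAut A) ^ q = 1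
    rw [← map_pow, hkq, map_one]
  open scoped IsMulCommutative in
  have hfix : θ Nv = Nv := by
    have h1 : θ Nv * bA = Nv * bA := by
      rw [hNv, map_prod]
      have e : (∏ i ∈ Finset.range q, θ ((θ ^ i) bA)) * bA =
          ∏ i ∈ Finset.range (q + 1), (θ ^ i) bA := by
        rw [Finset.prod_range_succ']
        simp [pow_succ', MulAut.mul_apply]
      rw [e, Finset.prod_range_succ, hθq, MulAut.one_apply]
    exact mul_right_cancel h1
  have hNK : (Nv : G) ∈ P.comp a := by
    by_cases hN1 : (Nv : G) = 1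
    · rw [hN1]; exact one_mem _
    rw [← P.eq_of_mem hk hk1]
    refine P.mem_comp_of_orderOf_ne hk1 hN1 ?_ (by rw [hko, h.orderOf_eq Nv.2 hN1]; exact Ne.symm hne)
    exact mul_inv_eq_iff_eq_mul.1 (congrArg Subtype.val hfix)
  open scoped IsMulCommutative in
  have hdiff : ((∏ i ∈ Finset.range q, bA⁻¹ * (θ ^ i) bA : A) : G) ∈ P.comp a := by
    have : (∏ i ∈ Finset.range q, bA⁻¹ * (θ ^ i) bA) ∈ (P.comp a).subgroupOf A := by
      refine prod_mem fun i _ => ?_
      rw [mem_subgroupOf]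
      have := (h.commutator_mem (inv_mem hb) (P.mem a) ha1 (h.commute_mem (inv_mem hb) ha)
        (pow_mem hk i)).2
      simp only [inv_inv] at this
      simp only [Subgroup.coe_mul, InvMemClass.coe_inv, θ, ← map_pow, MulAut.conjNormal_apply]
      simpa [bA, mul_assoc] using this
    exact this
  open scoped IsMulCommutative in
  have hbq : b ^ q ∈ P.comp a := by
    have e : bA ^ q = Nv * (∏ i ∈ Finset.range q, bA⁻¹ * (θ ^ i) bA)⁻¹ := by
      rw [Finset.prod_mul_distrib, Finset.prod_const, Finset.card_range, inv_pow, hNv,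
        _root_.mul_inv_rev, inv_inv, mul_inv_cancel_left]
    have := congrArg Subtype.val e
    simp only [SubmonoidClass.coe_pow, Subgroup.coe_mul, InvMemClass.coe_inv] at this
    rw [show (bA : G) ^ q = b ^ q from rfl] at this
    rw [this]
    exact mul_mem hNK (inv_mem hdiff)
  by_cases hb1 : b = 1
  · rw [hb1]; exact one_mem _
  refine P.mem_of_pow_mem hbq fun e => hne ?_
  exact (((Nat.prime_dvd_prime_iff_eq h.prime hq).1
    (h.orderOf_eq hb hb1 ▸ orderOf_dvd_of_pow_eq_one e))).symm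

/-- No element of prime order `q ≠ r` commutes with a non-identity element of different order which
centralises a non-identity element of `A`. -/
theorem no_commute {y u a : G} {q : ℕ} (hq : q.Prime) (hqr : q ≠ r) (hy : orderOf y = q)
    (hu1 : u ≠ 1) (huy : Commute u y) (ho : orderOf u ≠ q) (ha : a ∈ A) (ha1 : a ≠ 1)
    (hua : Commute u a) : False := by
  have hy1 : y ≠ 1 := fun e => hq.ne_one (by rw [← hy, e, orderOf_one])
  have huK : u ∈ P.comp y := P.mem_comp_of_orderOf_ne hy1 hu1 huy.symm (hy.symm ▸ ho)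
  have hKA : ∀ b ∈ P.comp y, b ∈ A → b = 1 := fun b hbK hbA => by
    by_contra hb1
    exact hqr (h.prime_eq hbA hb1 (P.mem_comp_symm hbK hb1) hq hy)
  -- `a` normalises the component, hence centralises `y`
  have hN := P.mem_normalizer_of_commute huK hu1 hua.symm
  have h1 : a * y * a⁻¹ * y⁻¹ = 1 := hKA _
    (mul_mem ((mem_normalizer_iff.1 hN y).1 (P.mem y)) (inv_mem (P.mem y))) (by
      rw [show a * y * a⁻¹ * y⁻¹ = a * (y * a⁻¹ * y⁻¹) by group]
      exact mul_mem ha ((inferInstance : A.Normal).conj_mem _ (inv_mem ha) y))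
  have hay : Commute a y := mul_inv_eq_iff_eq_mul.1 (mul_inv_eq_one.1 h1)
  have haK : a ∈ P.comp y :=
    P.mem_comp_of_orderOf_ne hy1 ha1 hay.symm (by rw [h.orderOf_eq ha ha1, hy]; exact hqr.symm)
  exact ha1 (hKA a haK ha)

theorem fpf {y a : G} {q : ℕ} (hq : q.Prime) (hqr : q ≠ r) (hy : orderOf y = q) (ha : a ∈ A)
    (ha1 : a ≠ 1) : ¬ Commute a y := fun hc =>
  h.no_commute hq hqr hy ha1 hc (by rw [h.orderOf_eq ha ha1]; exact hqr.symm) ha ha1
    (Commute.refl a)

local notation "Cz" => centralizer (A : Set G)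

theorem le_centralizer : A ≤ Cz :=
  fun a ha => mem_centralizer_iff.2 fun b hb => (h.commute_mem hb ha).eq

theorem centralizer_exp {g : G} (hg : g ∈ Cz) : g ^ r = 1 := by
  by_contra hne
  have hg1 : g ≠ 1 := fun e => hne (by rw [e, one_pow])
  refine h.not_le g fun a ha => ?_
  by_cases ha1 : a = 1
  · rw [ha1]; exact one_mem _
  refine P.mem_comp_of_orderOf_ne hg1 ha1 (mem_centralizer_iff.1 hg a ha).symm ?_
  rw [h.orderOf_eq ha ha1]
  exact fun e => hne (by rw [e]; exact pow_orderOf_eq_one g)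

theorem isPGroup_centralizer : IsPGroup r Cz := fun g =>
  ⟨1, Subtype.ext (by rw [pow_one]; exact h.centralizer_exp g.2)⟩

/-- The order of an element is a power of `r` or prime to `r`. -/
theorem not_dvd_and_dvd {g : G} {q : ℕ} (hq : q.Prime) (hqr : q ≠ r) (hr : r ∣ orderOf g)
    (hqd : q ∣ orderOf g) : False := by
  haveI := Fact.mk h.prime
  have hu := orderOf_pow_orderOf_div (orderOf_pos g).ne' hr
  have hy := orderOf_pow_orderOf_div (orderOf_pos g).ne' hqd
  obtain ⟨a, ha, ha1, hc⟩ := exists_commute_of_rElement (A := A) (k := 1)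
    (g := g ^ (orderOf g / r)) (by
      rw [pow_one]; have := pow_orderOf_eq_one (g ^ (orderOf g / r)); rwa [hu] at this) h.dvd_card
  exact h.no_commute hq hqr hy (fun e => h.prime.ne_one (by rw [← hu, e, orderOf_one]))
    (Commute.pow_pow_self g _ _) (hu.symm ▸ hqr.symm) ha ha1 hc

theorem pow_card_eq_one {g : G} (hg : r ∣ orderOf g) : ∃ k, g ^ r ^ k = 1 := by
  refine ⟨(orderOf g).primeFactorsList.length, ?_⟩
  rw [← Nat.eq_prime_pow_of_unique_prime_dvd (p := r) (orderOf_pos g).ne'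
    (fun {d} hd hdd => by_contra fun hne => h.not_dvd_and_dvd hd hne hg hdd)]
  exact pow_orderOf_eq_one g

/-- A normal subgroup which is an `r`-group centralises `A`. -/
theorem le_of_isPGroup {R : Subgroup G} [R.Normal] (hR : IsPGroup r R) (hAR : A ≤ R) : R ≤ Cz := by
  haveI := Fact.mk h.prime
  haveI := hR.isNilpotent
  obtain ⟨z, hz, hz1⟩ := exists_mem_ne_one (CfsgLib.Solvable.inf_center_ne_bot
    (N := A.subgroupOf R) (fun e => h.ne_bot (by
      rw [subgroupOf_eq_bot, disjoint_iff] at e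
      rwa [inf_eq_left.2 hAR] at e)))
  obtain ⟨hzA, hzc⟩ := mem_inf.1 hz
  rcases h.minimal (A ⊓ centralizer (R : Set G)) inferInstance inf_le_left with e | e
  · exfalso
    have hm : (z : G) ∈ A ⊓ centralizer (R : Set G) := mem_inf.2 ⟨mem_subgroupOf.1 hzA,
      mem_centralizer_iff.2 fun x hx => congrArg Subtype.val (mem_center_iff.1 hzc ⟨x, hx⟩)⟩
    rw [e, mem_bot] at hm
    exact hz1 (Subtype.ext hm)
  · intro x hx
    refine mem_centralizer_iff.2 fun a ha => ?_
    have := (mem_inf.1 (e.ge ha)).2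
    exact (mem_centralizer_iff.1 this x hx).symm

theorem dvd_orderOf_mk {g : G} (hg : r ∣ orderOf (QuotientGroup.mk g : G ⧸ Cz)) : r ∣ orderOf g :=
  hg.trans (orderOf_map_dvd (QuotientGroup.mk' Cz) g)

theorem isPGroup_comap {R : Subgroup (G ⧸ Cz)} (hR : IsPGroup r R) :
    IsPGroup r (R.comap (QuotientGroup.mk' Cz)) := by
  haveI := Fact.mk h.prime
  rintro ⟨g, hg⟩
  obtain ⟨k, hk⟩ := hR ⟨_, hg⟩
  have hk' : g ^ r ^ k ∈ Cz := by
    rw [← QuotientGroup.eq_one_iff, QuotientGroup.mk_pow]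
    exact congrArg Subtype.val hk
  refine ⟨k + 1, Subtype.ext ?_⟩
  show g ^ r ^ (k + 1) = 1
  rw [pow_succ, pow_mul]
  exact h.centralizer_exp hk'

theorem no_normal_pGroup_quotient {R : Subgroup (G ⧸ Cz)} (hRn : R.Normal) (hR : IsPGroup r R) :
    R = ⊥ := by
  haveI := hRn.comap (QuotientGroup.mk' Cz)
  have hle := h.le_of_isPGroup (h.isPGroup_comap hR) (fun a ha => by
    rw [mem_comap, QuotientGroup.mk'_apply, (QuotientGroup.eq_one_iff a).2 (h.le_centralizer ha)]
    exact one_mem R)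
  rw [eq_bot_iff]
  intro q hq
  obtain ⟨g, rfl⟩ := QuotientGroup.mk'_surjective Cz q
  exact mem_bot.2 ((QuotientGroup.eq_one_iff g).2 (hle hq))

/-- The quotient by the centraliser has order prime to an odd `r`. -/
theorem not_dvd_index_of_odd (hr2 : r ≠ 2) : ¬ r ∣ (Cz).index := by
  classical
  intro hd
  haveI := Fact.mk h.prime
  set C := Cz with hC
  let π := QuotientGroup.mk' C
  obtain ⟨xq, hxq⟩ := exists_prime_orderOf_dvd_card' (G := G ⧸ C) r (by rwa [← index_eq_card])
  obtain ⟨x, rfl⟩ := QuotientGroup.mk_surjective xq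
  have hxC : x ∉ C := fun e => h.prime.ne_one (by
    rw [← hxq, (QuotientGroup.eq_one_iff x).2 e, orderOf_one])
  -- the quotient has odd order
  have hodd : Odd (Nat.card (G ⧸ C)) := by
    rw [← Nat.not_even_iff_odd]
    intro heven
    haveI := Fact.mk Nat.prime_two
    have h2 : 2 ∣ Nat.card G :=
      (even_iff_two_dvd.1 heven).trans (by rw [← index_eq_card]; exact C.index_dvd_card)
    obtain ⟨z, hz⟩ := exists_prime_orderOf_dvd_card' (G := G) 2 h2
    have hinv : ∀ w : G, orderOf w = 2 → ∀ a ∈ A, w * a * w = a⁻¹ := fun w hw =>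
      CfsgLib.CITGroups.inverts_of_fixedPointFree (CfsgLib.Small.mul_self_of_orderOf_two hw)
        (fun a ha => by
          simpa [CfsgLib.Small.inv_eq_self_of_orderOf_two hw] using
            (inferInstance : A.Normal).conj_mem a ha w)
        (fun a ha hc => by_contra fun ha1 => h.fpf Nat.prime_two hr2.symm hw ha ha1 hc.symm)
    set z' := x * z * x⁻¹ with hz'
    have hz'o : orderOf z' = 2 := by rw [hz', CfsgLib.Small.orderOf_conj_eq, hz]
    have hzz := CfsgLib.Small.mul_self_of_orderOf_two hz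
    have hzi := CfsgLib.Small.inv_eq_self_of_orderOf_two hz
    set c := z' * z with hc
    have hcC : c ∈ C := mem_centralizer_iff.2 fun a ha => by
      have h1 : z' * a⁻¹ * z' = a := by simpa using hinv z' hz'o _ (inv_mem ha)
      symm
      have h0 := hinv z hz a ha
      calc c * a = z' * (z * a * (z * z)) := by rw [hc, hzz, mul_one, mul_assoc]
        _ = z' * (a⁻¹ * z) := by rw [← h0]; group
        _ = z' * a⁻¹ * (z' * z') * z := by
            rw [CfsgLib.Small.mul_self_of_orderOf_two hz'o, mul_one]; group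
        _ = (z' * a⁻¹ * z') * (z' * z) := by group
        _ = a * c := by rw [h1]
    have hcinv : z * c * z⁻¹ = c⁻¹ := by
      rw [hc, _root_.mul_inv_rev, CfsgLib.Small.inv_eq_self_of_orderOf_two hz'o, hzi]
      simp [mul_assoc, hzz]
    obtain ⟨m, hm⟩ : ∃ m, r = 2 * m + 1 := h.prime.odd_of_ne_two hr2
    set d := c ^ (m + 1) with hd'
    have hd2 : d * z * d⁻¹ = z' := by
      have h1 : z * d⁻¹ * z⁻¹ = d := by
        have := CfsgLib.Small.invol_conj_pow hcinv (m + 1)
        rw [← hd'] at this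
        calc z * d⁻¹ * z⁻¹ = (z * d * z⁻¹)⁻¹ := by group
          _ = d := by rw [this, inv_inv]
      calc d * z * d⁻¹ = d * (z * d⁻¹ * z⁻¹) * z := by group
        _ = c ^ r * c * z := by
          rw [h1, hd', ← pow_add, ← pow_succ, hm]; congr 2; omega
        _ = z' := by rw [h.centralizer_exp hcC, one_mul, hc, mul_assoc, hzz, mul_one]
    have hdC : d ∈ C := pow_mem hcC _
    set w := d⁻¹ * x with hw
    have hwz : Commute w z := by
      refine mul_inv_eq_iff_eq_mul.1 ?_
      calc d⁻¹ * x * z * (d⁻¹ * x)⁻¹ = d⁻¹ * z' * d := by rw [hz']; group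
        _ = z := by rw [← hd2]; group
    have hmkw : (QuotientGroup.mk w : G ⧸ C) = QuotientGroup.mk x := by
      rw [hw, QuotientGroup.mk_mul, (QuotientGroup.eq_one_iff _).2 (inv_mem hdC), one_mul]
    have hwr : r ∣ orderOf w := h.dvd_orderOf_mk (by rw [hmkw, hxq])
    obtain ⟨k, hk⟩ := h.pow_card_eq_one hwr
    obtain ⟨a, ha, ha1, hca⟩ := exists_commute_of_rElement (A := A) hk h.dvd_card
    exact h.no_commute Nat.prime_two hr2.symm hz
      (fun e => hxC ((QuotientGroup.eq_one_iff x).1 (by rw [← hmkw, e, QuotientGroup.mk_one])))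
      hwz (fun e => hr2 ((Nat.prime_dvd_prime_iff_eq h.prime Nat.prime_two).1 (e ▸ hwr))) ha ha1 hca
  haveI : Group.IsSolvable (G ⧸ C) := Cfsg.Agent.S0205.result hodd
  haveI : Nontrivial (G ⧸ C) :=
    ⟨QuotientGroup.mk x, 1, fun e => hxC ((QuotientGroup.eq_one_iff x).1 e)⟩
  obtain ⟨M, hMn, hM1, hMmin⟩ := CfsgLib.Solvable.exists_minimal_normal (G := G ⧸ C)
  obtain ⟨-, s, hs, hMs⟩ := Cfsg.Agent.S0043.result M hM1 hMmin
  haveI := Fact.mk hs
  have hMp : IsPGroup s M := fun m => ⟨1, Subtype.ext (by simpa using hMs m m.2)⟩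
  have hsr : s ≠ r := fun e => hM1 (h.no_normal_pGroup_quotient hMn (e ▸ hMp))
  set N := M.comap π with hN
  haveI : N.Normal := hMn.comap π
  have hmkord : ∀ g : G, π g ∈ M → π g ≠ 1 → orderOf (π g) = s := fun g hg hg1 =>
    orderOf_eq_prime (hMs _ hg) hg1
  -- order `r` elements centralise nothing in `M`
  have hMfpf : ∀ y : G, orderOf (π y) = r → ∀ n ∈ N, Commute (π n) (π y) → π n = 1 := by
    intro y hy n hn hc
    by_contra hn1
    have hmul : orderOf (π (n * y)) = s * r := by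
      rw [map_mul, hc.orderOf_mul_eq_mul_orderOf_of_coprime, hmkord n hn hn1, hy]
      rw [hmkord n hn hn1, hy]
      exact (Nat.coprime_primes hs h.prime).2 hsr
    have hdvd : s * r ∣ orderOf (n * y) := hmul ▸ orderOf_map_dvd π (n * y)
    exact h.not_dvd_and_dvd hs hsr ((dvd_mul_left r s).trans hdvd) ((dvd_mul_right s r).trans hdvd)
  obtain ⟨m₀, hm₀, hm₀1⟩ := exists_mem_ne_one hM1
  obtain ⟨n, rfl⟩ := QuotientGroup.mk'_surjective C m₀
  -- trivial norms
  have hnorm : ∀ y : G, orderOf (π y) = r → ∀ a ∈ A, (a * y) ^ r = y ^ r := by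
    intro y hy a ha
    have hmka : ∀ v ∈ A, π (v * y) = π y := fun v hv => by
      rw [map_mul, show π v = 1 from (QuotientGroup.eq_one_iff v).2 (h.le_centralizer hv), one_mul]
    by_contra hne
    -- an element of `A y` of order different from `r`
    obtain ⟨g, hgy, hgr⟩ : ∃ g, (∀ v ∈ A, g * v * g⁻¹ = y * v * y⁻¹) ∧ g ^ r ≠ 1 ∧ π g = π y := by
      by_cases hyr : y ^ r = 1
      · refine ⟨a * y, fun v hv => ?_, by rw [← hyr]; exact hne, hmka a ha⟩
        have hv' : y * v * y⁻¹ ∈ A := (inferInstance : A.Normal).conj_mem v hv y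
        rw [show a * y * v * (a * y)⁻¹ = a * (y * v * y⁻¹) * a⁻¹ by group,
          (h.commute_mem ha hv').eq, mul_inv_cancel_right]
      · exact ⟨y, fun v _ => rfl, hyr, rfl⟩
    obtain ⟨hgr, hgπ⟩ := hgr
    have hgo : orderOf (π g) = r := hgπ ▸ hy
    have hgd : r ∣ orderOf g := hgo ▸ orderOf_map_dvd π g
    have hgne : orderOf g ≠ r := fun e => hgr (by rw [← e]; exact pow_orderOf_eq_one g)
    have hg1 : g ≠ 1 := fun e => hgr (by rw [e, one_pow])
    obtain ⟨k, hk⟩ := h.pow_card_eq_one hgd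
    obtain ⟨a₀, ha₀, ha₀1, hca₀⟩ := exists_commute_of_rElement (A := A) hk h.dvd_card
    have ha₀K : a₀ ∈ P.comp g := P.mem_comp_of_orderOf_ne hg1 ha₀1 hca₀
      (by rw [h.orderOf_eq ha₀ ha₀1]; exact hgne.symm)
    set B := A ⊓ P.comp g with hB
    let f := commHom A g
    have hker : ∀ v : A, v ∈ f.ker → (v : G) ∈ B := fun v hv => by
      refine mem_inf.2 ⟨v.2, ?_⟩
      by_cases hv1 : (v : G) = 1
      · rw [hv1]; exact one_mem _
      exact P.mem_comp_of_orderOf_ne hg1 hv1 (mem_ker_commHom.1 hv)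
        (by rw [h.orderOf_eq v.2 hv1]; exact hgne.symm)
    have hrange : ∀ v : A, (f v : G) ∈ B := fun v => by
      refine mem_inf.2 ⟨(f v).2, ?_⟩
      have := (h.commutator_mem v.2 ha₀K ha₀1 (h.commute_mem v.2 ha₀) (P.mem g)).2
      show (v : G) * (g * (v : G)⁻¹ * g⁻¹) ∈ P.comp g
      rwa [show (v : G) * (g * (v : G)⁻¹ * g⁻¹) = v * g * (v : G)⁻¹ * g⁻¹ by group]
    -- the elements of `N(K)` acting trivially modulo `K`
    have hAN : A ≤ normalizer (P.comp g : Set G) := fun v hv =>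
      P.mem_normalizer_of_commute ha₀K ha₀1 (h.commute_mem hv ha₀)
    let Stab : Subgroup G :=
      { carrier := {w | w ∈ normalizer (P.comp g : Set G) ∧
          ∀ v ∈ A, v * (w * v⁻¹ * w⁻¹) ∈ P.comp g}
        one_mem' := ⟨one_mem _, fun v _ => by simp⟩
        mul_mem' := fun {b c} hb hc => ⟨mul_mem hb.1 hc.1, fun v hv => by
          have h1 := hb.2 v hv
          have h2 := (mem_normalizer_iff.1 hb.1 _).1 (hc.2 v hv)
          have := mul_mem h1 h2
          rwa [show v * (b * v⁻¹ * b⁻¹) * (b * (v * (c * v⁻¹ * c⁻¹)) * b⁻¹) =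
            v * (b * c * v⁻¹ * (b * c)⁻¹) by group] at this⟩
        inv_mem' := fun {b} hb => ⟨inv_mem hb.1, fun v hv => by
          have h2 := (mem_normalizer_iff.1 (inv_mem hb.1) _).1 (inv_mem (hb.2 v hv))
          rwa [show b⁻¹ * (v * (b * v⁻¹ * b⁻¹))⁻¹ * b⁻¹⁻¹ = v * (b⁻¹ * v⁻¹ * b⁻¹⁻¹) by
              group] at h2⟩ }
    have hgS : g ∈ Stab := ⟨le_normalizer (P.mem g), fun v hv => (mem_inf.1 (hrange ⟨v, hv⟩)).2⟩
    -- a conjugate of `B` by `n` meets it trivially
    have hdisj : ∀ b ∈ B, b ∈ B.map (MulAut.conj n).toMonoidHom → b = 1 := by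
      rintro b hb ⟨b', hb', rfl⟩
      simp only [MulEquiv.coe_toMonoidHom, MulAut.conj_apply] at hb ⊢
      by_contra hne1
      have hnN : n ∈ normalizer (P.comp g : Set G) := P.mem_normalizer_of_conj_mem
        (mem_inf.1 hb').2 (fun e => hne1 (by rw [e, mul_one, mul_inv_cancel])) (mem_inf.1 hb).2
      have hgn : n * g * n⁻¹ ∈ Stab := ⟨mul_mem (mul_mem hnN hgS.1) (inv_mem hnN), fun v hv => by
        have hv' : n⁻¹ * v * n ∈ A := by
          simpa using (inferInstance : A.Normal).conj_mem v hv n⁻¹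
        have := (mem_normalizer_iff.1 hnN _).1 (hgS.2 _ hv')
        rwa [show n * (n⁻¹ * v * n * (g * (n⁻¹ * v * n)⁻¹ * g⁻¹)) * n⁻¹ =
          v * (n * g * n⁻¹ * v⁻¹ * (n * g * n⁻¹)⁻¹) by group] at this⟩
      set c := n * g * n⁻¹ * g⁻¹ with hc
      have hcS : c ∈ Stab := mul_mem hgn (inv_mem hgS)
      have hcM : π c ∈ M := by
        rw [show c = n * (g * n⁻¹ * g⁻¹) by rw [hc]; group, map_mul]
        exact mul_mem hm₀ (mem_comap.1
          ((inferInstance : N.Normal).conj_mem _ (inv_mem (mem_comap.2 hm₀)) g))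
      have hc1 : π c ≠ 1 := fun e => by
        refine hm₀1 (hMfpf g hgo n (mem_comap.2 hm₀) ?_)
        rw [hc, map_mul, map_mul, map_mul, map_inv, map_inv, mul_inv_eq_one] at e
        exact mul_inv_eq_iff_eq_mul.1 e
      have hsd : s ∣ orderOf c := hmkord c hcM hc1 ▸ orderOf_map_dvd π c
      set c' := c ^ (orderOf c / s) with hc'
      have hc'o : orderOf c' = s := orderOf_pow_orderOf_div (orderOf_pos c).ne' hsd
      have hc'S : c' ∈ Stab := pow_mem hcS _
      let f' := commHom A c'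
      have hf' : Function.Injective f' := by
        rw [← MonoidHom.ker_eq_bot_iff, eq_bot_iff]
        intro v hv
        rw [mem_bot]
        by_contra hv1
        exact h.fpf hs hsr hc'o v.2 (fun e => hv1 (Subtype.ext e)) (mem_ker_commHom.1 hv).symm
      refine h.not_le g fun v hv => ?_
      obtain ⟨u, hu⟩ := Finite.injective_iff_surjective.1 hf' ⟨v, hv⟩
      rw [← show ((f' u : A) : G) = v from congrArg Subtype.val hu]
      exact hc'S.2 u u.2
    -- counting
    have hsq : Nat.card B * Nat.card B ≤ Nat.card A := by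
      have := card_mul_card_le (A := A) (B := B) (C := B.map (MulAut.conj n).toMonoidHom) inf_le_left
        (by
          rintro _ ⟨v, hv, rfl⟩
          exact (inferInstance : A.Normal).conj_mem v (mem_inf.1 hv).1 n) hdisj
      rwa [card_map_of_injective (MulAut.conj n).injective] at this
    have hle1 : Nat.card f.range ≤ Nat.card B := Nat.card_le_card_of_injective
      (fun v => (⟨(v : A), by obtain ⟨w, hw⟩ := v.2; rw [← hw]; exact hrange w⟩ : B))
      fun v w e => Subtype.ext (Subtype.ext (congrArg (fun z : B => (z : G)) e))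
    have hle2 : Nat.card f.ker ≤ Nat.card B := Nat.card_le_card_of_injective
      (fun v => (⟨(v : A), hker v v.2⟩ : B))
      fun v w e => Subtype.ext (Subtype.ext (congrArg (fun z : B => (z : G)) e))
    have hprod := card_range_mul_card_ker f
    have hBcomm : ∀ b ∈ B, Commute g b := by
      have hpos : 0 < Nat.card f.range := Nat.card_pos
      have hpos' : 0 < Nat.card B := Nat.card_pos
      have heq : Nat.card f.ker = Nat.card B := le_antisymm hle2 (by nlinarith)
      have hmap : f.ker.map A.subtype = B := by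
        refine eq_of_le_of_card_ge (fun v hv => ?_) (le_of_eq ?_)
        · obtain ⟨w, hw, rfl⟩ := hv; exact hker w hw
        · rw [card_map_of_injective A.subtype_injective, heq]
      intro b hb
      rw [← hmap] at hb
      obtain ⟨w, hw, rfl⟩ := hb
      exact mem_ker_commHom.1 hw
    -- hence the norm is trivial
    refine hne ?_
    open scoped IsMulCommutative in
    have hN1 : ∏ i ∈ Finset.range r, (MulAut.conjNormal y ^ i : MulAut A) ⟨a, ha⟩ = 1 := by
      set v : A := ⟨a, ha⟩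
      set d : A := f v with hd
      have hstep : (MulAut.conjNormal y : MulAut A) v = v * d⁻¹ ∧
          (MulAut.conjNormal y : MulAut A) d = d := by
        have he : ∀ w : A, (MulAut.conjNormal y : MulAut A) w =
            ⟨g * w * g⁻¹, (inferInstance : A.Normal).conj_mem _ w.2 g⟩ := fun w => Subtype.ext
          ((MulAut.conjNormal_apply _ _).trans (hgy w w.2).symm)
        refine ⟨?_, ?_⟩
        · rw [he]
          refine Subtype.ext ?_
          show g * a * g⁻¹ = a * ((a * (g * a⁻¹ * g⁻¹)))⁻¹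
          have := (h.commute_mem ha ((inferInstance : A.Normal).conj_mem a ha g)).eq
          calc g * a * g⁻¹ = (g * a * g⁻¹) * a * a⁻¹ := by group
            _ = a * (g * a * g⁻¹) * a⁻¹ := by rw [this]
            _ = _ := by group
        · rw [he]
          refine Subtype.ext ?_
          show g * (d : G) * g⁻¹ = d
          rw [(hBcomm _ (hrange v)).eq, mul_inv_cancel_right]
      have hiter : ∀ i, (MulAut.conjNormal y ^ i : MulAut A) v = v * (d⁻¹) ^ i := by
        intro i
        induction i with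
        | zero => simp
        | succ i ih =>
          rw [pow_succ', MulAut.mul_apply, ih, map_mul, map_pow, map_inv, hstep.1, hstep.2,
            pow_succ', mul_assoc]
      rw [Finset.prod_congr rfl fun i _ => hiter i, Finset.prod_mul_distrib, Finset.prod_const,
        Finset.card_range, Finset.prod_pow_eq_pow_sum]
      have hA : ∀ w : A, w ^ r = 1 := fun w => Subtype.ext (by simpa using h.exp w w.2)
      obtain ⟨m, hm⟩ : ∃ m, r = 2 * m + 1 := h.prime.odd_of_ne_two hr2
      have hsum : ∑ i ∈ Finset.range r, i = r * m := by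
        have := Finset.sum_range_id_mul_two r
        rw [show r - 1 = 2 * m by omega] at this
        linarith
      rw [hsum, pow_mul, hA, hA, one_pow, one_mul]
    have := CfsgLib.HughesThompson.mul_pow_eq A ⟨a, ha⟩ y r
    rw [hN1] at this
    simpa using this
  -- so `M` is trivial
  have hxr : orderOf (π x) = r := hxq
  have hU : N ≤ centralizer (A : Set G) := by
    have hmkr : ∀ u ∈ N, orderOf (π (u * x)) = r := by
      intro u hu
      let f : M → M := fun b => ⟨(b : G ⧸ C) * π x * (b : G ⧸ C)⁻¹ * (π x)⁻¹, by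
        rw [show (b : G ⧸ C) * π x * (b : G ⧸ C)⁻¹ * (π x)⁻¹ =
          (b : G ⧸ C) * (π x * (b : G ⧸ C)⁻¹ * (π x)⁻¹) by group]
        exact mul_mem b.2 (hMn.conj_mem _ (inv_mem b.2) _)⟩
      have hf : Function.Surjective f := by
        refine Finite.injective_iff_surjective.1 fun b c hbc => ?_
        have h' : (b : G ⧸ C) * π x * (b : G ⧸ C)⁻¹ = (c : G ⧸ C) * π x * (c : G ⧸ C)⁻¹ :=
          mul_right_cancel (congrArg Subtype.val hbc)
        obtain ⟨w, hw⟩ := QuotientGroup.mk'_surjective C ((c : G ⧸ C)⁻¹ * b)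
        have hwc : Commute (π w) (π x) := by
          rw [hw]
          refine mul_inv_eq_iff_eq_mul.1 ?_
          calc (c : G ⧸ C)⁻¹ * b * π x * ((c : G ⧸ C)⁻¹ * b)⁻¹
              = (c : G ⧸ C)⁻¹ * ((b : G ⧸ C) * π x * (b : G ⧸ C)⁻¹) * c := by group
            _ = π x := by rw [h']; group
        have := hMfpf x hxr w (mem_comap.2 (by rw [hw]; exact mul_mem (inv_mem c.2) b.2)) hwc
        rw [hw] at this
        exact Subtype.ext (inv_mul_eq_one.1 this).symm
      obtain ⟨b, hb⟩ := hf ⟨π u, hu⟩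
      have hb' : (b : G ⧸ C) * π x * (b : G ⧸ C)⁻¹ * (π x)⁻¹ = π u := congrArg Subtype.val hb
      rw [map_mul, ← hb', inv_mul_cancel_right, CfsgLib.Small.orderOf_conj_eq, hxr]
    refine le_centralizer_of_norm A (K := C) le_rfl ?_ h.prime ?_ (fun u hu => ?_)
      (fun u hu v hv => hnorm _ (hmkr u hu) v hv)
    · have h1 := relIndex_comap (⊥ : Subgroup (G ⧸ C)) π N
      rw [MonoidHom.comap_bot, QuotientGroup.ker_mk', relIndex_bot_left] at h1
      rw [h1, hN, map_comap_eq_self_of_surjective (QuotientGroup.mk'_surjective C)]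
      obtain ⟨i, hi⟩ := IsPGroup.iff_card.1 hMp
      obtain ⟨j, hj⟩ := IsPGroup.iff_card.1
        (show IsPGroup r A from fun a => ⟨1, Subtype.ext (by simpa using h.exp a a.2)⟩)
      rw [hi, hj]
      exact Nat.coprime_pow_primes _ _ hs h.prime hsr
    · rw [normalizer_eq_top_iff.2 inferInstance]; exact mem_top x
    · show (u * x) ^ r ∈ C
      rw [← QuotientGroup.eq_one_iff, QuotientGroup.mk_pow, ← hmkr u hu]
      exact pow_orderOf_eq_one _
  exact hm₀1 ((QuotientGroup.eq_one_iff n).2 (hU (mem_comap.2 hm₀)))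

/-- The even case: the group is `S₄`. -/
theorem equiv_perm_four (hr2 : r = 2) (hd : 2 ∣ (Cz).index) :
    Nonempty (G ≃* Equiv.Perm (Fin 4)) := by
  classical
  subst hr2
  haveI := Fact.mk Nat.prime_two
  set C := Cz with hC
  let π := QuotientGroup.mk' C
  have hC2 : ∀ u ∈ C, u * u = 1 := fun u hu => by rw [← sq]; exact h.centralizer_exp hu
  haveI hCc : IsMulCommutative C := ⟨⟨fun u v => Subtype.ext (by
    have hu := inv_eq_of_mul_eq_one_right (hC2 u u.2)
    have hv := inv_eq_of_mul_eq_one_right (hC2 v v.2)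
    have huv := inv_eq_of_mul_eq_one_right (hC2 _ (mul_mem u.2 v.2))
    show (u : G) * v = v * u
    rw [← huv, _root_.mul_inv_rev, hu, hv])⟩⟩
  have hCcomm : ∀ u ∈ C, ∀ v ∈ C, Commute u v := fun u hu v hv =>
    congrArg Subtype.val (IsMulCommutative.is_comm.comm (⟨u, hu⟩ : C) ⟨v, hv⟩)
  have hCC : ∀ g : G, (∀ u ∈ C, Commute g u) → g ∈ C := fun g hg =>
    mem_centralizer_iff.2 fun a ha => (hg a (h.le_centralizer ha)).eq.symm
  obtain ⟨a₁, ha₁, ha₁1⟩ := exists_mem_ne_one h.ne_bot
  have hCfpf : ∀ (y : G) (q : ℕ), q.Prime → q ≠ 2 → orderOf y = q →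
      ∀ u ∈ C, Commute u y → u = 1 := by
    intro y q hq hq2 hy u hu hc
    by_contra hu1
    refine h.no_commute hq hq2 hy hu1 hc ?_ ha₁ ha₁1 (mem_centralizer_iff.1 hu a₁ ha₁).symm
    rw [orderOf_eq_prime (h.centralizer_exp hu) hu1]
    exact hq2.symm
  obtain ⟨xq, hxq⟩ := exists_prime_orderOf_dvd_card' (G := G ⧸ C) 2 (by rwa [← index_eq_card])
  obtain ⟨cq, q, hq, hq2, hcq, hxc⟩ := exists_odd_inverted hxq
    fun N hN hN2 => h.no_normal_pGroup_quotient hN hN2
  obtain ⟨x, rfl⟩ := QuotientGroup.mk_surjective xq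
  obtain ⟨c₀, rfl⟩ := QuotientGroup.mk_surjective cq
  haveI := Fact.mk hq
  have hx2 : x * x ∈ C := by
    rw [← QuotientGroup.eq_one_iff, QuotientGroup.mk_mul]
    exact CfsgLib.Small.mul_self_of_orderOf_two hxq
  have hxC : x ∉ C := fun e => Nat.prime_two.ne_one (by
    rw [← hxq, (QuotientGroup.eq_one_iff x).2 e, orderOf_one])
  -- a lift `c` of order `q`
  obtain ⟨c, hc, hcπ⟩ : ∃ c, orderOf c = q ∧ π x * π c * (π x)⁻¹ = (π c)⁻¹ := by
    have hd' : q ∣ orderOf c₀ := hcq ▸ orderOf_map_dvd π c₀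
    refine ⟨c₀ ^ (orderOf c₀ / q), orderOf_pow_orderOf_div (orderOf_pos c₀).ne' hd', ?_⟩
    rw [map_pow, ← conj_pow, show π x * π c₀ * (π x)⁻¹ = (π c₀)⁻¹ from hxc, inv_pow]
  let f := commHom C x
  have hrange : ∀ v : C, Commute x (f v : G) := fun v => by
    refine mul_inv_eq_iff_eq_mul.1 ?_
    show x * ((v : G) * (x * (v : G)⁻¹ * x⁻¹)) * x⁻¹ = v * (x * (v : G)⁻¹ * x⁻¹)
    have h1 : x * x * (v : G)⁻¹ * (x * x)⁻¹ = (v : G)⁻¹ := by
      rw [(hCcomm _ hx2 _ (inv_mem v.2)).eq, mul_inv_cancel_right]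
    have hvv : (v : G)⁻¹ = v := inv_eq_of_mul_eq_one_right (hC2 v v.2)
    have hxv : x * (v : G) * x⁻¹ ∈ C := (inferInstance : C.Normal).conj_mem _ v.2 x
    calc x * ((v : G) * (x * (v : G)⁻¹ * x⁻¹)) * x⁻¹
        = x * v * x⁻¹ * (x * x * (v : G)⁻¹ * (x * x)⁻¹) := by group
      _ = x * v * x⁻¹ * (v : G)⁻¹ := by rw [h1]
      _ = (v : G) * (x * (v : G)⁻¹ * x⁻¹) := by rw [hvv, (hCcomm _ v.2 _ hxv).eq]
  set F := f.ker.map C.subtype with hF
  have hmemF : ∀ u : G, u ∈ F ↔ u ∈ C ∧ Commute x u := fun u => by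
    constructor
    · rintro ⟨w, hw, rfl⟩; exact ⟨w.2, mem_ker_commHom.1 hw⟩
    · rintro ⟨hu, hxu⟩; exact ⟨⟨u, hu⟩, mem_ker_commHom.2 hxu, rfl⟩
  have hFdisj : ∀ b ∈ F, b ∈ F.map (MulAut.conj c).toMonoidHom → b = 1 := by
    rintro b hb ⟨b', hb', rfl⟩
    simp only [MulEquiv.coe_toMonoidHom, MulAut.conj_apply] at hb ⊢
    obtain ⟨hbC, hxb⟩ := (hmemF _).1 hb
    obtain ⟨hb'C, hxb'⟩ := (hmemF _).1 hb'
    -- conjugation by `c²` fixes `c b' c⁻¹`
    set u := c * b' * c⁻¹ with hu
    have hk : (x * c * x⁻¹ * c) ∈ C := by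
      rw [← QuotientGroup.eq_one_iff]
      show π (x * c * x⁻¹ * c) = 1
      rw [map_mul, map_mul, map_mul, map_inv, hcπ, inv_mul_cancel]
    have h1 : Commute (c * x * c⁻¹) u := by
      refine mul_inv_eq_iff_eq_mul.1 ?_
      calc c * x * c⁻¹ * u * (c * x * c⁻¹)⁻¹ = c * (x * b' * x⁻¹) * c⁻¹ := by rw [hu]; group
        _ = u := by rw [hxb'.eq, mul_inv_cancel_right, hu]
    -- `x c x⁻¹ c⁻¹ x ≡ c⁻² x`
    have h2 : Commute (c * c) u := by
      have hk' : Commute (x * c * x⁻¹ * c) u := hCcomm _ hk _ hbC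
      have e : c * c = (c * x * c⁻¹ * x⁻¹) * (x * c * x⁻¹ * c) := by group
      rw [e]
      exact (h1.mul_left hxb.inv_left).mul_left hk'
    have hcc : orderOf (c * c) = q := by
      rw [← sq, Nat.Coprime.orderOf_pow]
      · exact hc
      · rw [hc]; exact (Nat.coprime_primes hq Nat.prime_two).2 hq2
    exact hCfpf _ q hq hq2 hcc u hbC h2.symm
  have hCcard := card_range_mul_card_ker f
  have hFcard : Nat.card F = Nat.card f.ker := card_map_of_injective C.subtype_injective
  have hrle : Nat.card f.range ≤ Nat.card F := Nat.card_le_card_of_injective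
    (fun v => (⟨((v : C) : G), by
      obtain ⟨w, hw⟩ := v.2; rw [← hw]; exact (hmemF _).2 ⟨(f w).2, hrange w⟩⟩ : F))
    fun v w e => Subtype.ext (Subtype.ext (congrArg (fun z : F => (z : G)) e))
  have hFC : F ≤ C := fun u hu => ((hmemF u).1 hu).1
  have hFsq : Nat.card F * Nat.card F ≤ Nat.card C := by
    have := card_mul_card_le (A := C) (B := F) (C := F.map (MulAut.conj c).toMonoidHom) hFC
      (by rintro _ ⟨v, hv, rfl⟩; exact (inferInstance : C.Normal).conj_mem v (hFC hv) c) hFdisj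
    have e : Nat.card (F.map (MulAut.conj c).toMonoidHom) = Nat.card F :=
      card_map_of_injective (MulAut.conj c).injective
    rwa [e] at this
  have hFr : Nat.card f.range = Nat.card F := by
    refine le_antisymm hrle ?_
    have : 0 < Nat.card F := Nat.card_pos
    nlinarith [hCcard, hFcard]
  have hsurj : ∀ v ∈ F, ∃ u : C, (f u : G) = v := by
    intro v hv
    have heq : f.range.map C.subtype = F := by
      refine eq_of_le_of_card_ge ?_ (le_of_eq ?_)
      · rintro _ ⟨_, ⟨w, rfl⟩, rfl⟩; exact (hmemF _).2 ⟨(f w).2, hrange w⟩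
      · have e : Nat.card (f.range.map C.subtype) = Nat.card f.range :=
          card_map_of_injective C.subtype_injective
        rw [e, hFr]
    rw [← heq] at hv
    obtain ⟨_, ⟨w, rfl⟩, rfl⟩ := hv
    exact ⟨w, rfl⟩
  have hsqr : ∀ u : C, ((u : G) * x) * ((u : G) * x) = (f u : G) * (x * x) := fun u => by
    show _ = (u : G) * (x * (u : G)⁻¹ * x⁻¹) * (x * x)
    rw [inv_eq_of_mul_eq_one_right (hC2 u u.2)]
    group
  obtain ⟨w₀, hw₀F, hw₀1⟩ : ∃ w ∈ F, w ≠ 1 := by
    by_contra hcon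
    push Not at hcon
    refine hxC (hCC x fun u hu => ?_)
    have : f ⟨u, hu⟩ = 1 :=
      Subtype.ext (hcon _ ((hmemF _).2 ⟨(f _).2, hrange _⟩))
    exact mem_ker_commHom.1 (MonoidHom.mem_ker.2 this)
  obtain ⟨u₁, hu₁⟩ : ∃ u : C, (f u : G) * (x * x) ≠ 1 := by
    obtain ⟨u, hu⟩ := hsurj w₀ hw₀F
    by_cases hxx : x * x = 1
    · exact ⟨u, by rw [hxx, mul_one, hu]; exact hw₀1⟩
    · exact ⟨1, by rwa [map_one, OneMemClass.coe_one, one_mul]⟩
  set g := (u₁ : G) * x with hg
  have hgg : g * g ≠ 1 := by rw [hg, hsqr]; exact hu₁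
  have hg1 : g ≠ 1 := fun e => hgg (by rw [e, one_mul])
  have hgF : ∀ (u : C) (v : G), v ∈ F → Commute ((u : G) * x) v := fun u v hv =>
    (hCcomm _ u.2 _ (hFC hv)).mul_left ((hmemF v).1 hv).2
  have hord : ∀ (y v : G), y * y ≠ 1 → v ∈ F → v ≠ 1 → orderOf v ≠ orderOf y := by
    intro y v hy hv hv1 e
    rw [orderOf_eq_prime (h.centralizer_exp (hFC hv)) hv1] at e
    exact hy (by rw [← sq, e]; exact pow_orderOf_eq_one y)
  have hFK : ∀ v ∈ F, v ∈ P.comp g := fun v hv => by
    by_cases hv1 : v = 1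
    · rw [hv1]; exact one_mem _
    exact P.mem_comp_of_orderOf_ne hg1 hv1 (hgF u₁ v hv) (hord g v hgg hv hv1)
  -- `C` normalises the component and meets it in `F`
  set B := C ⊓ P.comp g with hB
  have hCN : C ≤ normalizer (P.comp g : Set G) := fun u hu =>
    P.mem_normalizer_of_commute (hFK w₀ hw₀F) hw₀1 (hCcomm u hu _ (hFC hw₀F))
  have hBdisj : ∀ b ∈ B, b ∈ B.map (MulAut.conj c).toMonoidHom → b = 1 := by
    rintro b hb ⟨b', hb', rfl⟩
    simp only [MulEquiv.coe_toMonoidHom, MulAut.conj_apply] at hb ⊢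
    by_contra hne
    have hcN : c ∈ normalizer (P.comp g : Set G) := P.mem_normalizer_of_conj_mem (mem_inf.1 hb').2
      (fun e => hne (by rw [e, mul_one, mul_inv_cancel])) (mem_inf.1 hb).2
    refine h.not_le g fun a ha => ?_
    -- `F` and its conjugate generate `C`
    let m : F × F → C := fun p => ⟨(p.1 : G) * (c * p.2 * c⁻¹),
      mul_mem (hFC p.1.2) ((inferInstance : C.Normal).conj_mem _ (hFC p.2.2) c)⟩
    have hm : Function.Surjective m := by
      haveI := Fintype.ofFinite C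
      haveI := Fintype.ofFinite F
      refine ((Fintype.bijective_iff_injective_and_card m).2 ⟨?_, ?_⟩).2
      · rintro ⟨a₁, b₁⟩ ⟨a₂, b₂⟩ e
        have e' : (a₁ : G) * (c * b₁ * c⁻¹) = a₂ * (c * b₂ * c⁻¹) := congrArg Subtype.val e
        have h2 : (a₂ : G)⁻¹ * a₁ = c * ((b₂ : G) * (b₁ : G)⁻¹) * c⁻¹ := by
          calc (a₂ : G)⁻¹ * a₁ = (a₂ : G)⁻¹ * ((a₁ : G) * (c * b₁ * c⁻¹)) * (c * b₁ * c⁻¹)⁻¹ := by
                group
            _ = _ := by rw [e']; group
        have h3 := hFdisj _ (mul_mem (inv_mem a₂.2) a₁.2)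
          ⟨(b₂ : G) * (b₁ : G)⁻¹, mul_mem b₂.2 (inv_mem b₁.2), h2.symm⟩
        have ha12 : a₁ = a₂ := Subtype.ext (inv_mul_eq_one.1 h3).symm
        subst ha12
        exact Prod.ext rfl (Subtype.ext (mul_left_cancel (mul_right_cancel (mul_left_cancel e'))))
      · rw [Fintype.card_prod, ← Nat.card_eq_fintype_card, ← Nat.card_eq_fintype_card]
        have := hFr ▸ hFcard ▸ hCcard
        exact this
    obtain ⟨⟨v, w⟩, hvw⟩ := hm ⟨a, h.le_centralizer ha⟩
    rw [← show (v : G) * (c * w * c⁻¹) = a from congrArg Subtype.val hvw]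
    exact mul_mem (hFK v v.2) ((mem_normalizer_iff.1 hcN _).1 (hFK w w.2))
  have hBF : B = F := by
    refine (eq_of_le_of_card_ge (fun v hv => mem_inf.2 ⟨hFC hv, hFK v hv⟩) ?_).symm
    have := card_mul_card_le (A := C) (B := B) (C := B.map (MulAut.conj c).toMonoidHom) inf_le_left
      (by rintro _ ⟨v, hv, rfl⟩; exact (inferInstance : C.Normal).conj_mem v (mem_inf.1 hv).1 c)
      hBdisj
    have e : Nat.card (B.map (MulAut.conj c).toMonoidHom) = Nat.card B :=
      card_map_of_injective (MulAut.conj c).injective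
    rw [e] at this
    have hCF : Nat.card C = Nat.card F * Nat.card F := by rw [← hCcard, hFr, hFcard]
    exact Nat.mul_self_le_mul_self_iff.1 (hCF ▸ this)
  have heqf : ∀ u : C, (f u : G) * (x * x) ≠ 1 → (f u : G) = f u₁ := by
    intro u hu
    set g' := (u : G) * x with hg'
    have hgg' : g' * g' ≠ 1 := by rw [hg', hsqr]; exact hu
    have hg'1 : g' ≠ 1 := fun e => hgg' (by rw [e, one_mul])
    have hg'K : g' ∈ P.comp g := by
      rw [← P.eq_of_mem (hFK w₀ hw₀F) hw₀1]
      exact P.mem_comp_of_orderOf_ne hw₀1 hg'1 (hgF u w₀ hw₀F).symm (hord g' w₀ hgg' hw₀F hw₀1).symm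
    have hBm : (u : G) * (u₁ : G)⁻¹ ∈ B := mem_inf.2 ⟨mul_mem u.2 (inv_mem u₁.2), by
      rw [show (u : G) * (u₁ : G)⁻¹ = g' * g⁻¹ by rw [hg, hg']; group]
      exact mul_mem hg'K (inv_mem (P.mem g))⟩
    rw [hBF] at hBm
    obtain ⟨w, hw, hwe⟩ := hBm
    have : f (u * u₁⁻¹) = 1 := by
      have hwu : w = u * u₁⁻¹ := Subtype.ext hwe
      rw [← hwu]; exact hw
    rw [map_mul, map_inv, mul_inv_eq_one] at this
    rw [this]
  have hF2 : Nat.card F = 2 := by
    haveI := Fintype.ofFinite F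
    have hge : 1 < Nat.card F := by
      haveI : Nontrivial F := ⟨⟨w₀, hw₀F⟩, 1, fun e => hw₀1 (congrArg Subtype.val e)⟩
      exact Finite.one_lt_card
    have hle : Nat.card F ≤ 2 := by
      have hsub : (Finset.univ : Finset F).image Subtype.val ⊆ {(x * x)⁻¹, (f u₁ : G)} := by
        intro v hv
        obtain ⟨⟨v, hvF⟩, -, rfl⟩ := Finset.mem_image.1 hv
        rw [Finset.mem_insert, Finset.mem_singleton]
        by_cases hv2 : v * (x * x) = 1
        · exact Or.inl (mul_eq_one_iff_eq_inv.1 hv2)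
        · obtain ⟨u, hu⟩ := hsurj v hvF
          exact Or.inr (hu.symm.trans (heqf u (by rw [hu]; exact hv2)))
      have := Finset.card_le_card hsub
      rw [Finset.card_image_of_injective _ Subtype.val_injective, Finset.card_univ,
        ← Nat.card_eq_fintype_card] at this
      exact this.trans Finset.card_le_two
    omega
  have hC4 : Nat.card C = 4 := by
    rw [← hCcard, hFr, ← hFcard, hF2]
  -- the index
  have hi2 : 2 ∣ C.index := hd
  have hiq : q ∣ C.index := by
    rw [index_eq_card, ← hcq]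
    exact orderOf_dvd_natCard _
  have hi6 : C.index ∣ 6 := by
    haveI := Fintype.ofFinite C
    let ψ : G →* Equiv.Perm {u : C // u ≠ 1} :=
      { toFun := fun y => (((MulAut.conjNormal y : MulAut C)).toEquiv.subtypeEquiv fun u => by
          simp [MulEquiv.map_eq_one_iff])
        map_one' := by ext u; simp
        map_mul' := fun y z => by ext u; simp [mul_assoc] }
    have hker : ψ.ker ≤ C := fun y hy => hCC y fun u hu => by
      by_cases hu1 : u = 1
      · rw [hu1]; exact Commute.one_right y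
      have := congrArg (fun σ => (((σ : Equiv.Perm {u : C // u ≠ 1})
        ⟨⟨u, hu⟩, fun e => hu1 (congrArg Subtype.val e)⟩ : {u : C // u ≠ 1}) : C))
        (MonoidHom.mem_ker.1 hy)
      exact mul_inv_eq_iff_eq_mul.1 (by simpa [ψ] using congrArg Subtype.val this)
    refine (index_dvd_of_le hker).trans ?_
    rw [index_ker]
    refine (Subgroup.card_subgroup_dvd_card _).trans ?_
    rw [Nat.card_perm, Nat.card_eq_fintype_card, Fintype.card_subtype_compl, Fintype.card_subtype_eq,
      ← Nat.card_eq_fintype_card, hC4]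
    decide
  have hidx : C.index = 6 := by
    refine Nat.dvd_antisymm hi6 ?_
    have hq3 : q = 3 := by
      have h1 : q ∣ 2 * 3 := hiq.trans hi6
      rcases (Nat.Prime.dvd_mul hq).1 h1 with h2 | h2
      · exact absurd ((Nat.prime_dvd_prime_iff_eq hq Nat.prime_two).1 h2) hq2
      · exact (Nat.prime_dvd_prime_iff_eq hq Nat.prime_three).1 h2
    exact Nat.Coprime.mul_dvd_of_dvd_of_dvd (show Nat.Coprime 2 3 by decide) hi2 (hq3 ▸ hiq)
  refine CfsgLib.Small.equiv_perm_four_of_order24 (by rw [← card_mul_index C, hC4, hidx]) ?_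
  intro y hy
  exact h.not_dvd_and_dvd Nat.prime_three (by norm_num) (by rw [hy]; norm_num) (by rw [hy]; norm_num)

/-- Frobenius complement when the index is prime to `r`. -/
theorem frobenius_or_exp (hd : ¬ r ∣ (Cz).index) :
    (∃ Y : Subgroup G, Cfsg.IsFrobeniusComplement Y) ∨ ∀ g : G, g ^ r = 1 := by
  classical
  haveI := Fact.mk h.prime
  by_cases htop : Cz = ⊤
  · exact Or.inr fun g => h.centralizer_exp (htop ▸ mem_top g)
  left
  have hcop : (Nat.card Cz).Coprime (Cz).index := by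
    obtain ⟨k, hk⟩ := IsPGroup.iff_card.1 h.isPGroup_centralizer
    rw [hk]
    exact ((h.prime.coprime_iff_not_dvd).2 hd).pow_left k
  obtain ⟨Y, hY⟩ := Subgroup.exists_right_complement'_of_coprime hcop
  refine ⟨Y, isFrobeniusComplement_of_complement hY
    (fun e => h.ne_bot (eq_bot_iff.2 (e ▸ h.le_centralizer))) (fun e => htop ?_)
    fun y hy hy1 u hu hu1 hc => ?_⟩
  · subst e
    exact isComplement'_bot_right.1 hY
  obtain ⟨q, hq, hqd⟩ := Nat.exists_prime_and_dvd (fun e => hy1 (orderOf_eq_one_iff.1 e))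
  have hqr : q ≠ r := by
    rintro rfl
    exact hd (hqd.trans (by
      rw [(IsComplement'.symm hY).index_eq_card]; exact Subgroup.orderOf_dvd_natCard Y hy))
  obtain ⟨a, ha, ha1⟩ := exists_mem_ne_one h.ne_bot
  refine h.no_commute hq hqr (orderOf_pow_orderOf_div (orderOf_pos y).ne' hqd) hu1
    (hc.pow_right _) ?_ ha ha1 (mem_centralizer_iff.1 hu a ha).symm
  rw [orderOf_eq_prime (h.centralizer_exp hu) hu1]
  exact hqr.symm

/-- **The classification when there is an abelian normal subgroup and no normal component.** -/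
theorem trichotomy :
    (∃ Y : Subgroup G, Cfsg.IsFrobeniusComplement Y) ∨ (∀ g : G, g ^ r = 1) ∨
      Nonempty (G ≃* Equiv.Perm (Fin 4)) := by
  by_cases hd : r ∣ (Cz).index
  · by_cases hr2 : r = 2
    · exact Or.inr (Or.inr (h.equiv_perm_four hr2 (hr2 ▸ hd)))
    · exact absurd hd (h.not_dvd_index_of_odd hr2)
  · rcases h.frobenius_or_exp hd with hF | hE
    · exact Or.inl hF
    · exact Or.inr (Or.inl hE)

end FitHyp

end Part

end CfsgLib.GroupPartition
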