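import Cfsg.Agent.GroupPartition.Tools

/-!
# A normal component

If a component `H` of a partition of `G` is normal and nilpotent, then `G` has a Frobenius
complement or for some prime `p` all elements outside `H` have order `p`. If moreover some element
outside `H` centralises a non-identity element of `H` and `H` is not a `p`-group, then `H` has
index `p`.
-/

set_option autoImplicit false
set_option linter.style.haveILetI false
set_option linter.unusedSectionVars false

namespace CfsgLib.GroupPartition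

open Subgroup

universe u

variable {G : Type u} [Group G]

/-- `Ω₁` of the `q`-part of the centre of a subgroup. -/
def omegaCenter (H : Subgroup G) (q : ℕ) : Subgroup G where
  carrier := {v | v ∈ H ∧ v ^ q = 1 ∧ ∀ h ∈ H, Commute v h}
  one_mem' := ⟨one_mem H, one_pow q, fun h _ => Commute.one_left h⟩
  mul_mem' {a b} ha hb := ⟨mul_mem ha.1 hb.1, by
    rw [(ha.2.2 b hb.1).mul_pow, ha.2.1, hb.2.1, one_mul],
    fun h hh => (ha.2.2 h hh).mul_left (hb.2.2 h hh)⟩
  inv_mem' {a} ha := ⟨inv_mem ha.1, by rw [inv_pow, ha.2.1, inv_one],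
    fun h hh => (ha.2.2 h hh).inv_left⟩

theorem mem_omegaCenter {H : Subgroup G} {q : ℕ} {v : G} :
    v ∈ omegaCenter H q ↔ v ∈ H ∧ v ^ q = 1 ∧ ∀ h ∈ H, Commute v h := Iff.rfl

theorem omegaCenter_le (H : Subgroup G) (q : ℕ) : omegaCenter H q ≤ H := fun _ h => h.1

instance omegaCenter_comm (H : Subgroup G) (q : ℕ) : IsMulCommutative (omegaCenter H q) :=
  ⟨⟨fun a b => Subtype.ext (a.2.2.2 b b.2.1).eq⟩⟩

instance omegaCenter_normal (H : Subgroup G) [H.Normal] (q : ℕ) : (omegaCenter H q).Normal := by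
  refine ⟨fun v hv g => ?_⟩
  refine ⟨(inferInstance : H.Normal).conj_mem v hv.1 g, by rw [conj_pow, hv.2.1]; group,
    fun h hh => ?_⟩
  have h1 : g⁻¹ * h * g ∈ H := by
    simpa using (inferInstance : H.Normal).conj_mem h hh g⁻¹
  have h2 := (hv.2.2 _ h1).eq
  show g * v * g⁻¹ * h = h * (g * v * g⁻¹)
  calc g * v * g⁻¹ * h = g * (v * (g⁻¹ * h * g)) * g⁻¹ := by group
    _ = g * (g⁻¹ * h * g * v) * g⁻¹ := by rw [h2]
    _ = _ := by group

theorem le_centralizer_omegaCenter (H : Subgroup G) (q : ℕ) :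
    H ≤ centralizer (omegaCenter H q : Set G) :=
  fun h hh => mem_centralizer_iff.2 fun _ hv => (hv.2.2 h hh).eq

theorem isPGroup_omegaCenter (H : Subgroup G) (q : ℕ) : IsPGroup q (omegaCenter H q) :=
  fun v => ⟨1, Subtype.ext (by rw [pow_one]; exact v.2.2.1)⟩

theorem exists_mem_omegaCenter [Finite G] {H : Subgroup G} (hnil : Group.IsNilpotent H) {q : ℕ}
    (hq : q.Prime) (hd : q ∣ Nat.card H) : ∃ v ∈ omegaCenter H q, v ≠ 1 := by
  haveI := Fact.mk hq
  haveI := hnil
  let S : Sylow q H := default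
  haveI : (S : Subgroup H).Normal := (Sylow.normal_of_normalizerCondition
    Group.normalizerCondition_of_isNilpotent S)
  obtain ⟨z, hz, hz1⟩ := exists_mem_ne_one
    (CfsgLib.Solvable.inf_center_ne_bot (N := (S : Subgroup H)) (S.ne_bot_of_dvd_card hd))
  obtain ⟨hzS, hzc⟩ := mem_inf.1 hz
  obtain ⟨k, hk⟩ := S.2 ⟨z, hzS⟩
  have hzk : z ^ q ^ k = 1 := congrArg Subtype.val hk
  obtain ⟨i, -, hi⟩ := (Nat.dvd_prime_pow hq).1 (orderOf_dvd_of_pow_eq_one hzk)
  have hi0 : i ≠ 0 := fun e => hz1 (orderOf_eq_one_iff.1 (by rw [hi, e, pow_zero]))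
  have hdvd : q ∣ orderOf z := hi ▸ dvd_pow_self q hi0
  have ho := orderOf_pow_orderOf_div (orderOf_pos z).ne' hdvd
  refine ⟨((z ^ (orderOf z / q) : H) : G), ⟨SetLike.coe_mem _, ?_, fun h hh => ?_⟩, fun e => ?_⟩
  · have := pow_orderOf_eq_one (z ^ (orderOf z / q))
    rw [ho] at this
    exact (SubmonoidClass.coe_pow _ q).symm.trans (congrArg Subtype.val this)
  · exact congrArg Subtype.val (mem_center_iff.1 (pow_mem hzc _) ⟨h, hh⟩).symm
  · have : z ^ (orderOf z / q) = 1 := Subtype.ext e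
    rw [this, orderOf_one] at ho
    exact hq.ne_one ho.symm

namespace Part

variable [Finite G] (P : Part G) {h₀ : G}

/-- An element outside a normal component commuting with one of its elements: its centraliser has
prime exponent. -/
theorem pow_eq_one_of_mem_centralizer [(P.comp h₀).Normal] {x h : G} (hx : x ∉ P.comp h₀)
    (hh : h ∈ P.comp h₀) (hh1 : h ≠ 1) (hc : Commute x h) :
    (orderOf x).Prime ∧ orderOf h = orderOf x ∧ ∀ y, Commute y x → y ^ orderOf x = 1 := by
  have hx1 : x ≠ 1 := fun e => hx (by rw [e]; exact one_mem _)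
  have hne : h ∉ P.comp x := fun e => hx (P.eq_of_mem hh hh1 ▸ P.mem_comp_symm e hh1)
  obtain ⟨hp, ho⟩ := P.orderOf_eq_of_commute hx1 hh1 hc hne
  refine ⟨hp, ho, fun y hy => ?_⟩
  by_cases hy1 : y = 1
  · rw [hy1, one_pow]
  by_cases hyK : y ∈ P.comp x
  · -- `h` centralises the component of `x`
    have hN := P.mem_normalizer_of_commute (P.mem x) hx1 hc.symm
    have hcomm : h * y * h⁻¹ * y⁻¹ = 1 := by
      by_contra h1
      have hK : h * y * h⁻¹ * y⁻¹ ∈ P.comp x :=
        mul_mem ((mem_normalizer_iff.1 hN y).1 hyK) (inv_mem hyK)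
      have hH : h * y * h⁻¹ * y⁻¹ ∈ P.comp h₀ := by
        rw [show h * y * h⁻¹ * y⁻¹ = h * (y * h⁻¹ * y⁻¹) by group]
        exact mul_mem hh (Subgroup.Normal.conj_mem inferInstance _ (inv_mem hh) y)
      exact hx (P.eq_of_mem_mem hK hH h1 ▸ P.mem x)
    have hyh : Commute y h := (mul_inv_eq_iff_eq_mul.1 (mul_inv_eq_one.1 hcomm)).symm
    have hne' : h ∉ P.comp y := fun e => hne (P.eq_of_mem hyK hy1 ▸ e)
    rw [← ho, (P.orderOf_eq_of_commute hy1 hh1 hyh hne').2]
    exact pow_orderOf_eq_one y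
  · exact P.pow_eq_one_of_commute (P.mem x) hx1 hyK hy rfl

variable [(P.comp h₀).Normal]

/-- Elements outside a component have the order of their image. -/
theorem orderOf_mk {g : G} (hg : g ∉ P.comp h₀) :
    orderOf (QuotientGroup.mk g : G ⧸ P.comp h₀) = orderOf g := by
  refine Nat.dvd_antisymm (orderOf_map_dvd (QuotientGroup.mk' (P.comp h₀)) g)
    (orderOf_dvd_of_pow_eq_one (P.pow_eq_one_of_mem ?_ hg))
  rw [← QuotientGroup.eq_one_iff, QuotientGroup.mk_pow, pow_orderOf_eq_one]

theorem pow_eq_one_of_orderOf_mk {g : G} {p : ℕ} (hp : p.Prime)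
    (h : orderOf (QuotientGroup.mk g : G ⧸ P.comp h₀) = p) : g ∉ P.comp h₀ ∧ g ^ p = 1 := by
  have hg : g ∉ P.comp h₀ := fun hg => hp.ne_one (by
    rw [← h, orderOf_eq_one_iff, QuotientGroup.eq_one_iff]; exact hg)
  exact ⟨hg, by rw [← h, P.orderOf_mk hg, pow_orderOf_eq_one]⟩

theorem exists_fixed {x : G} {p : ℕ} (hp : p.Prime) (hpH : p ∣ Nat.card (P.comp h₀))
    (hx : x ∉ P.comp h₀) (hxp : x ^ p = 1) :
    orderOf x = p ∧ ∃ h ∈ P.comp h₀, h ≠ 1 ∧ Commute x h := by
  haveI := Fact.mk hp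
  have ho : orderOf x = p := orderOf_eq_prime hxp fun e => hx (by rw [e]; exact one_mem _)
  exact ⟨ho, CfsgLib.CITGroups.exists_commute_of_dvd hp ho (by
    rw [normalizer_eq_top_iff.2 (inferInstance : (P.comp h₀).Normal)]; exact mem_top x) hpH⟩

/-- Outside a normal component whose order is divisible by `p`, the elements of order divisible by
`p` have order `p`. -/
theorem pow_eq_one_of_dvd_orderOf {g : G} {p : ℕ} (hp : p.Prime)
    (hpH : p ∣ Nat.card (P.comp h₀)) (hg : g ∉ P.comp h₀) (hd : p ∣ orderOf g) : g ^ p = 1 := by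
  have ho := orderOf_pow_orderOf_div (orderOf_pos g).ne' hd
  have hx : g ^ (orderOf g / p) ∉ P.comp h₀ := fun e => by
    have h1 := P.pow_eq_one_of_mem e hg
    rw [h1, orderOf_one] at ho
    exact hp.ne_one ho.symm
  obtain ⟨hxo, h, hh, hh1, hc⟩ :=
    P.exists_fixed hp hpH hx (by have := pow_orderOf_eq_one (g ^ (orderOf g / p)); rwa [ho] at this)
  have := (P.pow_eq_one_of_mem_centralizer hx hh hh1 hc).2.2 g ((Commute.refl g).pow_right _)
  rwa [hxo] at this

/-- An element outside a normal component centralises no nontrivial element of the component of a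
different order. -/
theorem not_commute_of_orderOf {y v : G} (hy : y ∉ P.comp h₀) (hv : v ∈ P.comp h₀) (hv1 : v ≠ 1)
    (ho : orderOf y ≠ orderOf v) : ¬ Commute y v := fun hc =>
  ho ((P.pow_eq_one_of_mem_centralizer hy hv hv1 hc).2.1).symm

/-- The Sylow `p`-subgroup of `G ⧸ H` is normal. -/
theorem exists_normal_preimage (hnil : Group.IsNilpotent (P.comp h₀)) {p : ℕ} [Fact p.Prime]
    (hpH : p ∣ Nat.card (P.comp h₀)) :
    ∃ U : Subgroup G, U.Normal ∧ P.comp h₀ ≤ U ∧ (∀ u ∈ U, u ∉ P.comp h₀ → u ^ p = 1) ∧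
      ¬ p ∣ U.index := by
  classical
  have hp : p.Prime := Fact.out
  set H := P.comp h₀ with hH
  obtain ⟨v₀, hv₀, hv₀1⟩ := exists_mem_omegaCenter hnil hp hpH
  set V := omegaCenter H p with hV
  have hv₀o : orderOf v₀ = p := orderOf_eq_prime hv₀.2.1 hv₀1
  let π := QuotientGroup.mk' H
  set K := (centralizer (V : Set G)).map π with hK
  haveI : K.Normal :=
    Subgroup.Normal.map inferInstance π (QuotientGroup.mk'_surjective H)
  have hKp : IsPGroup p K := by
    rintro ⟨q, g, hg, rfl⟩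
    by_cases hgH : g ∈ H
    · exact ⟨0, Subtype.ext (by
        rw [pow_zero, pow_one]; exact (QuotientGroup.eq_one_iff g).2 hgH)⟩
    · refine ⟨1, Subtype.ext ?_⟩
      obtain ⟨hgp, hgo, -⟩ := P.pow_eq_one_of_mem_centralizer hgH hv₀.1 hv₀1
        (mem_centralizer_iff.1 hg v₀ hv₀).symm
      show (QuotientGroup.mk g : G ⧸ H) ^ p ^ 1 = 1
      rw [pow_one, ← hv₀o, hgo, ← QuotientGroup.mk_pow, pow_orderOf_eq_one, QuotientGroup.mk_one]
  have hq : ∀ q : G ⧸ H, p ∣ orderOf q → q ^ p = 1 := by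
    intro q
    induction q using QuotientGroup.induction_on with
    | H g =>
      intro hd
      by_cases hgH : g ∈ H
      · rw [(QuotientGroup.eq_one_iff g).2 hgH, one_pow]
      · rw [P.orderOf_mk hgH] at hd
        rw [← QuotientGroup.mk_pow, P.pow_eq_one_of_dvd_orderOf hp hpH hgH hd,
          QuotientGroup.mk_one]
  suffices hmain : ∃ U : Subgroup (G ⧸ H), U.Normal ∧ IsPGroup p U ∧ ¬ p ∣ U.index by
    obtain ⟨U, hUn, hUp, hUi⟩ := hmain
    refine ⟨U.comap π, hUn.comap π, fun h hh => ?_, fun u hu huH => ?_, ?_⟩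
    · rw [mem_comap, QuotientGroup.mk'_apply, (QuotientGroup.eq_one_iff h).2 hh]
      exact one_mem U
    · refine P.pow_eq_one_of_dvd_orderOf hp hpH huH ?_
      rw [← P.orderOf_mk huH]
      obtain ⟨k, hk⟩ := hUp ⟨π u, hu⟩
      obtain ⟨i, -, hi⟩ := (Nat.dvd_prime_pow hp).1
        (orderOf_dvd_of_pow_eq_one (congrArg Subtype.val hk : π u ^ p ^ k = 1))
      rw [show orderOf (QuotientGroup.mk u : G ⧸ H) = p ^ i from hi]
      refine dvd_pow_self p fun e => huH ?_
      rw [← QuotientGroup.eq_one_iff, ← orderOf_eq_one_iff,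
        show orderOf (QuotientGroup.mk u : G ⧸ H) = p ^ i from hi, e, pow_zero]
    · rwa [index_comap_of_surjective _ (QuotientGroup.mk'_surjective H)]
  refine exists_normal_pGroup (p := p) hq (fun x hx U hxU hU => ?_) K hKp ?_ ?_
  · -- an element of order `p` normalises no nontrivial `p'`-subgroup
    obtain ⟨x, rfl⟩ := QuotientGroup.mk'_surjective H x
    obtain ⟨hxH, hxp⟩ := P.pow_eq_one_of_orderOf_mk hp hx
    set W := U.comap π with hW
    have hHW : H ≤ W := fun h hh => by
      rw [hW, mem_comap, QuotientGroup.mk'_apply, (QuotientGroup.eq_one_iff h).2 hh]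
      exact one_mem U
    -- every element of `U x` is conjugate to `x` under `U`
    let f : U → U := fun n => ⟨(n : G ⧸ H) * π x * (n : G ⧸ H)⁻¹ * (π x)⁻¹, by
      rw [show (n : G ⧸ H) * π x * (n : G ⧸ H)⁻¹ * (π x)⁻¹ =
        (n : G ⧸ H) * (π x * (n : G ⧸ H)⁻¹ * (π x)⁻¹) by group]
      exact mul_mem n.2 ((mem_normalizer_iff.1 hxU _).1 (inv_mem n.2))⟩
    have hf : Function.Surjective f := by
      refine Finite.injective_iff_surjective.1 fun a b hab => ?_
      have h' : (a : G ⧸ H) * π x * (a : G ⧸ H)⁻¹ = (b : G ⧸ H) * π x * (b : G ⧸ H)⁻¹ :=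
        mul_right_cancel (congrArg Subtype.val hab)
      have hc : Commute ((b : G ⧸ H)⁻¹ * a) (π x) := by
        refine mul_inv_eq_iff_eq_mul.1 ?_
        calc (b : G ⧸ H)⁻¹ * a * π x * ((b : G ⧸ H)⁻¹ * a)⁻¹
            = (b : G ⧸ H)⁻¹ * ((a : G ⧸ H) * π x * (a : G ⧸ H)⁻¹) * b := by group
          _ = π x := by rw [h']; group
      set c := (b : G ⧸ H)⁻¹ * a with hcdef
      have hcU : c ∈ U := mul_mem (inv_mem b.2) a.2
      have hcop : (orderOf c).Coprime p := Nat.Coprime.coprime_dvd_left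
        (Subgroup.orderOf_dvd_natCard U hcU) ((hp.coprime_iff_not_dvd).2 hU).symm
      have hmul : orderOf (c * π x) = orderOf c * p := by
        rw [hc.orderOf_mul_eq_mul_orderOf_of_coprime (hx.symm ▸ hcop), hx]
      have h1 := orderOf_dvd_of_pow_eq_one (hq (c * π x) (by rw [hmul]; exact dvd_mul_left p _))
      rw [hmul] at h1
      have : orderOf c = 1 := Nat.dvd_one.1
        (Nat.dvd_of_mul_dvd_mul_right hp.pos (by simpa using h1))
      exact Subtype.ext (inv_mul_eq_one.1 (orderOf_eq_one_iff.1 this)).symm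
    have hlift : ∀ u ∈ W, (u * x) ^ p = 1 := by
      intro u hu
      obtain ⟨n, hn⟩ := hf ⟨π u, hu⟩
      have hn' : (n : G ⧸ H) * π x * (n : G ⧸ H)⁻¹ * (π x)⁻¹ = π u := congrArg Subtype.val hn
      refine (P.pow_eq_one_of_orderOf_mk (h₀ := h₀) hp ?_).2
      rw [← hx, show (QuotientGroup.mk (u * x) : G ⧸ H) = (n : G ⧸ H) * π x * (n : G ⧸ H)⁻¹ by
        show π (u * x) = _
        rw [map_mul, ← hn']; group, CfsgLib.Small.orderOf_conj_eq]
    have hxW : x ∈ normalizer (W : Set G) := by
      refine mem_normalizer_iff.2 fun g => ?_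
      simp only [hW, mem_comap, map_mul, map_inv]
      exact mem_normalizer_iff.1 hxU (π g)
    have hrel : H.relIndex W = Nat.card U := by
      have h := relIndex_comap (⊥ : Subgroup (G ⧸ H)) π W
      rw [MonoidHom.comap_bot, QuotientGroup.ker_mk', relIndex_bot_left] at h
      rw [h, hW, map_comap_eq_self_of_surjective (QuotientGroup.mk'_surjective H)]
    have hcent : W ≤ centralizer (V : Set G) := by
      refine le_centralizer_of_outer V ((omegaCenter_le H p).trans hHW)
        (le_centralizer_omegaCenter H p) ?_ hp hxW hlift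
      obtain ⟨k, hk⟩ := IsPGroup.iff_card.1 (isPGroup_omegaCenter H p)
      rw [hrel, hk]
      exact ((hp.coprime_iff_not_dvd).2 hU).symm.pow_right k
    by_contra hne
    obtain ⟨q, hqU, hq1⟩ := exists_mem_ne_one hne
    obtain ⟨u, rfl⟩ := QuotientGroup.mk'_surjective H q
    have huH : u ∉ H := fun h => hq1 ((QuotientGroup.eq_one_iff u).2 h)
    refine P.not_commute_of_orderOf huH hv₀.1 hv₀1 ?_
      (mem_centralizer_iff.1 (hcent hqU) v₀ hv₀).symm
    rw [hv₀o, ← P.orderOf_mk huH]
    intro e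
    exact hU (e ▸ Subgroup.orderOf_dvd_natCard U hqU)
  · -- `p = 2`: every involution acts trivially on `V`
    intro hp2 z hz
    obtain ⟨g, rfl⟩ := QuotientGroup.mk'_surjective H z
    obtain ⟨hgH, hg2⟩ := P.pow_eq_one_of_orderOf_mk Nat.prime_two hz
    refine mem_map_of_mem π (mem_centralizer_iff.2 fun v hv => ?_)
    have hvg : (v * g) ^ 2 = 1 := by
      refine (P.pow_eq_one_of_orderOf_mk (h₀ := h₀) Nat.prime_two ?_).2
      rw [QuotientGroup.mk_mul, (QuotientGroup.eq_one_iff v).2 hv.1, one_mul]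
      exact hz
    have hv2 : v * v = 1 := by have := hv.2.1; rwa [hp2, sq] at this
    rw [sq] at hg2 hvg
    calc v * g = (v * g)⁻¹ := (inv_eq_of_mul_eq_one_right hvg).symm
      _ = g * v := by
        rw [_root_.mul_inv_rev, inv_eq_of_mul_eq_one_right hg2, inv_eq_of_mul_eq_one_right hv2]
  · -- `p` odd: involutions invert `V`
    intro hp2 z z' hz hz'
    obtain ⟨g, rfl⟩ := QuotientGroup.mk'_surjective H z
    obtain ⟨g', rfl⟩ := QuotientGroup.mk'_surjective H z'
    have hinv : ∀ k : G, orderOf (π k) = 2 → ∀ v ∈ V, k * v * k⁻¹ = v⁻¹ := by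
      intro k hk v hv
      obtain ⟨hkH, hk2⟩ := P.pow_eq_one_of_orderOf_mk Nat.prime_two hk
      have hko : orderOf k = 2 := (P.orderOf_mk hkH).symm.trans hk
      rw [sq] at hk2
      have hki : k⁻¹ = k := inv_eq_of_mul_eq_one_right hk2
      rw [hki]
      refine CfsgLib.CITGroups.inverts_of_fixedPointFree hk2 (fun x hx => ?_) (fun x hx hc => ?_) v hv
      · simpa [hki] using (inferInstance : V.Normal).conj_mem x hx k
      · by_contra hx1
        refine P.not_commute_of_orderOf hkH hx.1 hx1 ?_ hc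
        rw [hko, orderOf_eq_prime hx.2.1 hx1]
        exact Ne.symm hp2
    rw [← map_mul]
    refine mem_map_of_mem π (mem_centralizer_iff.2 fun v hv => ?_)
    have h1 := hinv g' hz' v hv
    have h2 := hinv g hz _ (inv_mem hv)
    rw [inv_inv] at h2
    refine (mul_inv_eq_iff_eq_mul.1 ?_).symm
    calc g * g' * v * (g * g')⁻¹ = g * (g' * v * g'⁻¹) * g⁻¹ := by group
      _ = v := by rw [h1, h2]

/-- If a second prime divides the order of the component, the index is `p`. -/
theorem index_eq_prime (hnil : Group.IsNilpotent (P.comp h₀)) {p : ℕ} [Fact p.Prime]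
    (hpH : p ∣ Nat.card (P.comp h₀)) (hpI : p ∣ (P.comp h₀).index)
    (hnp : ¬ IsPGroup p (P.comp h₀)) : (P.comp h₀).index = p := by
  classical
  have hp : p.Prime := Fact.out
  set H := P.comp h₀ with hH
  obtain ⟨q, hq, hqp, hqH⟩ : ∃ q, q.Prime ∧ q ≠ p ∧ q ∣ Nat.card H := by
    by_contra hcon
    push Not at hcon
    exact hnp (IsPGroup.of_card (n := (Nat.card H).primeFactorsList.length)
      (Nat.eq_prime_pow_of_unique_prime_dvd Nat.card_pos.ne'
        fun {d} hd hdd => by_contra fun hne => hcon d hd hne hdd))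
  haveI := Fact.mk hq
  obtain ⟨w, hw, hw1⟩ := exists_mem_omegaCenter hnil hq hqH
  have hwo : orderOf w = q := orderOf_eq_prime hw.2.1 hw1
  set W := omegaCenter H q with hW
  obtain ⟨U, hUn, hHU, hUexp, hUi⟩ := P.exists_normal_preimage hnil hpH
  -- `U` is not trivial modulo `H` and acts faithfully on `W`
  have hnc : ∀ u ∈ U, u ∉ H → ¬ Commute u w := fun u hu huH => by
    refine P.not_commute_of_orderOf huH hw.1 hw1 ?_
    rw [hwo, orderOf_eq_prime (hUexp u hu huH) fun e => huH (by rw [e]; exact one_mem H)]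
    exact fun e => hqp e.symm
  have hcopW : ∀ k : ℕ, (p ^ k).Coprime (Nat.card W) := by
    intro k
    obtain ⟨l, hl⟩ := IsPGroup.iff_card.1 (isPGroup_omegaCenter H q)
    rw [hl]
    exact Nat.coprime_pow_primes _ _ hp hq hqp.symm
  let π := QuotientGroup.mk' H
  set Q := U.map π with hQ
  have hQp : IsPGroup p Q := by
    rintro ⟨_, u, hu, rfl⟩
    by_cases huH : u ∈ H
    · exact ⟨0, Subtype.ext (by rw [pow_zero, pow_one]; exact (QuotientGroup.eq_one_iff u).2 huH)⟩
    · exact ⟨1, Subtype.ext (by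
        show (QuotientGroup.mk u : G ⧸ H) ^ p ^ 1 = 1
        rw [pow_one, ← QuotientGroup.mk_pow, hUexp u hu huH, QuotientGroup.mk_one])⟩
  have hQne : Q ≠ ⊥ := by
    rw [hQ, Ne, Subgroup.map_eq_bot_iff, QuotientGroup.ker_mk']
    intro hle
    exact hUi ((le_antisymm hle hHU) ▸ hpI)
  haveI : Nontrivial Q := (nontrivial_iff_ne_bot Q).2 hQne
  haveI := hQp.center_nontrivial
  obtain ⟨⟨⟨_, a, ha, rfl⟩, hac⟩, hane⟩ := exists_ne (1 : center Q)
  have haH : a ∉ H := fun h => hane (Subtype.ext (Subtype.ext ((QuotientGroup.eq_one_iff a).2 h)))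
  have hcentral : ∀ u ∈ U, π (a * u) = π (u * a) := fun u hu => by
    have := congrArg Subtype.val (mem_center_iff.1 hac ⟨π u, mem_map_of_mem π hu⟩)
    rw [map_mul, map_mul]
    exact this.symm
  set A := H ⊔ zpowers a with hA
  have hAU : A ≤ U := sup_le hHU (zpowers_le.2 ha)
  have hgen : ∀ w ∈ A, π w ∈ zpowers (π a) := by
    intro w hw
    have : A.map π = zpowers (π a) := by
      rw [hA, Subgroup.map_sup, MonoidHom.map_zpowers,
        (Subgroup.map_eq_bot_iff H).2 (QuotientGroup.ker_mk' H).ge, bot_sup_eq]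
    exact this ▸ mem_map_of_mem π hw
  -- first, `U = H⟨a⟩`
  have hUA : U ≤ A := by
    intro x hx
    by_contra hxA
    have hxH : x ∉ H := fun h => hxA (mem_sup_left h)
    have hxN : x ∈ normalizer (A : Set G) := by
      refine mem_normalizer_iff.2 fun g => ?_
      have key : ∀ g : G, g ∈ A ↔ π g ∈ zpowers (π a) := fun g => ⟨hgen g, fun hg => by
        obtain ⟨i, hi⟩ := hg
        have h1 : (a ^ i)⁻¹ * g ∈ H := by
          rw [← QuotientGroup.eq_one_iff]
          show π ((a ^ i)⁻¹ * g) = 1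
          rw [map_mul, map_inv, map_zpow, show π a ^ i = π g from hi, inv_mul_cancel]
        have := mul_mem (mem_sup_right (zpow_mem (mem_zpowers a) i) : a ^ i ∈ A) (mem_sup_left h1)
        simpa using this⟩
      have hcx : Commute (π x) (π a) := by
        have := hcentral x hx
        rw [map_mul, map_mul] at this
        exact this.symm
      rw [key, key, map_mul, map_mul, map_inv]
      constructor
      · rintro ⟨i, hi⟩
        exact ⟨i, by
          rw [← show π a ^ i = π g from hi, ((hcx.zpow_right i)).eq, mul_inv_cancel_right]⟩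
      · rintro ⟨i, hi⟩
        refine ⟨i, ?_⟩
        have h2 : π x * π g * (π x)⁻¹ = π a ^ i := hi.symm
        show π a ^ i = π g
        have h3 := (hcx.zpow_right i).eq
        calc π a ^ i = (π x)⁻¹ * (π x * π a ^ i) := by group
          _ = (π x)⁻¹ * (π a ^ i * π x) := by rw [h3]
          _ = π g := by rw [← h2]; group
    have hcent := le_centralizer_of_outer W
      ((omegaCenter_le H q).trans le_sup_left) (le_centralizer_omegaCenter H q)
      (by
        obtain ⟨k, hk⟩ := IsPGroup.iff_card.1 hQp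
        refine Nat.Coprime.coprime_dvd_left ?_ (hcopW k)
        rw [← hk, hQ]
        have h := relIndex_comap (⊥ : Subgroup (G ⧸ H)) π U
        rw [MonoidHom.comap_bot, QuotientGroup.ker_mk', relIndex_bot_left] at h
        rw [← h, ← relIndex_mul_relIndex H A U le_sup_left hAU]
        exact dvd_mul_right _ _)
      hp hxN (fun u hu => hUexp _ (mul_mem (hAU hu) hx) fun h => hxA (by
        simpa using mul_mem (inv_mem hu) (mem_sup_left h : u * x ∈ A)))
    exact hnc a ha haH (mem_centralizer_iff.1 (hcent (mem_sup_right (mem_zpowers a))) w hw).symm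
  have hao : orderOf (π a) = p := by
    show orderOf (QuotientGroup.mk a : G ⧸ H) = p
    rw [P.orderOf_mk haH]
    exact orderOf_eq_prime (hUexp a ha haH) fun e => haH (by rw [e]; exact one_mem H)
  -- then, `U = G`
  have hUtop : U = ⊤ := by
    by_contra hne
    have hi1 : U.index ≠ 1 := fun e => hne (index_eq_one.1 e)
    obtain ⟨r, hr, hrd⟩ := Nat.exists_prime_and_dvd hi1
    haveI := Fact.mk hr
    have hrp : r ≠ p := fun e => hUi (e ▸ hrd)
    obtain ⟨yq, hyq⟩ := exists_prime_orderOf_dvd_card' (G := G ⧸ H) r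
      (hrd.trans (by rw [← index_eq_card]; exact index_dvd_of_le hHU))
    obtain ⟨y, rfl⟩ := QuotientGroup.mk_surjective yq
    obtain ⟨hyH, hyr⟩ := P.pow_eq_one_of_orderOf_mk hr hyq
    have hnoc : ¬ Commute (π a) (π y) := by
      intro hc
      have hmul : orderOf (π (a * y)) = p * r := by
        rw [map_mul, hc.orderOf_mul_eq_mul_orderOf_of_coprime (by
          rw [hao, show orderOf (π y) = r from hyq]; exact (Nat.coprime_primes hp hr).2 hrp.symm),
          hao, show orderOf (π y) = r from hyq]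
      have hnm : a * y ∉ H := fun h => by
        rw [show π (a * y) = 1 from (QuotientGroup.eq_one_iff (a * y)).2 h, orderOf_one] at hmul
        exact hp.ne_one (Nat.eq_one_of_mul_eq_one_right hmul.symm)
      have h1 : orderOf (a * y) = p * r := (P.orderOf_mk hnm).symm.trans hmul
      have h2 := orderOf_dvd_of_pow_eq_one
        (P.pow_eq_one_of_dvd_orderOf hp hpH hnm (by rw [h1]; exact dvd_mul_right p r))
      rw [h1] at h2
      exact hr.ne_one (Nat.dvd_one.1 (Nat.dvd_of_mul_dvd_mul_left hp.pos (by simpa using h2)))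
    have hlift : ∀ u ∈ U, (u * y) ^ r = 1 := by
      intro u hu
      refine (P.pow_eq_one_of_orderOf_mk (h₀ := h₀) hr ?_).2
      -- the coset of `y` in `Q y` consists of conjugates of `y`
      let f : Q → Q := fun n => ⟨(n : G ⧸ H) * π y * (n : G ⧸ H)⁻¹ * (π y)⁻¹, by
        haveI : Q.Normal := hUn.map π (QuotientGroup.mk'_surjective H)
        rw [show (n : G ⧸ H) * π y * (n : G ⧸ H)⁻¹ * (π y)⁻¹ =
          (n : G ⧸ H) * (π y * (n : G ⧸ H)⁻¹ * (π y)⁻¹) by group]
        exact mul_mem n.2 ((inferInstance : Q.Normal).conj_mem _ (inv_mem n.2) _)⟩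
      have hf : Function.Surjective f := by
        refine Finite.injective_iff_surjective.1 fun b c hbc => ?_
        have h' : (b : G ⧸ H) * π y * (b : G ⧸ H)⁻¹ = (c : G ⧸ H) * π y * (c : G ⧸ H)⁻¹ :=
          mul_right_cancel (congrArg Subtype.val hbc)
        have hc' : Commute ((c : G ⧸ H)⁻¹ * b) (π y) := by
          refine mul_inv_eq_iff_eq_mul.1 ?_
          calc (c : G ⧸ H)⁻¹ * b * π y * ((c : G ⧸ H)⁻¹ * b)⁻¹
              = (c : G ⧸ H)⁻¹ * ((b : G ⧸ H) * π y * (b : G ⧸ H)⁻¹) * c := by group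
            _ = π y := by rw [h']; group
        obtain ⟨v, hv, hve⟩ := mul_mem (inv_mem c.2) b.2
        have hvA : v ∈ A := hUA hv
        obtain ⟨i, hi⟩ := hgen v hvA
        have hi' : π a ^ i = (c : G ⧸ H)⁻¹ * b := (show π a ^ i = π v from hi).trans hve
        refine Subtype.ext (inv_mul_eq_one.1 ?_).symm
        rw [← hi']
        by_contra hne'
        refine hnoc ?_
        obtain ⟨j, hj⟩ : ∃ j : ℤ, (π a ^ i) ^ j = π a := by
          refine mem_zpowers_iff.1 (?_ : π a ∈ zpowers (π a ^ i))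
          have hcard : Nat.card (zpowers (π a)) = p := by rw [Nat.card_zpowers, hao]
          haveI : Fact (Nat.card (zpowers (π a))).Prime := ⟨by rw [hcard]; exact hp⟩
          have := mem_zpowers_of_prime_card hcard
            (g := (⟨π a ^ i, zpow_mem (mem_zpowers _) i⟩ : zpowers (π a)))
            (g' := ⟨π a, mem_zpowers _⟩) (fun e => hne' (congrArg Subtype.val e))
          obtain ⟨j, hj⟩ := this
          exact ⟨j, congrArg Subtype.val hj⟩
        rw [← hj]
        exact (hi' ▸ hc').zpow_left j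
      obtain ⟨n, hn⟩ := hf ⟨π u, mem_map_of_mem π hu⟩
      have hn' : (n : G ⧸ H) * π y * (n : G ⧸ H)⁻¹ * (π y)⁻¹ = π u := congrArg Subtype.val hn
      show orderOf (π (u * y)) = r
      rw [map_mul, ← hn', inv_mul_cancel_right, CfsgLib.Small.orderOf_conj_eq]
      exact hyq
    have hcent := le_centralizer_of_outer W ((omegaCenter_le H q).trans hHU)
      (le_centralizer_omegaCenter H q) (by
        obtain ⟨k, hk⟩ := IsPGroup.iff_card.1 hQp
        refine Nat.Coprime.coprime_dvd_left ?_ (hcopW k)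
        rw [← hk, hQ]
        have h := relIndex_comap (⊥ : Subgroup (G ⧸ H)) π U
        rw [MonoidHom.comap_bot, QuotientGroup.ker_mk', relIndex_bot_left] at h
        rw [← h]) hr (by rw [normalizer_eq_top_iff.2 hUn]; exact mem_top y) hlift
    exact hnc a ha haH (mem_centralizer_iff.1 (hcent ha) w hw).symm
  subst hUtop
  rw [index_eq_card, ← hao, ← Nat.card_zpowers]
  refine Nat.card_congr (Equiv.subtypeUnivEquiv fun x => ?_).symm
  induction x using QuotientGroup.induction_on with
  | H g => exact hgen g (hUA (mem_top g))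

/-- **A normal component.** Either there is a Frobenius complement, or for some prime `p` every
element outside the component has order `p`. -/
theorem normal_comp_dichotomy (hnil : Group.IsNilpotent (P.comp h₀)) (hH1 : h₀ ≠ 1) :
    (∃ Y : Subgroup G, Cfsg.IsFrobeniusComplement Y) ∨
      ∃ p : ℕ, p.Prime ∧ ∀ g ∉ P.comp h₀, g ^ p = 1 := by
  classical
  set H := P.comp h₀ with hH
  have hHne : H ≠ ⊥ := P.comp_ne_bot hH1
  have hHtop : H ≠ ⊤ := P.ne_top h₀
  by_cases hcop : (Nat.card H).Coprime H.index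
  · left
    obtain ⟨Y, hY⟩ := Subgroup.exists_right_complement'_of_coprime hcop
    refine ⟨Y, isFrobeniusComplement_of_complement hY hHne (fun e => hHtop ?_)
      fun y hy hy1 u hu hu1 hc => ?_⟩
    · subst e
      exact isComplement'_bot_right.1 hY
    · have hyH : y ∉ H := fun h => hy1 (mem_bot.1 (hY.disjoint.eq_bot.le ⟨h, hy⟩))
      refine P.not_commute_of_orderOf hyH hu hu1 (fun ho => hy1 ?_) hc.symm
      have h1 := Subgroup.orderOf_dvd_natCard H hu
      have h2 := Subgroup.orderOf_dvd_natCard Y hy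
      rw [← (IsComplement'.symm hY).index_eq_card] at h2
      rw [ho] at h2
      rw [← orderOf_eq_one_iff, ho]
      exact Nat.dvd_one.1 (hcop.gcd_eq_one ▸ Nat.dvd_gcd h1 h2)
  obtain ⟨p, hp, hpH, hpI⟩ := Nat.Prime.not_coprime_iff_dvd.1 hcop
  haveI := Fact.mk hp
  obtain ⟨U, hUn, hHU, hUexp, hUi⟩ := P.exists_normal_preimage hnil hpH
  by_cases hUtop : U = ⊤
  · exact Or.inr ⟨p, hp, fun g hg => hUexp g (hUtop ▸ mem_top g) hg⟩
  left
  by_cases hHp : IsPGroup p H
  · have hUp : IsPGroup p U := by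
      rintro ⟨u, hu⟩
      by_cases huH : u ∈ H
      · obtain ⟨k, hk⟩ := hHp ⟨u, huH⟩
        exact ⟨k, Subtype.ext (congrArg Subtype.val hk : u ^ p ^ k = 1)⟩
      · exact ⟨1, Subtype.ext (by rw [pow_one]; exact hUexp u hu huH)⟩
    have hcopU : (Nat.card U).Coprime U.index := by
      obtain ⟨k, hk⟩ := IsPGroup.iff_card.1 hUp
      rw [hk]
      exact ((hp.coprime_iff_not_dvd).2 hUi).pow_left k
    haveI := hUn
    obtain ⟨Y, hY⟩ := Subgroup.exists_right_complement'_of_coprime hcopU
    refine ⟨Y, isFrobeniusComplement_of_complement hY (fun e => hHne (eq_bot_iff.2 (e ▸ hHU)))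
      (fun e => hUtop ?_) fun y hy hy1 u hu hu1 hc => ?_⟩
    · subst e
      exact isComplement'_bot_right.1 hY
    have hyU : y ∉ U := fun h => hy1 (mem_bot.1 (hY.disjoint.eq_bot.le ⟨h, hy⟩))
    have hyH : y ∉ H := fun h => hyU (hHU h)
    have hyp : ¬ p ∣ orderOf y := fun h => hUi
      (h.trans (by rw [(IsComplement'.symm hY).index_eq_card]; exact Subgroup.orderOf_dvd_natCard Y hy))
    obtain ⟨k, hk⟩ := hUp ⟨u, hu⟩
    obtain ⟨i, -, hi⟩ := (Nat.dvd_prime_pow hp).1
      (orderOf_dvd_of_pow_eq_one (congrArg Subtype.val hk : u ^ p ^ k = 1))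
    have hup : p ∣ orderOf u :=
      hi ▸ dvd_pow_self p fun e => hu1 (orderOf_eq_one_iff.1 (by rw [hi, e, pow_zero]))
    by_cases huH : u ∈ H
    · exact P.not_commute_of_orderOf hyH huH hu1 (fun ho => hyp (ho ▸ hup)) hc.symm
    · have hmul := hc.orderOf_mul_eq_mul_orderOf_of_coprime
        (hi ▸ ((hp.coprime_iff_not_dvd).2 hyp).pow_left i)
      have hnm : u * y ∉ H := fun h => hyU (by simpa using mul_mem (inv_mem hu) (hHU h))
      have h2 := orderOf_dvd_of_pow_eq_one (P.pow_eq_one_of_dvd_orderOf hp hpH hnm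
        (by rw [hmul]; exact hup.mul_right _))
      exact hyp (((Nat.dvd_prime hp).1 ((dvd_mul_left _ _).trans (hmul ▸ h2))).resolve_left
        (fun e => hy1 (orderOf_eq_one_iff.1 e)) ▸ dvd_rfl)
  · exfalso
    have hidx := P.index_eq_prime hnil hpH hpI hHp
    have h1 := index_dvd_of_le hHU
    rw [hidx] at h1
    exact hUtop (index_eq_one.1 (((Nat.dvd_prime hp).1 h1).resolve_right fun e => hUi (e ▸ dvd_rfl)))

end Part

end CfsgLib.GroupPartition
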