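import Cfsg.Agent.GroupPartition.NormalComponent
import Cfsg.Agent.Small.ThompsonTransfer
import Cfsg.Agent.Small.NormalFour
import Cfsg.Agent.Inv54.Core
import Cfsg.Agent.S0508
import Cfsg.Agent.S2202
import Cfsg.Agent.SuzukiUnique.Main

/-!
# Simple groups with a partition

A non-abelian simple group with a partition is `PSL₂(q)` or a Suzuki group.
-/

set_option autoImplicit false
set_option linter.style.haveILetI false
set_option linter.unusedSectionVars false

namespace CfsgLib.GroupPartition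

open Subgroup
open scoped Pointwise

universe u

variable {G : Type u} [Group G]

/-- A non-abelian finite simple group has even order. -/
theorem two_dvd_card [Finite G] [IsSimpleGroup G] (hna : ∃ a b : G, a * b ≠ b * a) :
    2 ∣ Nat.card G := by
  by_contra h
  haveI : Group.IsSolvable G := Cfsg.Agent.S0205.result
    (Nat.not_even_iff_odd.1 fun e => h (even_iff_two_dvd.1 e))
  obtain ⟨a, b, hab⟩ := hna
  exact hab (IsSimpleGroup.comm_iff_isSolvable.2 inferInstance a b)

theorem relIndex_eq_two {K L : Subgroup G} {a : G} (haL : a ∈ L) (haK : a ∉ K)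
    (h : ∀ b ∈ L, b ∉ K → b * a ∈ K) : K.relIndex L = 2 := by
  rw [relIndex, index_eq_two_iff]
  refine ⟨⟨a, haL⟩, fun b => ?_⟩
  simp only [mem_subgroupOf, Subgroup.coe_mul]
  by_cases hb : (b : G) ∈ K
  · exact Or.inr ⟨hb, fun e => haK (by simpa using mul_mem (inv_mem hb) e)⟩
  · exact Or.inl ⟨h b b.2 hb, hb⟩

/-- A `2`-element commuting with a Sylow subgroup lies in it. -/
theorem mem_sylow_of_commute [Finite G] (S : Sylow 2 G) {v : G} (hv : orderOf v = 2)
    (hc : ∀ s ∈ S, Commute s v) : v ∈ (S : Subgroup G) := by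
  haveI := Fact.mk Nat.prime_two
  have hle : (S : Subgroup G) ≤ normalizer (zpowers v : Set G) := fun s hs => by
    refine mem_normalizer_iff.2 fun a => ?_
    constructor
    · rintro ⟨k, rfl⟩
      exact ⟨k, (mul_inv_eq_iff_eq_mul.2 ((hc s hs).zpow_right k).eq).symm⟩
    · rintro ⟨k, hk⟩
      refine ⟨k, ?_⟩
      have h := ((hc s hs).zpow_right k).eq
      show v ^ k = a
      calc v ^ k = s⁻¹ * (s * v ^ k) := by group
        _ = s⁻¹ * (v ^ k * s) := by rw [h]
        _ = a := by rw [show v ^ k = s * a * s⁻¹ from hk]; group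
  obtain ⟨S₁, hS₁⟩ := (IsPGroup.to_sup_of_normal_right' S.2
    (IsPGroup.of_card (n := 1) (by rw [Nat.card_zpowers, hv, pow_one])) hle).exists_le_sylow
  rw [← show (S₁ : Subgroup G) = S from S.3 S₁.2 (le_sup_left.trans hS₁)]
  exact hS₁ (mem_sup_right (mem_zpowers v))

namespace Part

variable [Finite G] (P : Part G)

theorem not_normalizer_le [IsSimpleGroup G] {g : G} (hg : g ≠ 1) :
    ¬ normalizer (P.comp g : Set G) ≤ P.comp g := by
  intro h
  obtain ⟨N, hN, hcompl, -⟩ := CfsgLib.Characters.exists_frobenius_kernel (P.comp g)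
    fun x hx y hy hxy => by_contra fun hy1 => hx (h (P.mem_normalizer_of_conj_mem hy hy1 hxy))
  rcases hN.eq_bot_or_eq_top with rfl | rfl
  · exact P.ne_top g (isComplement'_bot_left.1 hcompl)
  · exact P.comp_ne_bot hg (isComplement'_top_left.1 hcompl)

theorem isNilpotent_of_simple [IsSimpleGroup G] {g : G} (hg : g ≠ 1) :
    Group.IsNilpotent (P.comp g) := P.isNilpotent_comp (P.not_normalizer_le hg)

theorem normalizer_comp_ne_top [IsSimpleGroup G] {g : G} (hg : g ≠ 1) :
    normalizer (P.comp g : Set G) ≠ ⊤ := fun h =>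
  ((normalizer_eq_top_iff.1 h).eq_bot_or_eq_top).elim (P.comp_ne_bot hg) (P.ne_top g)

/-! ### A component inverted by an outside element -/

section Inverted

variable {g₀ x h₁ : G} (hh : h₁ ∈ P.comp g₀) (hh2 : h₁ * h₁ ≠ 1)
  (heven : 2 ∣ Nat.card (P.comp g₀)) (hxN : x ∈ normalizer (P.comp g₀ : Set G))
  (hxH : x ∉ P.comp g₀) (hx2 : x * x ∈ P.comp g₀)
include hh hh2 heven hxN hxH hx2

theorem inverted {y : G} (hy : y ∈ normalizer (P.comp g₀ : Set G)) (hyH : y ∉ P.comp g₀)
    (hy2 : y * y ∈ P.comp g₀) : y * y = 1 ∧ ∀ h ∈ P.comp g₀, y * h * y = h⁻¹ := by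
  have hsq : ∀ y : G, y ∉ P.comp g₀ → y * y ∈ P.comp g₀ → y * y = 1 := fun y hyH hy2 => by
    have := P.pow_eq_one_of_mem (n := 2) (by rwa [sq]) hyH
    rwa [sq] at this
  have hyy := hsq y hyH hy2
  refine ⟨hyy, fun h hh' => ?_⟩
  have hyi : y⁻¹ = y := inv_eq_of_mul_eq_one_right hyy
  have hconj : y * h * y ∈ P.comp g₀ := by
    have := (mem_normalizer_iff.1 hy h).1 hh'
    rwa [hyi] at this
  have h1 : y * h * (y * h) = 1 := hsq _ (fun e => hyH (by simpa using mul_mem e (inv_mem hh')))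
    (by rw [← mul_assoc]; exact mul_mem hconj hh')
  calc y * h * y = y * h * (y * h) * h⁻¹ := by group
    _ = h⁻¹ := by rw [h1, one_mul]

theorem comm : ∀ a ∈ P.comp g₀, ∀ b ∈ P.comp g₀, a * b = b * a :=
  let h := P.inverted hh hh2 heven hxN hxH hx2 hxN hxH hx2
  CfsgLib.CITGroups.commute_of_inverted h.1 h.2

theorem mul_mem_of_outer {y z : G} (hy : y ∈ normalizer (P.comp g₀ : Set G)) (hyH : y ∉ P.comp g₀)
    (hy2 : y * y ∈ P.comp g₀) (hz : z ∈ normalizer (P.comp g₀ : Set G)) (hzH : z ∉ P.comp g₀)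
    (hz2 : z * z ∈ P.comp g₀) : y * z ∈ P.comp g₀ := by
  obtain ⟨hyy, hyinv⟩ := P.inverted hh hh2 heven hxN hxH hx2 hy hyH hy2
  obtain ⟨hzz, hzinv⟩ := P.inverted hh hh2 heven hxN hxH hx2 hz hzH hz2
  by_contra hne
  have hne1 : y * z ≠ 1 := fun e => hne (e ▸ one_mem _)
  have hc : ∀ h ∈ P.comp g₀, Commute (y * z) h := fun h hh' => by
    refine mul_inv_eq_iff_eq_mul.1 ?_
    have h1 := hzinv h hh'
    have h2 := hyinv _ (inv_mem hh')
    rw [inv_inv] at h2
    calc y * z * h * (y * z)⁻¹ = y * (z * h * z) * y := by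
          rw [_root_.mul_inv_rev, inv_eq_of_mul_eq_one_right hyy, inv_eq_of_mul_eq_one_right hzz]
          simp only [mul_assoc]
      _ = h := by rw [h1, h2]
  have hord : ∀ h ∈ P.comp g₀, h ≠ 1 → orderOf (y * z) = orderOf h := fun h hh' h1 =>
    ((P.orderOf_eq_of_commute h1 hne1 (hc h hh').symm
      (fun e => hne (P.eq_of_mem hh' h1 ▸ e))).2)
  haveI := Fact.mk Nat.prime_two
  obtain ⟨t, ht⟩ := exists_prime_orderOf_dvd_card' (G := P.comp g₀) 2 heven
  have ht' : orderOf (t : G) = 2 := by rw [Subgroup.orderOf_coe, ht]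
  have h1 : h₁ ≠ 1 := fun e => hh2 (by rw [e, one_mul])
  have := (hord h₁ hh h1).symm.trans ((hord t t.2 fun e => by
    rw [e, orderOf_one] at ht'; omega).trans ht')
  exact hh2 (by rw [← sq, ← this]; exact pow_orderOf_eq_one h₁)

theorem centralizer_invol {t y : G} (ht : t ∈ P.comp g₀) (hto : orderOf t = 2) (hy : Commute y t) :
    y ∈ normalizer (P.comp g₀ : Set G) ∧ (y ∉ P.comp g₀ → y * y ∈ P.comp g₀) := by
  have ht1 : t ≠ 1 := CfsgLib.Small.ne_one_of_orderOf_two hto
  refine ⟨P.mem_normalizer_of_commute ht ht1 hy, fun hyH => ?_⟩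
  rw [← sq, P.pow_eq_one_of_commute ht ht1 hyH hy hto]
  exact one_mem _

theorem mul_mem_of_commute {t₁ t₂ y z : G} (ht₁ : t₁ ∈ P.comp g₀) (ht₁o : orderOf t₁ = 2)
    (ht₂ : t₂ ∈ P.comp g₀) (ht₂o : orderOf t₂ = 2) (hy : Commute y t₁) (hyH : y ∉ P.comp g₀)
    (hz : Commute z t₂) (hzH : z ∉ P.comp g₀) : y * z ∈ P.comp g₀ := by
  obtain ⟨hyN, hy2⟩ := P.centralizer_invol hh hh2 heven hxN hxH hx2 ht₁ ht₁o hy
  obtain ⟨hzN, hz2⟩ := P.centralizer_invol hh hh2 heven hxN hxH hx2 ht₂ ht₂o hz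
  exact P.mul_mem_of_outer hh hh2 heven hxN hxH hx2 hyN hyH (hy2 hyH) hzN hzH (hz2 hzH)

theorem exists_sylow_le_centralizer [IsSimpleGroup G] (hna : ∃ a b : G, a * b ≠ b * a) :
    ∃ t ∈ P.comp g₀, orderOf t = 2 ∧ ∃ S : Sylow 2 G, ∀ s ∈ S, Commute s t := by
  classical
  haveI := Fact.mk Nat.prime_two
  set H := P.comp g₀ with hH
  obtain ⟨⟨t, htH⟩, ht'⟩ := exists_prime_orderOf_dvd_card' (G := H) 2 heven
  have ht : orderOf t = 2 := (Subgroup.orderOf_coe _).trans ht'
  have ht1 : t ≠ 1 := CfsgLib.Small.ne_one_of_orderOf_two ht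
  set C := centralizer ({t} : Set G) with hC
  let T : Sylow 2 C := default
  set T' := (T : Subgroup C).map C.subtype with hT'
  obtain ⟨S, hS⟩ := (T.2.map C.subtype : IsPGroup 2 T').exists_le_sylow
  have hST : ∀ s ∈ S, Commute s t → s ∈ T' := by
    intro s hs hst
    have hsC : s ∈ C := mem_centralizer_singleton_iff.2 hst
    have hp : IsPGroup 2 ((S : Subgroup G).subgroupOf C) := fun v => by
      obtain ⟨k, hk⟩ := S.2 ⟨(v : C).1, v.2⟩
      exact ⟨k, Subtype.ext (Subtype.ext (congrArg Subtype.val hk :))⟩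
    have := T.3 hp (fun w hw => hS ⟨w, hw, rfl⟩)
    exact ⟨⟨s, hsC⟩, this ▸ mem_subgroupOf.2 hs, rfl⟩
  have htS : t ∈ (S : Subgroup G) := by
    refine hS ⟨⟨t, mem_centralizer_singleton_iff.2 rfl⟩, ?_, rfl⟩
    have htz : (⟨t, mem_centralizer_singleton_iff.2 rfl⟩ : C) ∈ center C :=
      mem_center_iff.2 fun y => Subtype.ext (mem_centralizer_singleton_iff.1 y.2)
    have hn : (zpowers (⟨t, mem_centralizer_singleton_iff.2 rfl⟩ : C)).Normal := ⟨fun a ha g => by
      rw [mem_center_iff.1 ((zpowers_le.2 htz) ha) g, mul_inv_cancel_right]; exact ha⟩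
    obtain ⟨T₁, hT₁⟩ := (show IsPGroup 2 (zpowers (⟨t, mem_centralizer_singleton_iff.2 rfl⟩ : C))
      from IsPGroup.of_card (n := 1) (by
        rw [Nat.card_zpowers, ← Subgroup.orderOf_coe]; simpa using ht)).exists_le_sylow
    obtain ⟨c, hc⟩ := MulAction.exists_smul_eq C T₁ T
    rw [SetLike.mem_coe, ← hc, Sylow.coe_subgroup_smul, mem_pointwise_smul_iff_inv_smul_mem,
      MulAut.smul_def, ← map_inv, MulAut.conj_apply]
    exact hT₁ (hn.conj_mem _ (mem_zpowers _) _)
  by_cases hexp : ∀ s ∈ S, s * s = 1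
  · refine ⟨t, htH, ht, S, fun s hs => ?_⟩
    have h1 := inv_eq_of_mul_eq_one_right (hexp s hs)
    have h2 := inv_eq_of_mul_eq_one_right (hexp t htS)
    have h3 := inv_eq_of_mul_eq_one_right (hexp _ (mul_mem hs htS))
    show s * t = t * s
    rw [← h3, _root_.mul_inv_rev, h1, h2]
  push Not at hexp
  obtain ⟨g, hgS, hgg⟩ := hexp
  haveI : Nontrivial (S : Subgroup G) :=
    ⟨⟨g, hgS⟩, 1, fun e => hgg (by rw [show g = 1 from congrArg Subtype.val e, one_mul])⟩
  haveI := S.2.center_nontrivial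
  obtain ⟨w, hw⟩ := exists_ne (1 : center (S : Subgroup G))
  obtain ⟨k, hk⟩ := S.2 (w : (S : Subgroup G))
  obtain ⟨i, -, hi⟩ := (Nat.dvd_prime_pow Nat.prime_two).1 (orderOf_dvd_of_pow_eq_one hk)
  have hi0 : i ≠ 0 := fun e => hw (Subtype.ext (orderOf_eq_one_iff.1 (by rw [hi, e, pow_zero])))
  set zS := (w : (S : Subgroup G)) ^ (orderOf (w : (S : Subgroup G)) / 2) with hzS
  set z : G := (zS : G) with hz
  have hzo : orderOf z = 2 := by
    rw [hz, Subgroup.orderOf_coe]
    exact orderOf_pow_orderOf_div (orderOf_pos _).ne' (hi ▸ dvd_pow_self 2 hi0)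
  have hz1 : z ≠ 1 := CfsgLib.Small.ne_one_of_orderOf_two hzo
  have hzc : ∀ s ∈ S, Commute s z := fun s hs =>
    congrArg Subtype.val (mem_center_iff.1 (pow_mem w.2 _) ⟨s, hs⟩)
  by_cases hzH : z ∈ H
  · exact ⟨z, hzH, hzo, S, hzc⟩
  set K := P.comp z with hK
  have htK : t ∉ K := fun e => hzH (by
    have h2 : P.comp z = P.comp g₀ := (P.eq_of_mem e ht1).symm.trans (P.eq_of_mem htH ht1)
    rw [hH, ← h2]; exact P.mem z)
  have hgo : orderOf g ≠ 2 := fun e => hgg (CfsgLib.Small.mul_self_of_orderOf_two e)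
  have hg1 : g ≠ 1 := fun e => hgg (by rw [e, one_mul])
  have hgK : g ∈ K := P.mem_comp_of_orderOf_ne hz1 hg1 (hzc g hgS).symm (by rw [hzo]; exact hgo)
  have hout : ∀ s ∈ S, s ∉ K → s * s = 1 := fun s hs hsK => by
    rw [← sq]; exact P.pow_eq_one_of_commute (P.mem z) hz1 hsK (hzc s hs) hzo
  have hprod : ∀ s ∈ S, ∀ s' ∈ S, s ∉ K → s' ∉ K → s * s' ∈ K := by
    intro s hs s' hs' hsK hs'K
    by_contra hne
    have hinv : ∀ p ∈ S, p ∉ K → p * g * p = g⁻¹ := fun p hp hpK => by
      have h1 : p * g * (p * g) = 1 := hout _ (mul_mem hp hgS) fun e =>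
        hpK (by simpa using mul_mem e (inv_mem hgK))
      calc p * g * p = p * g * (p * g) * g⁻¹ := by group
        _ = g⁻¹ := by rw [h1, one_mul]
    have hc : Commute (s * s') g := by
      refine mul_inv_eq_iff_eq_mul.1 ?_
      have h2 : s * g⁻¹ * s = g := by
        have := congrArg (·⁻¹) (hinv s hs hsK)
        simpa [_root_.mul_inv_rev, inv_eq_of_mul_eq_one_right (hout s hs hsK), mul_assoc] using this
      calc s * s' * g * (s * s')⁻¹ = s * (s' * g * s') * s := by
            rw [_root_.mul_inv_rev, inv_eq_of_mul_eq_one_right (hout s hs hsK),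
              inv_eq_of_mul_eq_one_right (hout s' hs' hs'K)]
            simp only [mul_assoc]
        _ = g := by rw [hinv s' hs' hs'K, h2]
    have hne1 : s * s' ≠ 1 := fun e => hne (by rw [e]; exact one_mem _)
    refine hgo ?_
    rw [← (P.orderOf_eq_of_commute hg1 hne1 hc.symm (fun e => hne (by rw [P.eq_of_mem hgK hg1] at e; exact e))).2]
    exact orderOf_eq_prime (by rw [sq]; exact hout _ (mul_mem hs hs') hne) hne1
  set S₀ := (S : Subgroup G) ⊓ K with hS₀
  have huniq : ∀ v ∈ S₀, orderOf v = 2 → v = z := by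
    intro v hv hvo
    obtain ⟨hvS, hvK⟩ := mem_inf.1 hv
    have hv1 : v ≠ 1 := CfsgLib.Small.ne_one_of_orderOf_two hvo
    have htt := hout t htS htK
    have htv : t * v * (t * v) = 1 :=
      hout _ (mul_mem htS hvS) fun e => htK (by simpa using mul_mem e (inv_mem hvK))
    have hvt : Commute v t := by
      have h1 := inv_eq_of_mul_eq_one_right htv
      rw [_root_.mul_inv_rev, inv_eq_of_mul_eq_one_right htt,
        CfsgLib.Small.inv_eq_self_of_orderOf_two hvo] at h1
      exact h1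
    have hvH : v ∉ H := fun e => htK (by
      rw [hK, ← P.eq_of_mem hvK hv1, P.eq_of_mem e hv1]; exact htH)
    have hvz : v * z ∈ H :=
      P.mul_mem_of_commute hh hh2 heven hxN hxH hx2 htH ht htH ht hvt hvH (hzc t htS).symm hzH
    have h1 : v * z = 1 := by
      by_contra hne
      exact htK (by
        rw [hK, P.eq_of_mem_mem (a := z) (b := g₀) (mul_mem hvK (P.mem z)) hvz hne]; exact htH)
    rw [← CfsgLib.Small.inv_eq_self_of_orderOf_two hzo]
    exact mul_eq_one_iff_eq_inv.1 h1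
  have hrel : S₀.relIndex (S : Subgroup G) = 2 :=
    relIndex_eq_two htS (fun e => htK (mem_inf.1 e).2) fun b hb hb' => mem_inf.2
      ⟨mul_mem hb htS, hprod _ hb _ htS (fun e => hb' (mem_inf.2 ⟨hb, e⟩)) htK⟩
  have hmod : S₀.index % 4 = 2 := by
    rw [← relIndex_mul_index (inf_le_left : S₀ ≤ S), hrel]
    have h := S.not_dvd_index
    omega
  have hno : ∀ H : Subgroup G, H.index ≠ 2 := fun H hH2 => by
    haveI := normal_of_index_eq_two hH2
    rcases (inferInstance : H.Normal).eq_bot_or_eq_top with rfl | rfl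
    · rw [index_bot] at hH2
      obtain ⟨a, b, hab⟩ := hna
      haveI : IsMulCommutative G := by
        haveI : IsCyclic G := isCyclic_of_prime_card hH2
        exact IsCyclic.isMulCommutative
      exact hab (mul_comm' a b)
    · rw [index_top] at hH2; omega
  obtain ⟨c, hc⟩ := CfsgLib.Small.thompson_transfer hno S₀ ht hmod
  have hcz : c⁻¹ * t * c = z :=
    huniq _ hc (by simpa using (CfsgLib.Small.orderOf_conj_eq c⁻¹ t).trans ht)
  refine ⟨t, htH, ht, c • S, fun s hs => ?_⟩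
  rw [Sylow.smul_def] at hs
  have hs' : c⁻¹ * s * c ∈ S := by
    have := hs
    change s ∈ MulAut.conj c • (S : Subgroup G) at this
    rwa [mem_pointwise_smul_iff_inv_smul_mem, MulAut.smul_def, ← map_inv, MulAut.conj_apply,
      inv_inv] at this
  have h := (hzc _ hs').eq
  rw [← hcz] at h
  show s * t = t * s
  calc s * t = c * (c⁻¹ * s * c * (c⁻¹ * t * c)) * c⁻¹ := by group
    _ = c * (c⁻¹ * t * c * (c⁻¹ * s * c)) * c⁻¹ := by rw [h]
    _ = t * s := by group

/-- **The dihedral case.** -/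
theorem psl_of_inverted [IsSimpleGroup G] (hna : ∃ a b : G, a * b ≠ b * a) :
    ∃ (F : Type) (_ : Field F) (_ : Fintype F), Odd (Fintype.card F) ∧
      Nonempty (G ≃* Matrix.ProjectiveSpecialLinearGroup (Fin 2) F) := by
  classical
  haveI := Fact.mk Nat.prime_two
  obtain ⟨t, htH, ht, S, hSt⟩ :=
    P.exists_sylow_le_centralizer hh hh2 heven hxN hxH hx2 hna
  set H := P.comp g₀ with hH
  have ht1 : t ≠ 1 := CfsgLib.Small.ne_one_of_orderOf_two ht
  have hcomm := P.comm hh hh2 heven hxN hxH hx2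
  obtain ⟨hxx, hxinv⟩ := P.inverted hh hh2 heven hxN hxH hx2 hxN hxH hx2
  set C := centralizer ({t} : Set G) with hC
  have hHC : H ≤ C := fun a ha => mem_centralizer_singleton_iff.2 (hcomm a ha t htH)
  have hxC : x ∈ C := by
    refine mem_centralizer_singleton_iff.2 ?_
    have h1 := hxinv t htH
    rw [CfsgLib.Small.inv_eq_self_of_orderOf_two ht] at h1
    calc x * t = x * t * x * x := by rw [mul_assoc (x * t), hxx, mul_one]
      _ = t * x := by rw [h1]
  have hCrel : H.relIndex C = 2 :=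
    relIndex_eq_two hxC hxH fun b hb hb' => P.mul_mem_of_commute hh hh2 heven hxN hxH hx2 htH ht
      htH ht (mem_centralizer_singleton_iff.1 hb) hb' (mem_centralizer_singleton_iff.1 hxC) hxH
  have hSC : (S : Subgroup G) ≤ C := fun s hs => mem_centralizer_singleton_iff.2 (hSt s hs)
  obtain ⟨x', hx'S, hx'H⟩ : ∃ s ∈ S, s ∉ H := by
    by_contra hcon
    push Not at hcon
    apply S.not_dvd_index
    have h2 : 2 * Nat.card (S : Subgroup G) ∣ Nat.card G := by
      refine dvd_trans ?_ (card_subgroup_dvd_card C)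
      rw [← relIndex_bot_left C, ← relIndex_mul_relIndex ⊥ H C bot_le hHC, relIndex_bot_left, hCrel,
        mul_comm 2]
      exact mul_dvd_mul_right (card_dvd_of_le hcon) 2
    rw [← card_mul_index (S : Subgroup G), mul_comm 2] at h2
    exact Nat.dvd_of_mul_dvd_mul_left Nat.card_pos h2
  have hx't : Commute x' t := hSt x' hx'S
  obtain ⟨hx'N, hx'2⟩ := P.centralizer_invol hh hh2 heven hxN hxH hx2 htH ht hx't
  obtain ⟨hx'x', hx'inv⟩ := P.inverted hh hh2 heven hxN hxH hx2 hx'N hx'H (hx'2 hx'H)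
  have hx'o : orderOf x' = 2 := CfsgLib.CITGroups.orderOf_two_of_mul_self hx'x'
    fun e => hx'H (by rw [e]; exact one_mem _)
  set S₀ := (S : Subgroup G) ⊓ H with hS₀
  have hrel : S₀.relIndex (S : Subgroup G) = 2 :=
    relIndex_eq_two hx'S (fun e => hx'H (mem_inf.1 e).2) fun b hb hb' => mem_inf.2
      ⟨mul_mem hb hx'S, P.mul_mem_of_commute hh hh2 heven hxN hxH hx2 htH ht htH ht
        (hSt _ hb) (fun e => hb' (mem_inf.2 ⟨hb, e⟩)) hx't hx'H⟩
  have hmod : S₀.index % 4 = 2 := by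
    rw [← relIndex_mul_index (inf_le_left : S₀ ≤ S), hrel]
    have h := S.not_dvd_index
    omega
  have hno : ∀ H : Subgroup G, H.index ≠ 2 := fun H hH2 => by
    haveI := normal_of_index_eq_two hH2
    rcases (inferInstance : H.Normal).eq_bot_or_eq_top with rfl | rfl
    · rw [index_bot] at hH2
      obtain ⟨a, b, hab⟩ := hna
      haveI : IsMulCommutative G := by
        haveI : IsCyclic G := isCyclic_of_prime_card hH2
        exact IsCyclic.isMulCommutative
      exact hab (mul_comm' a b)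
    · rw [index_top] at hH2; omega
  obtain ⟨c, hc⟩ := CfsgLib.Small.thompson_transfer hno S₀ hx'o hmod
  -- a single involution in `S₀`
  have huniq : ∀ v₁ ∈ S₀, ∀ v₂ ∈ S₀, orderOf v₁ = 2 → orderOf v₂ = 2 → v₁ = v₂ := by
    intro v₁ hv₁ v₂ hv₂ ho₁ ho₂
    set u := c⁻¹ * x' * c with hu
    have huH : u ∈ H := (mem_inf.1 hc).2
    have huo : orderOf u = 2 := by
      simpa [hu] using (CfsgLib.Small.orderOf_conj_eq c⁻¹ x').trans hx'o
    have hu1 : u ≠ 1 := CfsgLib.Small.ne_one_of_orderOf_two huo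
    have hmain : ∀ v ∈ S₀, orderOf v = 2 → c⁻¹ * v * c ∉ H ∧ Commute (c⁻¹ * v * c) u := by
      intro v hv hvo
      obtain ⟨-, hvH⟩ := mem_inf.1 hv
      have h1 := hx'inv v hvH
      rw [CfsgLib.Small.inv_eq_self_of_orderOf_two hvo] at h1
      have hvx : x' * v = v * x' := by
        calc x' * v = x' * v * x' * x' := by rw [mul_assoc (x' * v), hx'x', mul_one]
          _ = v * x' := by rw [h1]
      refine ⟨fun e => hx'H ?_, ?_⟩
      · -- `c H c⁻¹` contains `v` and `x'`
        have hv' := P.conj c g₀ _ e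
        have hx'' := P.conj c g₀ _ huH
        rw [show c * (c⁻¹ * v * c) * c⁻¹ = v by group] at hv'
        rw [hu, show c * (c⁻¹ * x' * c) * c⁻¹ = x' by group] at hx''
        rw [hH, P.eq_of_mem_mem hvH hv' (CfsgLib.Small.ne_one_of_orderOf_two hvo)]
        exact hx''
      · show c⁻¹ * v * c * u = u * (c⁻¹ * v * c)
        calc c⁻¹ * v * c * u = c⁻¹ * (v * x') * c := by rw [hu]; group
          _ = c⁻¹ * (x' * v) * c := by rw [hvx]
          _ = _ := by rw [hu]; group
    obtain ⟨h1, h1'⟩ := hmain v₁ hv₁ ho₁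
    obtain ⟨h2, h2'⟩ := hmain v₂ hv₂ ho₂
    have hm := P.mul_mem_of_commute hh hh2 heven hxN hxH hx2 huH huo huH huo h1' h1 h2' h2
    by_contra hne
    refine hx'H ?_
    have hv' := P.conj c g₀ _ hm
    rw [show c * (c⁻¹ * v₁ * c * (c⁻¹ * v₂ * c)) * c⁻¹ = v₁ * v₂ by group] at hv'
    have hx'' := P.conj c g₀ _ huH
    rw [hu, show c * (c⁻¹ * x' * c) * c⁻¹ = x' by group] at hx''
    rw [hH, P.eq_of_mem_mem (mul_mem (mem_inf.1 hv₁).2 (mem_inf.1 hv₂).2) hv'
      (fun e => hne (by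
        rw [← CfsgLib.Small.inv_eq_self_of_orderOf_two ho₂]; exact mul_eq_one_iff_eq_inv.1 e))]
    exact hx''
  haveI hcyc : IsCyclic S₀ := by
    refine CfsgLib.Small.isCyclic_of_unique_invol (S.2.to_le inf_le_left)
      (fun a b => Subtype.ext (hcomm a (mem_inf.1 a.2).2 b (mem_inf.1 b.2).2))
      fun a b ha hb => Subtype.ext ?_
    exact huniq a a.2 b b.2 (by rw [Subgroup.orderOf_coe, ha]) (by rw [Subgroup.orderOf_coe, hb])
  obtain ⟨⟨g, hgS₀⟩, hgen⟩ := IsCyclic.exists_generator (α := S₀)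
  obtain ⟨hgS, hgH⟩ := mem_inf.1 hgS₀
  have htS₀ : t ∈ S₀ := mem_inf.2 ⟨mem_sylow_of_commute S ht hSt, htH⟩
  have hgord : orderOf g = Nat.card S₀ := by
    rw [show g = ((⟨g, hgS₀⟩ : S₀) : G) from rfl, Subgroup.orderOf_coe]
    exact orderOf_eq_card_of_forall_mem_zpowers hgen
  have hn : 2 ≤ orderOf g := by
    rw [hgord, ← ht]
    exact Nat.le_of_dvd Nat.card_pos (Subgroup.orderOf_dvd_natCard S₀ htS₀)
  set y := x' * g with hy
  have hyo : orderOf y = 2 := by
    refine CfsgLib.CITGroups.orderOf_two_of_mul_self ?_ fun e => hx'H ?_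
    · calc y * y = x' * g * x' * g := by rw [hy]; group
        _ = 1 := by rw [hx'inv g hgH, inv_mul_cancel]
    · rw [mul_eq_one_iff_eq_inv] at e
      rw [e]; exact inv_mem hgH
  have hxy : x' * y = g := by rw [hy, ← mul_assoc, hx'x', one_mul]
  have hxney : x' ≠ y := fun e => by
    have : g = 1 := by rw [← hxy, ← e, hx'x']
    rw [this, orderOf_one] at hn
    omega
  have hclos : closure ({x', y} : Set G) = (S : Subgroup G) := by
    refine eq_of_le_of_card_ge ((closure_le _).2 ?_) ?_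
    · rintro _ (rfl | rfl)
      · exact hx'S
      · exact mul_mem hx'S hgS
    · rw [CfsgLib.Small.card_closure_pair_invol hx'o hyo hxney, hxy, hgord,
        ← relIndex_bot_left (S : Subgroup G),
        ← relIndex_mul_relIndex ⊥ S₀ (S : Subgroup G) bot_le inf_le_left, relIndex_bot_left, hrel,
        mul_comm]
  have hdih : Nonempty ((S : Subgroup G) ≃* DihedralGroup (orderOf g)) :=
    ⟨(MulEquiv.subgroupCongr hclos.symm).trans
      ((CfsgLib.Small.closurePairEquivDihedral hx'o hyo hxney).trans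
        (by rw [hxy]))⟩
  set O := (Cfsg.oddCore C).map C.subtype with hOdef
  have hOH : O ≤ H := by
    rintro _ ⟨o, ho, rfl⟩
    by_contra hoH
    have hodd : Odd (orderOf o) :=
      (CfsgLib.Inv54.odd_card_oddCore (G := C)).of_dvd_nat (Subgroup.orderOf_dvd_natCard _ ho)
    have hc2 := mem_centralizer_singleton_iff.1 o.2
    obtain ⟨hoN, ho2⟩ := P.centralizer_invol hh hh2 heven hxN hxH hx2 htH ht hc2
    have hoo := (P.inverted hh hh2 heven hxN hxH hx2 hoN hoH (ho2 hoH)).1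
    have : orderOf o ∣ 2 := orderOf_dvd_of_pow_eq_one (Subtype.ext (by
      rw [SubmonoidClass.coe_pow, sq]; exact hoo))
    rcases (Nat.dvd_prime Nat.prime_two).1 this with e | e
    · exact hoH (by rw [orderOf_eq_one_iff.1 e]; exact one_mem _)
    · rw [e] at hodd; exact absurd hodd (by decide)
  have hNC : normalizer (H : Set G) ≤ C := by
    intro w hw
    refine mem_centralizer_singleton_iff.2 ?_
    -- `t` is the only involution of `H`
    have hinvol : ∀ v ∈ H, orderOf v = 2 → v = t := by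
      intro v hv hvo
      have hvx : x' * v = v * x' := by
        have h1 := hx'inv v hv
        rw [CfsgLib.Small.inv_eq_self_of_orderOf_two hvo] at h1
        calc x' * v = x' * v * x' * x' := by rw [mul_assoc (x' * v), hx'x', mul_one]
          _ = v * x' := by rw [h1]
      have hvS : v ∈ (S : Subgroup G) := mem_sylow_of_commute S hvo fun s hs => by
        have hs' : s ∈ closure ({x', y} : Set G) := by rw [hclos]; exact hs
        clear hs
        induction hs' using closure_induction with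
        | mem a ha =>
          rcases ha with rfl | rfl
          · exact hvx
          · exact Commute.mul_left hvx (hcomm g hgH v hv)
        | one => exact Commute.one_left v
        | mul a b _ _ ha hb => exact ha.mul_left hb
        | inv a _ ha => exact ha.inv_left
      exact huniq v (mem_inf.2 ⟨hvS, hv⟩) t htS₀ hvo ht
    have := hinvol _ ((mem_normalizer_iff.1 hw t).1 htH) (by
      rw [CfsgLib.Small.orderOf_conj_eq, ht])
    exact mul_inv_eq_iff_eq_mul.1 this
  have hcentO : ∀ s ∈ S, s ∈ H → s ∈ centralizer (O : Set G) := fun s _ hsH =>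
    mem_centralizer_iff.2 fun o ho => hcomm o (hOH ho) s hsH
  have hinvO : ∀ s ∈ S, s ∉ H → ∀ o ∈ O, s * o * s⁻¹ = o⁻¹ := by
    intro s hs hsH o ho
    obtain ⟨hsN, hs2⟩ := P.centralizer_invol hh hh2 heven hxN hxH hx2 htH ht (hSt s hs)
    obtain ⟨hss, hsinv⟩ := P.inverted hh hh2 heven hxN hxH hx2 hsN hsH (hs2 hsH)
    rw [inv_eq_of_mul_eq_one_right hss]
    exact hsinv o (hOH ho)
  refine Cfsg.Agent.S0508.result S (orderOf g) hn hdih t ht (mem_inf.1 htS₀).1
    (fun s hs => (hSt s hs).eq) O rfl (fun hO => ?_) (fun s hs hsc o ho => ?_) fun Y hY hY1 => ?_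
  · have heq : (S : Subgroup G) ⊓ centralizer (O : Set G) = S₀ := by
      refine le_antisymm (fun s hs => ?_) fun s hs =>
        mem_inf.2 ⟨(mem_inf.1 hs).1, hcentO s (mem_inf.1 hs).1 (mem_inf.1 hs).2⟩
      obtain ⟨hsS, hsc⟩ := mem_inf.1 hs
      refine mem_inf.2 ⟨hsS, by_contra fun hsH => ?_⟩
      obtain ⟨o, ho, ho1⟩ := exists_mem_ne_one hO
      have h1 := hinvO s hsS hsH o ho
      rw [← mem_centralizer_iff.1 hsc o ho, mul_inv_cancel_right] at h1
      obtain ⟨⟨o', hoC⟩, ho', rfl⟩ := ho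
      have hodd : Odd (orderOf (⟨o', hoC⟩ : C)) :=
        (CfsgLib.Inv54.odd_card_oddCore (G := C)).of_dvd_nat (Subgroup.orderOf_dvd_natCard _ ho')
      have h2 : orderOf (⟨o', hoC⟩ : C) ∣ 2 := orderOf_dvd_of_pow_eq_one (Subtype.ext (by
        rw [SubmonoidClass.coe_pow, sq]; exact mul_eq_one_iff_eq_inv.2 h1))
      rcases (Nat.dvd_prime Nat.prime_two).1 h2 with e | e
      · exact ho1 (congrArg Subtype.val (orderOf_eq_one_iff.1 e))
      · rw [e] at hodd; exact absurd hodd (by decide)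
    rw [heq]
    exact ⟨hcyc, hrel⟩
  · exact hinvO s hs (fun e => hsc (hcentO s hs e)) o ho
  · obtain ⟨y, hy, hy1⟩ := exists_mem_ne_one hY1
    intro w hw
    refine hNC ?_
    exact P.mem_normalizer_of_conj_mem (hOH (hY hy)) hy1
      (hOH (hY ((mem_normalizer_iff.1 hw y).1 hy)))

end Inverted

/-! ### A component of even order with odd index in its normaliser -/

section StronglyEmbedded

variable [IsSimpleGroup G] {g₀ : G} (hg₀ : g₀ ≠ 1) (heven : 2 ∣ Nat.card (P.comp g₀))
  (hodd : ∀ y ∈ normalizer (P.comp g₀ : Set G), y * y ∈ P.comp g₀ → y ∈ P.comp g₀)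
include hg₀ heven hodd

theorem centralizer_invol_le {t y : G} (ht : t ∈ P.comp g₀) (hto : orderOf t = 2)
    (hy : Commute y t) : y ∈ P.comp g₀ := by
  have ht1 : t ≠ 1 := CfsgLib.Small.ne_one_of_orderOf_two hto
  by_contra hyH
  refine hyH (hodd y (P.mem_normalizer_of_commute ht ht1 hy) ?_)
  rw [← sq, P.pow_eq_one_of_commute ht ht1 hyH hy hto]
  exact one_mem _

theorem invol_mem {t : G} (htN : t ∈ normalizer (P.comp g₀ : Set G)) (hto : orderOf t = 2) :
    t ∈ P.comp g₀ :=
  hodd t htN (by rw [CfsgLib.Small.mul_self_of_orderOf_two hto]; exact one_mem _)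

theorem stronglyEmbedded : Cfsg.IsStronglyEmbedded (normalizer (P.comp g₀ : Set G)) := by
  refine (CfsgLib.Small.isStronglyEmbedded_iff (P.normalizer_comp_ne_top hg₀)
    (even_iff_two_dvd.2 (heven.trans (card_dvd_of_le le_normalizer)))).2 fun t ht ho g hg => ?_
  have ho' : orderOf (g⁻¹ * t * g) = 2 := by
    simpa using (CfsgLib.Small.orderOf_conj_eq g⁻¹ t).trans ho
  exact inv_mem_iff.1 (P.mem_normalizer_of_conj_mem (x := g⁻¹)
    (P.invol_mem hg₀ heven hodd ht ho) (CfsgLib.Small.ne_one_of_orderOf_two ho)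
    (by simpa using P.invol_mem hg₀ heven hodd hg ho'))

local notation "N₀" => normalizer (P.comp g₀ : Set G)

theorem uniqueFix : CfsgLib.SEmbed.UniqueFix G (G ⧸ N₀) :=
  CfsgLib.SEmbed.uniqueFix (P.stronglyEmbedded hg₀ heven hodd)

theorem exists_swap {β : G ⧸ N₀} (hβ : β ≠ ((1 : G) : G ⧸ N₀)) :
    ∃ v : G, orderOf v = 2 ∧ v • ((1 : G) : G ⧸ N₀) = β := by
  haveI := Fact.mk Nat.prime_two
  obtain ⟨s, hs, hsα⟩ := (P.uniqueFix hg₀ heven hodd).exists_inv ((1 : G) : G ⧸ N₀)
  obtain ⟨t, ht, htβ⟩ := (P.uniqueFix hg₀ heven hodd).exists_inv β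
  obtain ⟨v, ⟨hv, hvα⟩, -⟩ :=
    CfsgLib.SEmbed.exists_interchange (P.uniqueFix hg₀ heven hodd) hs ht hsα htβ hβ.symm
  exact ⟨v, hv, hvα⟩

theorem exists_conj {β : G ⧸ N₀} (hβ : β ≠ ((1 : G) : G ⧸ N₀)) {s t : G} (hs : s ∈ P.comp g₀)
    (hso : orderOf s = 2) (ht : t ∈ P.comp g₀) (hto : orderOf t = 2) :
    ∃ d ∈ N₀, d • β = β ∧ d * s * d⁻¹ = t := by
  obtain ⟨d, hd, hdt⟩ := CfsgLib.SEmbed.exists_conj_fix (P.uniqueFix hg₀ heven hodd) hβ.symm
    (⟨hso, (CfsgLib.SEmbed.smul_one_eq_iff _ s).2 (le_normalizer hs)⟩ :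
      s ∈ CfsgLib.SEmbed.invMap (G := G) ((1 : G) : G ⧸ N₀) ((1 : G) : G ⧸ N₀))
    ⟨hto, (CfsgLib.SEmbed.smul_one_eq_iff _ t).2 (le_normalizer ht)⟩
  obtain ⟨h1, h2⟩ := CfsgLib.SEmbed.mem_pairStab.1 hd
  exact ⟨d, (CfsgLib.SEmbed.smul_one_eq_iff _ d).1 h1, h2, hdt⟩

theorem invol_central {t : G} (ht : t ∈ P.comp g₀) (hto : orderOf t = 2) :
    ∀ w ∈ P.comp g₀, Commute w t := by
  obtain ⟨z, hz, hz1⟩ :=
    exists_mem_omegaCenter (P.isNilpotent_of_simple hg₀) Nat.prime_two heven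
  haveI := Fact.mk Nat.prime_two
  have hzo : orderOf z = 2 := orderOf_eq_prime hz.2.1 hz1
  haveI := CfsgLib.SEmbed.nontrivial_cosets (P.stronglyEmbedded hg₀ heven hodd)
  obtain ⟨β, hβ⟩ := exists_ne ((1 : G) : G ⧸ N₀)
  obtain ⟨d, hd, -, hdt⟩ := P.exists_conj hg₀ heven hodd hβ hz.1 hzo ht hto
  intro w hw
  have hw' : d⁻¹ * w * d ∈ P.comp g₀ := by
    simpa using (mem_normalizer_iff.1 (inv_mem hd) w).1 hw
  rw [← hdt]
  show w * (d * z * d⁻¹) = d * z * d⁻¹ * w
  calc w * (d * z * d⁻¹) = d * ((d⁻¹ * w * d) * z) * d⁻¹ := by group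
    _ = d * (z * (d⁻¹ * w * d)) * d⁻¹ := by rw [(hz.2.2 _ hw').eq]
    _ = _ := by group

theorem exists_two_invol : ∃ s t : G, s ∈ P.comp g₀ ∧ t ∈ P.comp g₀ ∧ orderOf s = 2 ∧
    orderOf t = 2 ∧ s ≠ t := by
  by_contra hcon
  push Not at hcon
  haveI := Fact.mk Nat.prime_two
  obtain ⟨t, ht'⟩ := exists_prime_orderOf_dvd_card' (G := P.comp g₀) 2 heven
  have hto : orderOf (t : G) = 2 := by rw [Subgroup.orderOf_coe, ht']
  refine P.not_normalizer_le hg₀ fun w hw => P.centralizer_invol_le hg₀ heven hodd t.2 hto ?_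
  exact mul_inv_eq_iff_eq_mul.1 (hcon (w * t * w⁻¹) t
    ((mem_normalizer_iff.1 hw _).1 t.2) t.2 (by rw [CfsgLib.Small.orderOf_conj_eq, hto]) hto)

/-- Elements of the component fix only the base point. -/
theorem eq_base_of_fixed {h : G} (hh : h ∈ P.comp g₀) (hh1 : h ≠ 1) {β : G ⧸ N₀}
    (hfix : h • β = β) : β = ((1 : G) : G ⧸ N₀) := by
  haveI := Fact.mk Nat.prime_two
  by_contra hβ
  set H := P.comp g₀ with hH
  obtain ⟨v, hv, hvα⟩ := P.exists_swap hg₀ heven hodd hβ
  have hvv := CfsgLib.Small.mul_self_of_orderOf_two hv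
  have hvi := CfsgLib.Small.inv_eq_self_of_orderOf_two hv
  have hvN : v ∉ normalizer (H : Set G) := fun e =>
    hβ (hvα.symm.trans ((CfsgLib.SEmbed.smul_one_eq_iff _ v).2 e))
  have hvβ := CfsgLib.SEmbed.smul_back hv hvα
  -- the stabiliser of `β` normalises `H^v`
  have hhN' : v * h * v ∈ normalizer (H : Set G) := by
    refine (CfsgLib.SEmbed.smul_one_eq_iff _ _).1 ?_
    rw [mul_smul, mul_smul, hvα, hfix, hvβ]
  set k := v * h * v with hk
  have hne : k ∉ H := fun e => hvN (P.mem_normalizer_of_conj_mem hh hh1 (by rwa [hvi]))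
  have hkk : v * k * v = h := by
    rw [hk]; simp only [mul_assoc]; rw [hvv, mul_one, ← mul_assoc, hvv, one_mul]
  -- `h` and `k` commute
  have hc : Commute h k := by
    by_contra hnc
    set w := h * k * h⁻¹ * k⁻¹ with hw
    have hwH : w ∈ H := by
      rw [hw, show h * k * h⁻¹ * k⁻¹ = h * (k * h⁻¹ * k⁻¹) by group]
      exact mul_mem hh ((mem_normalizer_iff.1 hhN' _).1 (inv_mem hh))
    have hw2 : v * w * v ∈ H := by
      have e : v * w * v = k * h * k⁻¹ * h⁻¹ := by
        calc v * w * v = (v * h * v) * (v * k * v) * (v * h * v)⁻¹ * (v * k * v)⁻¹ := by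
              rw [hw]
              simp only [_root_.mul_inv_rev, hvi, mul_assoc]
              simp only [← mul_assoc v v, hvv, one_mul]
          _ = k * h * k⁻¹ * h⁻¹ := by rw [← hk, hkk]
      rw [e]
      exact mul_mem ((mem_normalizer_iff.1 hhN' _).1 hh) (inv_mem hh)
    have hw1 : w ≠ 1 := fun e =>
      hnc (mul_inv_eq_iff_eq_mul.1 (mul_inv_eq_one.1 (hw.symm.trans e)))
    exact hvN (P.mem_normalizer_of_conj_mem hwH hw1 (by rwa [hvi]))
  have hkey : h * k ≠ 1 := fun e => hne (by rw [eq_inv_of_mul_eq_one_right e]; exact inv_mem hh)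
  have hvhk : Commute v (h * k) := by
    show v * (h * k) = h * k * v
    calc v * (h * k) = (v * h * v) * (v * k * v) * v := by
          simp only [mul_assoc]; rw [hvv, mul_one, ← mul_assoc v v, hvv, one_mul]
      _ = k * h * v := by rw [← hk, hkk]
      _ = h * k * v := by rw [hc.eq]
  obtain ⟨γ, hγ⟩ := (P.uniqueFix hg₀ heven hodd).exists_fix v hv
  obtain ⟨g, rfl⟩ := QuotientGroup.mk_surjective γ
  have hvg : g⁻¹ * v * g ∈ H := P.invol_mem hg₀ heven hodd
    ((CfsgLib.SEmbed.smul_mk_eq_iff _ v g).1 hγ)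
    (by simpa using (CfsgLib.Small.orderOf_conj_eq g⁻¹ v).trans hv)
  set K := P.comp (g * g₀ * g⁻¹) with hK
  have hvK : v ∈ K := by
    have := P.conj g g₀ _ hvg
    rwa [show g * (g⁻¹ * v * g) * g⁻¹ = v by group] at this
  have hhkK : h * k ∈ K := by
    have h1 : g⁻¹ * (h * k) * g ∈ H := P.centralizer_invol_le hg₀ heven hodd hvg
      (by simpa using (CfsgLib.Small.orderOf_conj_eq g⁻¹ v).trans hv) (by
        show g⁻¹ * (h * k) * g * (g⁻¹ * v * g) = g⁻¹ * v * g * (g⁻¹ * (h * k) * g)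
        calc g⁻¹ * (h * k) * g * (g⁻¹ * v * g) = g⁻¹ * (h * k * v) * g := by group
          _ = g⁻¹ * (v * (h * k)) * g := by rw [hvhk.eq]
          _ = _ := by group)
    have := P.conj g g₀ _ h1
    rwa [show g * (g⁻¹ * (h * k) * g) * g⁻¹ = h * k by group] at this
  have hhN : h ∈ normalizer (K : Set G) :=
    P.mem_normalizer_of_commute hhkK hkey ((Commute.refl h).mul_right hc)
  have hh2 : h * h ∈ K := by
    have h1 : h * v * h⁻¹ * v⁻¹ ∈ K :=
      mul_mem ((mem_normalizer_iff.1 hhN v).1 hvK) (inv_mem hvK)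
    have h2 : h * v * h⁻¹ * v⁻¹ = h * k⁻¹ := by
      rw [hk, _root_.mul_inv_rev, _root_.mul_inv_rev, hvi]; group
    have := mul_mem (h2 ▸ h1) hhkK
    rwa [show h * k⁻¹ * (h * k) = h * h by rw [hc.eq]; group] at this
  have hhh : h * h ≠ 1 := by
    intro e
    exact hβ ((P.uniqueFix hg₀ heven hodd).unique h
      (CfsgLib.CITGroups.orderOf_two_of_mul_self e hh1) _ _ hfix
      ((CfsgLib.SEmbed.smul_one_eq_iff _ h).2 (le_normalizer hh)))
  refine hvN ?_
  have hKH : K = H := P.eq_of_mem_mem hh2 (mul_mem hh hh) hhh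
  exact le_normalizer (hKH ▸ hvK)

/-- The Frobenius property of the normaliser. -/
theorem frob {m h : G} (hm : m ∈ N₀) (hh : h ∈ P.comp g₀) (hh1 : h ≠ 1) (hc : Commute m h) :
    m ∈ P.comp g₀ := by
  classical
  by_contra hmH
  set H := P.comp g₀ with hH
  set N := normalizer (H : Set G) with hN
  haveI := Fact.mk Nat.prime_two
  have hNle : ∀ g, ¬ N ≤ P.comp g := by
    intro g hle
    obtain ⟨t, ht'⟩ := exists_prime_orderOf_dvd_card' (G := H) 2 heven
    have hto : orderOf (t : G) = 2 := by rw [Subgroup.orderOf_coe, ht']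
    have := P.eq_of_mem_mem (hle (le_normalizer t.2)) t.2 (CfsgLib.Small.ne_one_of_orderOf_two hto)
    exact hmH (hH ▸ this ▸ hle hm)
  set Q := P.restrict N hNle with hQ
  have hg₀N : g₀ ∈ N := le_normalizer (P.mem g₀)
  have hQc : Q.comp ⟨g₀, hg₀N⟩ = H.subgroupOf N := rfl
  haveI : (Q.comp ⟨g₀, hg₀N⟩).Normal := by rw [hQc]; exact normal_in_normalizer
  have hQnil : Group.IsNilpotent (Q.comp ⟨g₀, hg₀N⟩) := by
    haveI := P.isNilpotent_of_simple hg₀
    exact Group.nilpotent_of_mulEquiv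
      ((subgroupOfEquivOfLe (le_normalizer : H ≤ N)).symm.trans (MulEquiv.subgroupCongr hQc.symm))
  have hQcard : Nat.card (Q.comp ⟨g₀, hg₀N⟩) = Nat.card H := by
    rw [hQc]; exact Nat.card_congr (subgroupOfEquivOfLe le_normalizer).toEquiv
  have hmQ : (⟨m, hm⟩ : N) ∉ Q.comp ⟨g₀, hg₀N⟩ := fun e => hmH (mem_subgroupOf.1 e)
  obtain ⟨hp, hho, -⟩ := Q.pow_eq_one_of_mem_centralizer hmQ
    (h := ⟨h, le_normalizer hh⟩) (mem_subgroupOf.2 hh) (fun e => hh1 (congrArg Subtype.val e))
    (Subtype.ext hc.eq)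
  obtain ⟨p, hpdef⟩ : ∃ p, orderOf (⟨m, hm⟩ : N) = p := ⟨_, rfl⟩
  rw [hpdef] at hp hho
  haveI := Fact.mk hp
  have hho' : orderOf h = p := by rw [← hho, ← Subgroup.orderOf_coe]
  have hp2 : p ≠ 2 := fun e => hmH (hodd m hm (by
    have := pow_orderOf_eq_one (⟨m, hm⟩ : N)
    rw [hpdef, e, sq] at this
    rw [show m * m = 1 from congrArg Subtype.val this]; exact one_mem _))
  have hpH : p ∣ Nat.card (Q.comp ⟨g₀, hg₀N⟩) := by
    rw [hQcard, ← hho']; exact Subgroup.orderOf_dvd_natCard H hh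
  have hpI : p ∣ (Q.comp ⟨g₀, hg₀N⟩).index := by
    have := orderOf_dvd_natCard (QuotientGroup.mk (⟨m, hm⟩ : N) : N ⧸ Q.comp ⟨g₀, hg₀N⟩)
    rw [Q.orderOf_mk hmQ, hpdef] at this
    rwa [index_eq_card]
  have hidx : (Q.comp ⟨g₀, hg₀N⟩).index = p := Q.index_eq_prime hQnil hpH hpI fun hpp => by
    obtain ⟨k, hk⟩ := IsPGroup.iff_card.1 hpp
    have h2 : 2 ∣ p ^ k := hk ▸ hQcard.symm ▸ heven
    exact hp2 ((Nat.prime_dvd_prime_iff_eq Nat.prime_two hp).1 (Nat.prime_two.dvd_of_dvd_pow h2)).symm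
  -- an element of `N ∖ H` fixing two points
  haveI := CfsgLib.SEmbed.nontrivial_cosets (P.stronglyEmbedded hg₀ heven hodd)
  obtain ⟨β, hβ⟩ := exists_ne ((1 : G) : G ⧸ normalizer (P.comp g₀ : Set G))
  obtain ⟨s, t, hs, ht, hso, hto, hst⟩ := P.exists_two_invol hg₀ heven hodd
  obtain ⟨d, hd, hdβ, hdt⟩ := P.exists_conj hg₀ heven hodd hβ hs hso ht hto
  have hdH : d ∉ H := fun e => hst (by
    rw [← hdt, (P.invol_central hg₀ heven hodd hs hso d e).eq, mul_inv_cancel_right])
  have hdQ : (⟨d, hd⟩ : N) ∉ Q.comp ⟨g₀, hg₀N⟩ := fun e => hdH (mem_subgroupOf.1 e)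
  have hdp : (⟨d, hd⟩ : N) ^ p = 1 := Q.pow_eq_one_of_mem (by
    have := pow_card_eq_one' (x := (QuotientGroup.mk (⟨d, hd⟩ : N) : N ⧸ Q.comp ⟨g₀, hg₀N⟩))
    rwa [← index_eq_card, hidx, ← QuotientGroup.mk_pow, QuotientGroup.eq_one_iff] at this) hdQ
  obtain ⟨hdo, h', hh', hh'1, hdc⟩ := Q.exists_fixed hp hpH hdQ hdp
  have hexp := (Q.pow_eq_one_of_mem_centralizer hdQ hh' hh'1 hdc).2.2
  set E : Subgroup G := N ⊓ centralizer ({d} : Set G) with hE
  have hEp : IsPGroup p E := fun y => ⟨1, Subtype.ext (by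
    obtain ⟨hyN, hyd⟩ := mem_inf.1 y.2
    have := hexp ⟨y, hyN⟩ (Subtype.ext (mem_centralizer_singleton_iff.1 hyd))
    rw [hdo] at this
    simpa using congrArg Subtype.val this)⟩
  have hh'E : (h' : G) ∈ E := mem_inf.2 ⟨h'.2, mem_centralizer_singleton_iff.2
    (congrArg Subtype.val hdc.eq).symm⟩
  have hh'H : (h' : G) ∈ H := mem_subgroupOf.1 hh'
  have hh'1' : (h' : G) ≠ 1 := fun e => hh'1 (Subtype.ext e)
  have hnormE : ∀ w ∈ normalizer (E : Set G), w ∈ N := by
    intro w hw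
    have hfix : ((h' : G)) • ((w : G) : G ⧸ N) = ((w : G) : G ⧸ N) := by
      rw [CfsgLib.SEmbed.smul_mk_eq_iff]
      have := (mem_normalizer_iff.1 (inv_mem hw) _).1 hh'E
      rw [inv_inv] at this
      exact (mem_inf.1 this).1
    have hb := P.eq_base_of_fixed hg₀ heven hodd hh'H hh'1' hfix
    have := QuotientGroup.eq.1 hb
    simpa using this
  set Cd := centralizer ({d} : Set G) with hCd
  have hECd : E ≤ Cd := inf_le_right
  set EC := E.subgroupOf Cd with hEC
  have hECp : IsPGroup p EC := IsPGroup.of_equiv hEp (subgroupOfEquivOfLe hECd).symm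
  obtain ⟨ES, hES⟩ := hECp.exists_le_sylow
  have hESeq : (ES : Subgroup Cd) = EC := by
    by_contra hne
    have hlt : EC < ES := lt_of_le_of_ne hES (Ne.symm hne)
    obtain ⟨w, hw, hwE⟩ := SetLike.exists_of_lt (CfsgLib.Small.lt_inf_normalizer_of_pGroup ES.2 hlt)
    refine hwE (mem_subgroupOf.2 (mem_inf.2 ⟨hnormE w ?_, w.2⟩))
    refine mem_normalizer_iff.2 fun a => ?_
    have hwn := mem_normalizer_iff.1 (mem_inf.1 hw).2
    constructor
    · intro ha
      exact mem_subgroupOf.1 ((hwn ⟨a, hECd ha⟩).1 (mem_subgroupOf.2 ha))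
    · intro ha
      have haC : a ∈ Cd := by
        have := mul_mem (mul_mem (inv_mem w.2) (hECd ha)) w.2
        rwa [show (w : G)⁻¹ * ((w : G) * a * (w : G)⁻¹) * w = a by group] at this
      exact mem_subgroupOf.1 ((hwn ⟨a, haC⟩).2 (mem_subgroupOf.2 ha))
  -- the involution interchanging the two points normalises `⟨d⟩`
  obtain ⟨v, hv, hvα⟩ := P.exists_swap hg₀ heven hodd hβ
  have hvv := CfsgLib.Small.mul_self_of_orderOf_two hv
  have hvi := CfsgLib.Small.inv_eq_self_of_orderOf_two hv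
  have hvβ := CfsgLib.SEmbed.smul_back hv hvα
  have hdα : d • ((1 : G) : G ⧸ N) = ((1 : G) : G ⧸ N) := (CfsgLib.SEmbed.smul_one_eq_iff _ d).2 hd
  set D := CfsgLib.SEmbed.pairStab G ((1 : G) : G ⧸ N) β with hD
  have hdD : d ∈ D := CfsgLib.SEmbed.mem_pairStab.2 ⟨hdα, hdβ⟩
  have hDN : D ≤ N := fun y hy =>
    (CfsgLib.SEmbed.smul_one_eq_iff _ y).1 (CfsgLib.SEmbed.mem_pairStab.1 hy).1
  have hDH : ∀ y ∈ D, y ∈ H → y = 1 := fun y hy hyH => by_contra fun hy1 =>
    hβ (P.eq_base_of_fixed hg₀ heven hodd hyH hy1 (CfsgLib.SEmbed.mem_pairStab.1 hy).2)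
  have hDcard : ∀ y ∈ D, y ∈ zpowers d := by
    intro y hy
    have hcardQ : Nat.card (N ⧸ Q.comp ⟨g₀, hg₀N⟩) = p := by rw [← index_eq_card, hidx]
    have hmem := mem_zpowers_of_prime_card hcardQ
      (g := (QuotientGroup.mk (⟨d, hd⟩ : N) : N ⧸ Q.comp ⟨g₀, hg₀N⟩))
      (g' := QuotientGroup.mk (⟨y, hDN hy⟩ : N))
      (fun e => hdQ ((QuotientGroup.eq_one_iff _).1 e))
    obtain ⟨i, hi⟩ := hmem
    have hi' : (⟨d, hd⟩ : N)⁻¹ ^ i * ⟨y, hDN hy⟩ ∈ Q.comp ⟨g₀, hg₀N⟩ := by
      rw [inv_zpow, ← QuotientGroup.eq, QuotientGroup.mk_zpow]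
      exact hi
    refine ⟨i, ?_⟩
    have := hDH _ (mul_mem (zpow_mem (inv_mem hdD) i) hy) (mem_subgroupOf.1 hi')
    rw [inv_zpow] at this
    exact inv_mul_eq_one.1 this
  have hvd : v * d * v ∈ zpowers d := hDcard _ (CfsgLib.SEmbed.mem_pairStab.2
    ⟨by rw [mul_smul, mul_smul, hvα, hdβ, hvβ], by rw [mul_smul, mul_smul, hvβ, hdα, hvα]⟩)
  have hvnorm : ∀ c : G, Commute c d → Commute (v * c * v) d := by
    intro c hcd
    obtain ⟨i, hi⟩ := hvd
    have h1 : Commute c (d ^ i) := hcd.zpow_right i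
    rw [show d ^ i = v * d * v from hi] at h1
    show v * c * v * d = d * (v * c * v)
    calc v * c * v * d = v * (c * (v * d * v)) * v := by
          simp only [mul_assoc]; rw [hvv, mul_one]
      _ = v * (v * d * v * c) * v := by rw [h1.eq]
      _ = d * (v * c * v) := by
          simp only [mul_assoc]; rw [← mul_assoc v v, hvv, one_mul]
  -- `v` fixes the Sylow subgroup `E` of `C(d)` up to conjugation
  let φ : MulAut Cd := {
    toFun := fun c => ⟨v * c * v, mem_centralizer_singleton_iff.2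
      (hvnorm c (mem_centralizer_singleton_iff.1 c.2)).eq⟩
    invFun := fun c => ⟨v * c * v, mem_centralizer_singleton_iff.2
      (hvnorm c (mem_centralizer_singleton_iff.1 c.2)).eq⟩
    left_inv := fun c => Subtype.ext (by
      show v * (v * c * v) * v = c
      simp only [mul_assoc]; rw [hvv, mul_one, ← mul_assoc, hvv, one_mul])
    right_inv := fun c => Subtype.ext (by
      show v * (v * c * v) * v = c
      simp only [mul_assoc]; rw [hvv, mul_one, ← mul_assoc, hvv, one_mul])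
    map_mul' := fun a b => Subtype.ext (by
      show v * (a * b) * v = v * a * v * (v * b * v)
      simp only [mul_assoc]; rw [← mul_assoc v v, hvv, one_mul]) }
  obtain ⟨c, hc'⟩ := MulAction.exists_smul_eq Cd ES
    (ES.comapOfInjective φ.toMonoidHom φ.injective (by
      rw [MonoidHom.range_eq_top.2 φ.surjective]; exact le_top))
  have hcN : ((v : G) * c) ∈ normalizer (E : Set G) := by
    have key : ∀ e : Cd, e ∈ EC ↔ φ (c * e * c⁻¹) ∈ EC := by
      intro e
      have h1 : c * e * c⁻¹ ∈ ((c • ES : Sylow p Cd) : Subgroup Cd) ↔ e ∈ EC := by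
        rw [Sylow.coe_subgroup_smul, mem_pointwise_smul_iff_inv_smul_mem, MulAut.smul_def,
          ← map_inv, MulAut.conj_apply, hESeq]
        rw [show c⁻¹ * (c * e * c⁻¹) * c⁻¹⁻¹ = e by group]
      rw [← h1, hc', ← hESeq]
      exact Iff.rfl
    refine mem_normalizer_iff.2 fun a => ⟨fun ha => ?_, fun ha => ?_⟩
    · have := mem_subgroupOf.1 ((key ⟨a, hECd ha⟩).1 (mem_subgroupOf.2 ha))
      rw [show v * (c : G) * a * (v * (c : G))⁻¹ = v * (c * a * (c : G)⁻¹) * v by
        rw [_root_.mul_inv_rev, hvi]; group]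
      exact this
    · have e1 : v * (c : G) * a * (v * (c : G))⁻¹ = v * (c * a * (c : G)⁻¹) * v := by
        rw [_root_.mul_inv_rev, hvi]; group
      rw [e1] at ha
      have h2 := hvnorm _ (mem_centralizer_singleton_iff.1 (hECd ha))
      have e2 : v * (v * (c * a * (c : G)⁻¹) * v) * v = c * a * (c : G)⁻¹ := by
        simp only [mul_assoc]; rw [hvv, mul_one, ← mul_assoc v v, hvv, one_mul]
      rw [e2] at h2
      have h3 : a ∈ Cd := by
        have := mul_mem (mul_mem (inv_mem c.2)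
          (mem_centralizer_singleton_iff.2 h2.eq : (c : G) * a * (c : G)⁻¹ ∈ Cd)) c.2
        rwa [show (c : G)⁻¹ * ((c : G) * a * (c : G)⁻¹) * c = a by group] at this
      exact mem_subgroupOf.1 ((key ⟨a, h3⟩).2 (mem_subgroupOf.2 ha))
  have hvN := hnormE _ hcN
  have hvc : Commute (v * (c : G)) d := by
    have hn : v * (c : G) * d * (v * (c : G))⁻¹ ∈ zpowers d := by
      rw [_root_.mul_inv_rev, hvi, show v * (c : G) * d * ((c : G)⁻¹ * v) =
        v * ((c : G) * d * (c : G)⁻¹) * v by group,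
        (mem_centralizer_singleton_iff.1 c.2), mul_inv_cancel_right]
      exact hvd
    obtain ⟨j, hj⟩ := hn
    refine mul_inv_eq_iff_eq_mul.1 ?_
    have hmem : v * (c : G) * d * (v * (c : G))⁻¹ * d⁻¹ ∈ H := by
      have hcomm : ∀ a b : N ⧸ Q.comp ⟨g₀, hg₀N⟩, a * b = b * a := by
        haveI : IsCyclic (N ⧸ Q.comp ⟨g₀, hg₀N⟩) :=
          isCyclic_of_prime_card (p := p) (by rw [← index_eq_card, hidx])
        haveI : IsMulCommutative (N ⧸ Q.comp ⟨g₀, hg₀N⟩) := IsCyclic.isMulCommutative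
        exact mul_comm'
      set w : N := ⟨v * (c : G), hvN⟩
      have : w * ⟨d, hd⟩ * w⁻¹ * (⟨d, hd⟩ : N)⁻¹ ∈ Q.comp ⟨g₀, hg₀N⟩ := by
        rw [← QuotientGroup.eq_one_iff, QuotientGroup.mk_mul, QuotientGroup.mk_mul,
          QuotientGroup.mk_mul, QuotientGroup.mk_inv, QuotientGroup.mk_inv,
          hcomm (QuotientGroup.mk w) _, mul_inv_cancel_right, mul_inv_cancel]
      exact mem_subgroupOf.1 this
    have hD' : v * (c : G) * d * (v * (c : G))⁻¹ * d⁻¹ ∈ D :=
      mul_mem (show v * (c : G) * d * (v * (c : G))⁻¹ ∈ D from hj ▸ zpow_mem hdD j) (inv_mem hdD)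
    exact mul_inv_eq_one.1 (hDH _ hD' hmem)
  have hw : ∃ w : G, orderOf w = 2 ∧ Commute w d := ⟨v, hv, by
    have : v = v * (c : G) * (c : G)⁻¹ := by group
    rw [this]
    exact hvc.mul_left (Commute.inv_left (mem_centralizer_singleton_iff.1 c.2))⟩
  obtain ⟨w, hwo, hwd⟩ := hw
  obtain ⟨γ, hγ⟩ := (P.uniqueFix hg₀ heven hodd).exists_fix w hwo
  obtain ⟨g, rfl⟩ := QuotientGroup.mk_surjective γ
  have hwg : g⁻¹ * w * g ∈ H := P.invol_mem hg₀ heven hodd
    ((CfsgLib.SEmbed.smul_mk_eq_iff _ w g).1 hγ)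
    (by simpa using (CfsgLib.Small.orderOf_conj_eq g⁻¹ w).trans hwo)
  have hdg : g⁻¹ * d * g ∈ H := P.centralizer_invol_le hg₀ heven hodd hwg
    (by simpa using (CfsgLib.Small.orderOf_conj_eq g⁻¹ w).trans hwo) (by
      show g⁻¹ * d * g * (g⁻¹ * w * g) = g⁻¹ * w * g * (g⁻¹ * d * g)
      calc g⁻¹ * d * g * (g⁻¹ * w * g) = g⁻¹ * (d * w) * g := by group
        _ = g⁻¹ * (w * d) * g := by rw [hwd.eq]
        _ = _ := by group)
  have hdK : d ∈ P.comp (g * g₀ * g⁻¹) := by
    have := P.conj g g₀ _ hdg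
    rwa [show g * (g⁻¹ * d * g) * g⁻¹ = d by group] at this
  have hd1 : d ≠ 1 := fun e => hdH (by rw [e]; exact one_mem _)
  have hh'K : (h' : G) ∈ normalizer (P.comp (g * g₀ * g⁻¹) : Set G) :=
    P.mem_normalizer_of_commute hdK hd1 (congrArg Subtype.val hdc.eq).symm
  have hfixh : (h' : G) • ((g : G) : G ⧸ N) = ((g : G) : G ⧸ N) := by
    rw [CfsgLib.SEmbed.smul_mk_eq_iff]
    refine mem_normalizer_iff.2 fun a => ?_
    have hc1 : ∀ b, b ∈ H ↔ g * b * g⁻¹ ∈ P.comp (g * g₀ * g⁻¹) := fun b =>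
      ⟨P.conj g g₀ b, fun hb => by
        have := P.conj g⁻¹ _ _ hb
        simpa [mul_assoc, hH] using this⟩
    rw [hc1, hc1, mem_normalizer_iff.1 hh'K (g * a * g⁻¹)]
    simp [mul_assoc]
  have hbase := P.eq_base_of_fixed hg₀ heven hodd hh'H hh'1' hfixh
  have hgN : g ∈ N := by simpa using QuotientGroup.eq.1 hbase
  refine hdH ?_
  have := (mem_normalizer_iff.1 hgN _).1 hdg
  rwa [show g * (g⁻¹ * d * g) * g⁻¹ = d by group] at this

theorem seKernel : CfsgLib.CITGroups.SEKernel (P.comp g₀) where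
  proper := P.normalizer_comp_ne_top hg₀
  exists_invol := by
    haveI := Fact.mk Nat.prime_two
    obtain ⟨t, ht⟩ := exists_prime_orderOf_dvd_card' (G := P.comp g₀) 2 heven
    exact ⟨t, t.2, by rw [Subgroup.orderOf_coe, ht]⟩
  invol_mem _ ht ho := P.invol_mem hg₀ heven hodd ht ho
  invol_central _ ht ho w hw := P.invol_central hg₀ heven hodd ht ho w hw
  ti g _ hh hh1 hg := P.mem_normalizer_of_conj_mem hh hh1 hg
  frob _ hm _ hh hh1 hc := P.frob hg₀ heven hodd hm hh hh1 hc

end StronglyEmbedded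

include P in
/-- A non-abelian simple group with a partition is `PSL₂(q)` or a Suzuki group. -/
theorem simple_classification [IsSimpleGroup G] (hna : ∃ a b : G, a * b ≠ b * a) :
    (∃ (F : Type) (_ : Field F) (_ : Fintype F),
        Nonempty (G ≃* Matrix.ProjectiveSpecialLinearGroup (Fin 2) F)) ∨
      Cfsg.Lie.IsoSuzuki G := by
  classical
  haveI := Fact.mk Nat.prime_two
  by_cases hA : ∃ g₀ x h : G, h ∈ P.comp g₀ ∧ h * h ≠ 1 ∧ 2 ∣ Nat.card (P.comp g₀) ∧
      x ∈ normalizer (P.comp g₀ : Set G) ∧ x ∉ P.comp g₀ ∧ x * x ∈ P.comp g₀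
  · obtain ⟨g₀, x, h, hh, hh2, he, hxN, hxH, hx2⟩ := hA
    obtain ⟨F, _, _, -, hF⟩ := P.psl_of_inverted hh hh2 he hxN hxH hx2 hna
    exact Or.inl ⟨F, inferInstance, inferInstance, hF⟩
  push Not at hA
  suffices hK : ∃ H : Subgroup G, CfsgLib.CITGroups.SEKernel H by
    obtain ⟨H, K⟩ := hK
    have h2 : IsPGroup 2 H := by
      obtain ⟨p, k, hp, hk, hpk⟩ := K.isPrimePow_card
      obtain ⟨z, hz, hzo⟩ := K.exists_invol
      have h2 : 2 ∣ p ^ k := by rw [hpk, ← hzo]; exact Subgroup.orderOf_dvd_natCard H hz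
      have hp2 : 2 = p :=
        (Nat.prime_dvd_prime_iff_eq Nat.prime_two hp.nat_prime).1 (Nat.prime_two.dvd_of_dvd_pow h2)
      exact IsPGroup.of_card (n := k) (by rw [← hpk, hp2])
    by_cases hab : ∀ a ∈ H, ∀ b ∈ H, a * b = b * a
    · left
      have hC : ∀ t : G, orderOf t = 2 →
          IsMulCommutative ↥(centralizer ({t} : Set G)) := by
        intro t ht
        obtain ⟨γ, hγ⟩ := K.uf.exists_fix t ht
        obtain ⟨g, rfl⟩ := QuotientGroup.mk_surjective γ
        have htg := K.invol_conj_mem ht hγ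
        have hto : orderOf (g⁻¹ * t * g) = 2 := by
          simpa using (CfsgLib.Small.orderOf_conj_eq g⁻¹ t).trans ht
        have key : ∀ y : centralizer ({t} : Set G), g⁻¹ * (y : G) * g ∈ H := by
          intro y
          have hy := mem_centralizer_singleton_iff.1 y.2
          refine K.frob _ ?_ _ htg (CfsgLib.Small.ne_one_of_orderOf_two hto) ?_
          · exact (CfsgLib.SEmbed.smul_mk_eq_iff _ (y : G) g).1
              (CfsgLib.SEmbed.commute_fix K.uf ht hy hγ)
          · show g⁻¹ * y * g * (g⁻¹ * t * g) = g⁻¹ * t * g * (g⁻¹ * y * g)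
            calc g⁻¹ * y * g * (g⁻¹ * t * g) = g⁻¹ * ((y : G) * t) * g := by group
              _ = g⁻¹ * (t * y) * g := by rw [show (y : G) * t = t * y from hy]
              _ = _ := by group
        refine ⟨⟨fun a b => Subtype.ext ?_⟩⟩
        show (a : G) * b = b * a
        have := hab _ (key a) _ (key b)
        calc (a : G) * b = g * ((g⁻¹ * a * g) * (g⁻¹ * b * g)) * g⁻¹ := by group
          _ = g * ((g⁻¹ * b * g) * (g⁻¹ * a * g)) * g⁻¹ := by rw [this]
          _ = _ := by group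
      rcases Cfsg.Agent.S2202.result (even_iff_two_dvd.2 (two_dvd_card hna)) hC with
        hcyc | hnorm | ⟨F, _, _, A, _, _, hchar, -, ⟨e⟩⟩
      · exfalso
        obtain ⟨S, hS⟩ := h2.exists_le_sylow
        haveI := hcyc S
        obtain ⟨z, hz, hzo⟩ := K.exists_invol
        obtain ⟨β, hβ⟩ := K.exists_ne_base
        obtain ⟨d, hd, hd1⟩ := K.exists_pairStab_ne_one hβ
        obtain ⟨hdα, hdβ⟩ := CfsgLib.SEmbed.mem_pairStab.1 hd
        have hdM := K.smul_base_iff.1 hdα
        have hz1 := CfsgLib.Small.ne_one_of_orderOf_two hzo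
        refine hd1 (K.eq_one_of_fix (K.frob d hdM z hz hz1 (mul_inv_eq_iff_eq_mul.1 ?_)) hβ hdβ)
        have hz' := K.mem_kernel_conj hdM hz
        have hz'o : orderOf (d * z * d⁻¹) = 2 := by rw [CfsgLib.Small.orderOf_conj_eq, hzo]
        -- a cyclic group has one involution
        have hcard : ∀ a b : (S : Subgroup G), orderOf a = 2 → orderOf b = 2 → a = b := by
          intro a b ha hb
          haveI := Fintype.ofFinite (S : Subgroup G)
          have hc2 := IsCyclic.card_orderOf_eq_totient (α := (S : Subgroup G)) (d := 2)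
            ((dvd_of_eq ha.symm).trans orderOf_dvd_card)
          rw [Nat.totient_two, Finset.card_eq_one] at hc2
          obtain ⟨c, hc2⟩ := hc2
          have ha' : a ∈ Finset.univ.filter fun x : (S : Subgroup G) => orderOf x = 2 :=
            Finset.mem_filter.2 ⟨Finset.mem_univ _, ha⟩
          have hb' : b ∈ Finset.univ.filter fun x : (S : Subgroup G) => orderOf x = 2 :=
            Finset.mem_filter.2 ⟨Finset.mem_univ _, hb⟩
          rw [hc2, Finset.mem_singleton] at ha' hb'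
          rw [ha', hb']
        exact congrArg Subtype.val (hcard ⟨_, hS hz'⟩ ⟨z, hS hz⟩
          ((Subgroup.orderOf_mk ..).trans hz'o) ((Subgroup.orderOf_mk ..).trans hzo))
      · exfalso
        let S : Sylow 2 G := default
        rcases (hnorm S).eq_bot_or_eq_top with e | e
        · exact S.ne_bot_of_dvd_card (two_dvd_card hna) e
        · haveI : Group.IsNilpotent (S : Subgroup G) := S.2.isNilpotent
          haveI : Group.IsNilpotent G :=
            Group.nilpotent_of_mulEquiv ((MulEquiv.subgroupCongr e).trans Subgroup.topEquiv)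
          obtain ⟨a, b, hab'⟩ := hna
          exact hab' (IsSimpleGroup.comm_iff_isSolvable.2 inferInstance a b)
      · haveI := hchar
        let pr : Matrix.SpecialLinearGroup (Fin 2) F × A →* A := MonoidHom.snd _ _
        have hker : (pr.comp e.toMonoidHom).ker = ⊤ := by
          refine ((inferInstance : (pr.comp e.toMonoidHom).ker.Normal).eq_bot_or_eq_top).resolve_left
            fun hb => ?_
          obtain ⟨a, b, hab'⟩ := hna
          exact hab' ((MonoidHom.ker_eq_bot_iff _).1 hb (by rw [map_mul, map_mul, mul_comm]))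
        have hA : ∀ a : A, a = 1 := fun a => by
          obtain ⟨g, hg⟩ := e.surjective (1, a)
          have := hker.ge (mem_top g)
          rw [MonoidHom.mem_ker] at this
          simpa [pr, hg] using this
        have hcent : center (Matrix.SpecialLinearGroup (Fin 2) F) = ⊥ := by
          rw [eq_bot_iff]
          intro z hz
          obtain ⟨c, hc, hzc⟩ := Matrix.SpecialLinearGroup.mem_center_iff.1 hz
          have hc1 : c = 1 := by
            have h' : c ^ 2 = 1 := by simpa using hc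
            have hsq : (c - 1) ^ 2 = 0 := by
              rw [CharTwo.sub_eq_add, CharTwo.add_sq, h', one_pow, CharTwo.add_self_eq_zero]
            exact sub_eq_zero.1 (pow_eq_zero_iff (two_ne_zero) |>.1 hsq)
          exact mem_bot.2 (Subtype.ext (by rw [← hzc, hc1]; simp))
        refine ⟨F, inferInstance, inferInstance, ⟨e.trans
          ({ toFun := fun x => (QuotientGroup.mk x.1 : Matrix.ProjectiveSpecialLinearGroup (Fin 2) F)
             invFun := fun x => ((QuotientGroup.quotientBot.toMonoidHom.comp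
               (QuotientGroup.quotientMulEquivOfEq hcent).toMonoidHom) x, 1)
             left_inv := fun x => Prod.ext rfl (hA x.2).symm
             right_inv := fun x => by
               induction x using QuotientGroup.induction_on
               rfl
             map_mul' := fun x y => rfl } :
            Matrix.SpecialLinearGroup (Fin 2) F × A ≃* Matrix.ProjectiveSpecialLinearGroup (Fin 2) F)⟩⟩
    · right
      push Not at hab
      haveI : Finite (G ⧸ normalizer (H : Set G)) := Quotient.finite _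
      obtain ⟨a, ha, b, hb, hab'⟩ := hab
      have hUle : H ≤ MulAction.stabilizer G ((1 : G) : G ⧸ normalizer (H : Set G)) := fun x hx =>
        MulAction.mem_stabilizer_iff.2 (K.smul_base_iff.2 (le_normalizer hx))
      refine CfsgLib.SuzukiUnique.isoSuzuki K.isZassenhaus H hUle
        (fun x hx u hu => K.mem_kernel_conj (K.smul_base_iff.1 (MulAction.mem_stabilizer_iff.1 hx)) hu)
        (fun c d hc hd => ?_) h2 ⟨a, ha, b, hb, hab'⟩
      obtain ⟨u, hu, hud⟩ := K.exists_smul_eq hc hd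
      refine ⟨⟨u, hu⟩, hud, fun w hw => Subtype.ext (inv_mul_eq_one.1 ?_).symm⟩
      refine K.eq_one_of_fix (mul_mem (inv_mem hu) w.2) hc ?_
      rw [mul_smul, show (w : G) • c = d from hw, ← hud, inv_smul_smul]
  by_cases hB : ∃ g₀ : G, g₀ ≠ 1 ∧ 2 ∣ Nat.card (P.comp g₀) ∧
      ∀ y ∈ normalizer (P.comp g₀ : Set G), y * y ∈ P.comp g₀ → y ∈ P.comp g₀
  · obtain ⟨g₀, hg₀, he, hodd⟩ := hB
    exact ⟨_, P.seKernel hg₀ he hodd⟩
  push Not at hB
  -- all centralisers of involutions have exponent two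
  have hexp : ∀ t : G, orderOf t = 2 → ∀ y, Commute y t → y * y = 1 := by
    intro t ht y hy
    by_contra hyy
    have ht1 := CfsgLib.Small.ne_one_of_orderOf_two ht
    have he : 2 ∣ Nat.card (P.comp t) := ht ▸ Subgroup.orderOf_dvd_natCard _ (P.mem t)
    obtain ⟨x, hxN, hx2, hxH⟩ := hB t ht1 he
    have hyH : y ∉ P.comp t := fun e => hxH (hA t x y e hyy he hxN |> fun h => by
      by_contra hx
      exact h hx hx2)
    refine hyy ?_
    rw [← sq]
    exact P.pow_eq_one_of_commute (P.mem t) ht1 hyH hy ht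
  obtain ⟨S, hS⟩ : ∃ S : Sylow 2 G, (S : Subgroup G) ≠ ⊥ :=
    ⟨default, (default : Sylow 2 G).ne_bot_of_dvd_card (two_dvd_card hna)⟩
  haveI : Nontrivial (S : Subgroup G) := (nontrivial_iff_ne_bot _).2 hS
  have hcent : ∀ t ∈ S, orderOf t = 2 → ∀ y, y ∈ S ↔ Commute y t := by
    haveI := S.2.center_nontrivial
    obtain ⟨w, hw⟩ := exists_ne (1 : center (S : Subgroup G))
    obtain ⟨k, hk⟩ := S.2 (w : (S : Subgroup G))
    obtain ⟨i, -, hi⟩ := (Nat.dvd_prime_pow Nat.prime_two).1 (orderOf_dvd_of_pow_eq_one hk)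
    have hi0 : i ≠ 0 := fun e => hw (Subtype.ext (orderOf_eq_one_iff.1 (by rw [hi, e, pow_zero])))
    set zS := (w : (S : Subgroup G)) ^ (orderOf (w : (S : Subgroup G)) / 2) with hzS
    have hzo : orderOf (zS : G) = 2 := by
      rw [Subgroup.orderOf_coe]
      exact orderOf_pow_orderOf_div (orderOf_pos _).ne' (hi ▸ dvd_pow_self 2 hi0)
    have hSexp : ∀ s ∈ S, s * s = 1 := fun s hs =>
      hexp _ hzo s (congrArg Subtype.val (mem_center_iff.1 (pow_mem w.2 _) ⟨s, hs⟩))
    intro t htS ht y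
    constructor
    · intro hy
      have h1 := inv_eq_of_mul_eq_one_right (hSexp y hy)
      have h3 := inv_eq_of_mul_eq_one_right (hSexp _ (mul_mem hy htS))
      show y * t = t * y
      rw [← h3, _root_.mul_inv_rev, h1, CfsgLib.Small.inv_eq_self_of_orderOf_two ht]
    · intro hy
      have hle : (S : Subgroup G) ≤ centralizer ({t} : Set G) := fun s hs => by
        refine mem_centralizer_singleton_iff.2 ?_
        have h1 := inv_eq_of_mul_eq_one_right (hSexp s hs)
        have h3 := inv_eq_of_mul_eq_one_right (hSexp _ (mul_mem hs htS))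
        rw [← h3, _root_.mul_inv_rev, h1, CfsgLib.Small.inv_eq_self_of_orderOf_two ht]
      have hC2 : IsPGroup 2 (centralizer ({t} : Set G)) := fun a => ⟨1, Subtype.ext (by
        rw [SubmonoidClass.coe_pow, pow_one, sq]
        exact hexp t ht a (mem_centralizer_singleton_iff.1 a.2))⟩
      have hy' : y ∈ centralizer ({t} : Set G) := mem_centralizer_singleton_iff.2 hy.eq
      rw [S.3 hC2 hle] at hy'
      exact hy'
  have hord : ∀ s ∈ S, s ≠ 1 → orderOf s = 2 := fun s hs hs1 => by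
    obtain ⟨k, hk⟩ := S.2 ⟨s, hs⟩
    obtain ⟨i, -, hi⟩ := (Nat.dvd_prime_pow Nat.prime_two).1
      (orderOf_dvd_of_pow_eq_one (congrArg Subtype.val hk : s ^ 2 ^ k = 1))
    have hi0 : i ≠ 0 := fun e => hs1 (orderOf_eq_one_iff.1 (by rw [hi, e, pow_zero]))
    have hs2 : orderOf (s ^ (orderOf s / 2)) = 2 :=
      orderOf_pow_orderOf_div (orderOf_pos s).ne' (hi ▸ dvd_pow_self 2 hi0)
    exact CfsgLib.CITGroups.orderOf_two_of_mul_self
      (hexp _ hs2 s ((Commute.refl s).pow_right _)) hs1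
  obtain ⟨z, hz, hz1⟩ := exists_mem_ne_one hS
  refine ⟨S, ⟨fun e => ?_, ⟨z, hz, hord z hz hz1⟩, fun t ht ho => ?_, fun t ht ho w hw => ?_,
    fun g h hh hh1 hg => ?_, fun m _ h hh hh1 hc => (hcent h hh (hord h hh hh1) m).2 hc⟩⟩
  · haveI := normalizer_eq_top_iff.1 e
    rcases (inferInstance : (S : Subgroup G).Normal).eq_bot_or_eq_top with e' | e'
    · exact hS e'
    · obtain ⟨a, b, hab⟩ := hna
      refine hab ?_
      have key : ∀ c : G, c * c = 1 := fun c => by
        by_cases hc : c = 1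
        · rw [hc, one_mul]
        · exact CfsgLib.Small.mul_self_of_orderOf_two (hord c (e'.ge (mem_top c)) hc)
      rw [← inv_eq_of_mul_eq_one_right (key (a * b)), _root_.mul_inv_rev,
        inv_eq_of_mul_eq_one_right (key a), inv_eq_of_mul_eq_one_right (key b)]
  · -- an involution normalising `S` lies in it
    obtain ⟨S₁, hS₁⟩ := (IsPGroup.to_sup_of_normal_left' S.2
      (IsPGroup.of_card (n := 1) (by rw [Nat.card_zpowers, ho, pow_one]) :
        IsPGroup 2 (zpowers t)) (zpowers_le.2 ht)).exists_le_sylow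
    rw [← show (S₁ : Subgroup G) = S from S.3 S₁.2 (le_sup_left.trans hS₁)]
    exact hS₁ (mem_sup_right (mem_zpowers t))
  · exact (hcent t ht ho w).1 hw
  · have hho := hord h hh hh1
    have hgo : orderOf (g * h * g⁻¹) = 2 := by rw [CfsgLib.Small.orderOf_conj_eq, hho]
    refine mem_normalizer_iff.2 fun a => ?_
    refine (hcent h hh hho a).trans (Iff.trans ?_ (hcent _ hg hgo _).symm)
    constructor <;> intro hc
    · show g * a * g⁻¹ * (g * h * g⁻¹) = g * h * g⁻¹ * (g * a * g⁻¹)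
      calc g * a * g⁻¹ * (g * h * g⁻¹) = g * (a * h) * g⁻¹ := by group
        _ = g * (h * a) * g⁻¹ := by rw [hc.eq]
        _ = _ := by group
    · show a * h = h * a
      calc a * h = g⁻¹ * (g * a * g⁻¹ * (g * h * g⁻¹)) * g := by group
        _ = g⁻¹ * (g * h * g⁻¹ * (g * a * g⁻¹)) * g := by rw [hc.eq]
        _ = _ := by group

end Part

end CfsgLib.GroupPartition
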