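import Cfsg.Agent.GroupPartition.Tools

/-!
# The socle of a group with a partition and no abelian normal subgroup

If a group with a partition into nilpotent subgroups has no nontrivial abelian normal subgroup,
then it has a simple normal subgroup with trivial centraliser, contained in no component.
-/

set_option autoImplicit false
set_option linter.style.haveILetI false

namespace CfsgLib.GroupPartition

open Subgroup

universe u

/-- A `q`-subgroup normalised by a normal subgroup containing it lies in a normal `q`-subgroup. -/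
theorem exists_normal_pGroup_ge {X : Type u} [Group X] [Finite X] {N L : Subgroup X} [N.Normal]
    {q : ℕ} [Fact q.Prime] (hLN : L ≤ N) (hnorm : N ≤ normalizer (L : Set X)) (hL : IsPGroup q L) :
    ∃ T : Subgroup X, T.Normal ∧ T ≤ N ∧ L ≤ T ∧ IsPGroup q T := by
  set O : Subgroup N := ⨅ S : Sylow q N, (S : Subgroup N) with hO
  haveI : O.Characteristic := by
    rw [characteristic_iff_le_comap]
    intro φ n hn
    rw [mem_comap]
    rw [hO, mem_iInf] at hn ⊢
    intro S
    have := hn (S.comapOfInjective φ.toMonoidHom φ.injective (by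
      rw [MonoidHom.range_eq_top.2 φ.surjective]; exact le_top))
    exact this
  refine ⟨O.map N.subtype, inferInstance, map_subtype_le _, ?_, ?_⟩
  · haveI : (L.subgroupOf N).Normal := normal_subgroupOf_of_le_normalizer hnorm
    have hLp : IsPGroup q (L.subgroupOf N) :=
      IsPGroup.of_equiv hL (subgroupOfEquivOfLe hLN).symm
    intro l hl
    refine ⟨⟨l, hLN hl⟩, ?_, rfl⟩
    rw [SetLike.mem_coe, hO, mem_iInf]
    intro S
    obtain ⟨S₁, hS₁⟩ := hLp.exists_le_sylow
    obtain ⟨n, rfl⟩ := MulAction.exists_smul_eq N S₁ S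
    rw [Sylow.coe_subgroup_smul, mem_pointwise_smul_iff_inv_smul_mem, MulAut.smul_def, ← map_inv,
      MulAut.conj_apply]
    exact hS₁ ((inferInstance : (L.subgroupOf N).Normal).conj_mem _ (mem_subgroupOf.2 hl) _)
  · refine IsPGroup.map ?_ _
    exact (default : Sylow q N).2.to_le (iInf_le (fun S : Sylow q N => (S : Subgroup N)) default)

namespace Part

variable {G : Type u} [Group G] [Finite G] (P : Part G)

/-- A nilpotent subgroup meeting, and normalised by, a subgroup without normal `q`-subgroups meets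
it trivially. -/
theorem inf_eq_bot_of_normalizes {N : Subgroup G}
    (hN : ∀ (q : ℕ) (L : Subgroup G), q.Prime → L ≤ N → N ≤ normalizer (L : Set G) → IsPGroup q L →
      L = ⊥) {g : G} (hnil : Group.IsNilpotent (P.comp g))
    (hnorm : N ≤ normalizer (P.comp g : Set G)) : P.comp g ⊓ N = ⊥ := by
  by_contra hne
  set I := P.comp g ⊓ N with hI
  haveI : Group.IsNilpotent I := by
    haveI := hnil
    exact Group.nilpotent_of_mulEquiv (subgroupOfEquivOfLe (inf_le_left : I ≤ P.comp g))
  have hcard : Nat.card I ≠ 1 := fun e => hne (Subgroup.eq_bot_of_card_eq _ e)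
  obtain ⟨q, hq, hd⟩ := Nat.exists_prime_and_dvd hcard
  haveI := Fact.mk hq
  let S : Sylow q I := default
  haveI : (S : Subgroup I).Characteristic := Sylow.characteristic_of_normal S
    (Sylow.normal_of_normalizerCondition Group.normalizerCondition_of_isNilpotent S)
  have hIN : N ≤ normalizer (I : Set G) := fun n hn => mem_normalizer_iff.2 fun y => by
    rw [hI]
    simp only [mem_inf]
    exact and_congr (mem_normalizer_iff.1 (hnorm hn) y)
      (mem_normalizer_iff.1 (le_normalizer hn) y)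
  refine S.ne_bot_of_dvd_card hd ((map_eq_bot_iff_of_injective _ I.subtype_injective).1
    (hN q _ hq ((map_subtype_le _).trans inf_le_right) ?_ (S.2.map _)))
  intro n hn
  refine mem_normalizer_iff.2 fun y => ?_
  -- conjugation by `n` is an automorphism of `I`
  let φ : MulAut I := {
    toFun := fun i => ⟨n * i * n⁻¹, (mem_normalizer_iff.1 (hIN hn) _).1 i.2⟩
    invFun := fun i => ⟨n⁻¹ * i * n, by
      have := (mem_normalizer_iff.1 (inv_mem (hIN hn)) _).1 i.2
      simpa using this⟩
    left_inv := fun i => Subtype.ext (by group)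
    right_inv := fun i => Subtype.ext (by group)
    map_mul' := fun i j => Subtype.ext (by simp [mul_assoc]) }
  have hmap : (S : Subgroup I).map φ.toMonoidHom = S := characteristic_iff_map_eq.1 inferInstance φ
  constructor
  · rintro ⟨i, hi, rfl⟩
    exact ⟨φ i, hmap ▸ mem_map_of_mem φ.toMonoidHom hi, rfl⟩
  · rintro ⟨i, hi, hie⟩
    rw [SetLike.mem_coe, ← hmap] at hi
    obtain ⟨j, hj, rfl⟩ := hi
    exact ⟨j, hj, mul_left_cancel (mul_right_cancel (show n * (j : G) * n⁻¹ = n * y * n⁻¹ from hie))⟩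

variable (hnil : ∀ g : G, g ≠ 1 → Group.IsNilpotent (P.comp g))
  (hab : ∀ A : Subgroup G, A.Normal → IsMulCommutative A → A = ⊥)
include hnil hab

/-- **The socle.** -/
theorem exists_simple_socle [Nontrivial G] :
    ∃ M : Subgroup G, M.Normal ∧ IsSimpleGroup M ∧ (∃ a ∈ M, ∃ b ∈ M, a * b ≠ b * a) ∧
      centralizer (M : Set G) = ⊥ ∧ ∀ g, ¬ M ≤ P.comp g := by
  classical
  obtain ⟨M, hMn, hM1, hMmin⟩ := CfsgLib.Solvable.exists_minimal_normal (G := G)
  -- no normal `q`-subgroups in `M`
  have hMno : ∀ (q : ℕ) (L : Subgroup G), q.Prime → L ≤ M → M ≤ normalizer (L : Set G) →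
      IsPGroup q L → L = ⊥ := by
    intro q L hq hLM hnorm hL
    haveI := Fact.mk hq
    obtain ⟨T, hTn, -, hLT, hTp⟩ := exists_normal_pGroup_ge hLM hnorm hL
    rw [eq_bot_iff]
    refine hLT.trans ?_
    by_contra hne
    haveI : Nontrivial T := (nontrivial_iff_ne_bot T).2 fun e => hne e.le
    haveI := hTp.center_nontrivial
    refine (nontrivial_iff_ne_bot ((center T).map T.subtype)).1 ?_
      (hab ((center T).map T.subtype) inferInstance inferInstance)
    exact ((center T).equivMapOfInjective _ T.subtype_injective).toEquiv.symm.nontrivial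
  -- two subgroups centralising each other
  have key : ∀ N N' : Subgroup G, N ≠ ⊥ → N' ≠ ⊥ →
      (∀ a ∈ N, ∀ b ∈ N', Commute a b) →
      (∀ (q : ℕ) (L : Subgroup G), q.Prime → L ≤ N → N ≤ normalizer (L : Set G) → IsPGroup q L →
        L = ⊥) → False := by
    intro N N' hN hN' hc hno
    obtain ⟨b, hb, hb1⟩ := exists_mem_ne_one hN'
    have hcard : Nat.card N ≠ 1 := fun e => hN (Subgroup.eq_bot_of_card_eq _ e)
    -- two primes divide `|N|`
    obtain ⟨a, ha, ha1, hab'⟩ : ∃ a ∈ N, a ≠ 1 ∧ orderOf a ≠ orderOf b := by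
      by_contra hcon
      push Not at hcon
      have hbo : (orderOf b).Prime := by
        obtain ⟨q, hq, hd⟩ := Nat.exists_prime_and_dvd hcard
        haveI := Fact.mk hq
        obtain ⟨a, ha⟩ := exists_prime_orderOf_dvd_card' (G := N) q hd
        rw [← hcon a a.2 (fun e => hq.ne_one (by
          rw [← ha, ← Subgroup.orderOf_coe, e, orderOf_one])), Subgroup.orderOf_coe, ha]
        exact hq
      refine hN (hno (orderOf b) N hbo le_rfl le_normalizer fun a => ?_)
      by_cases ha1 : (a : G) = 1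
      · exact ⟨0, Subtype.ext (by simpa using ha1)⟩
      · exact ⟨1, Subtype.ext (by
          rw [pow_one, ← hcon a a.2 ha1, Subgroup.orderOf_coe, pow_orderOf_eq_one])⟩
    have hbK : b ∈ P.comp a := P.mem_comp_of_orderOf_ne ha1 hb1 (hc a ha b hb) hab'.symm
    have hnorm : N ≤ normalizer (P.comp a : Set G) := fun n hn =>
      P.mem_normalizer_of_commute hbK hb1 (hc n hn b hb)
    have := P.inf_eq_bot_of_normalizes hno (hnil a ha1) hnorm
    exact ha1 (mem_bot.1 (this ▸ mem_inf.2 ⟨P.mem a, ha⟩))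
  have hnab : ∃ a ∈ M, ∃ b ∈ M, a * b ≠ b * a := by
    by_contra hcon
    push Not at hcon
    exact hM1 (hab M hMn ⟨⟨fun a b => Subtype.ext (hcon a a.2 b b.2)⟩⟩)
  have hMle : ∀ g, ¬ M ≤ P.comp g := by
    intro g hle
    by_cases hg : g = 1
    · rw [hg, P.one] at hle
      exact hM1 (eq_bot_iff.2 hle)
    exact hM1 ((inf_eq_right.2 hle).symm.trans (P.inf_eq_bot_of_normalizes hMno (hnil g hg)
      (hle.trans le_normalizer)))
  have hcent : centralizer (M : Set G) = ⊥ := by
    by_contra hne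
    exact key M (centralizer (M : Set G)) hM1 hne
      (fun a ha b hb => mem_centralizer_iff.1 hb a ha) hMno
  refine ⟨M, hMn, ?_, hnab, hcent, hMle⟩
  haveI : Nontrivial M := (nontrivial_iff_ne_bot M).2 hM1
  refine ⟨fun N₀ hN₀ => ?_⟩
  by_contra hcon
  push Not at hcon
  obtain ⟨N, hNn, hN1, hNle, hNmin⟩ := CfsgLib.Solvable.exists_minimal_normal_le hN₀ hcon.1
  have hNtop : N ≠ ⊤ := fun e => hcon.2 (top_le_iff.1 (e ▸ hNle))
  set N' := N.map M.subtype with hN'
  have hN'1 : N' ≠ ⊥ := by
    rw [hN', Ne, map_eq_bot_iff_of_injective _ M.subtype_injective]; exact hN1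
  have hN'M : N' ≤ M := map_subtype_le _
  have hMN' : M ≤ normalizer (N' : Set G) := fun m hm => mem_normalizer_iff.2 fun y => by
    constructor
    · rintro ⟨w, hw, rfl⟩
      exact ⟨⟨m, hm⟩ * w * ⟨m, hm⟩⁻¹, hNn.conj_mem w hw _, rfl⟩
    · rintro ⟨w, hw, hwe⟩
      refine ⟨⟨m, hm⟩⁻¹ * w * ⟨m, hm⟩, by simpa using hNn.conj_mem w hw ⟨m, hm⟩⁻¹, ?_⟩
      show m⁻¹ * (w : G) * m = y
      rw [show (w : G) = m * y * m⁻¹ from hwe]; group
  obtain ⟨x, hx⟩ : ∃ x : G, x ∉ normalizer (N' : Set G) := by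
    by_contra hall
    push Not at hall
    have : N'.Normal := normalizer_eq_top_iff.1 (top_le_iff.1 fun x _ => hall x)
    rcases hMmin N' this hN'M with e | e
    · exact hN'1 e
    · exact hNtop (eq_top_iff.2 fun w _ => by
        have hw : (w : G) ∈ N' := e.symm ▸ w.2
        obtain ⟨v, hv, hve⟩ := hw
        exact (Subtype.ext hve : v = w) ▸ hv)
  -- the conjugate `x N' x⁻¹` centralises `N'`
  set N'' := N'.map (MulAut.conj x).toMonoidHom with hN''
  have hN''M : N'' ≤ M := by
    rintro _ ⟨y, hy, rfl⟩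
    exact hMn.conj_mem y (hN'M hy) x
  have hMN'' : M ≤ normalizer (N'' : Set G) := by
    intro m hm
    refine mem_normalizer_iff.2 fun y => ?_
    have hm' : x⁻¹ * m * x ∈ normalizer (N' : Set G) :=
      hMN' (by simpa using hMn.conj_mem m hm x⁻¹)
    have key' : ∀ z, z ∈ N'' ↔ x⁻¹ * z * x ∈ N' := fun z =>
      ⟨by rintro ⟨w, hw, rfl⟩; simpa [mul_assoc] using hw,
        fun hz => ⟨_, hz, by simp [mul_assoc]⟩⟩
    rw [key', key', mem_normalizer_iff.1 hm' (x⁻¹ * y * x)]
    simp [mul_assoc]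
  have hinf : N' ⊓ N'' = ⊥ := by
    have h1 : ((N' ⊓ N'').subgroupOf M).Normal :=
      normal_subgroupOf_of_le_normalizer fun m hm => mem_normalizer_iff.2 fun y => by
        simp only [mem_inf]
        exact and_congr (mem_normalizer_iff.1 (hMN' hm) y) (mem_normalizer_iff.1 (hMN'' hm) y)
    rcases hNmin _ h1 (fun w hw => by
      obtain ⟨v, hv, hve⟩ := (mem_inf.1 (mem_subgroupOf.1 hw)).1
      exact (Subtype.ext hve : v = w) ▸ hv) with e | e
    · rw [eq_bot_iff]
      intro y hy
      have hy' : (⟨y, hN'M (mem_inf.1 hy).1⟩ : M) ∈ (N' ⊓ N'').subgroupOf M := hy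
      rw [e, mem_bot] at hy'
      exact mem_bot.2 (congrArg Subtype.val hy')
    · exfalso
      have hle : N' ≤ N'' := by
        rintro _ ⟨w, hw, rfl⟩
        exact (mem_inf.1 (mem_subgroupOf.1 (e.ge hw))).2
      have heq : N' = N'' := eq_of_le_of_card_ge hle (by
        rw [hN'', card_map_of_injective (MulAut.conj x).injective])
      refine hx (mem_normalizer_iff.2 fun y => ⟨fun hy => heq ▸ ⟨y, hy, rfl⟩, fun hy => ?_⟩)
      rw [heq] at hy
      obtain ⟨z, hz, hze⟩ := hy
      simp only [MulEquiv.coe_toMonoidHom, MulAut.conj_apply] at hze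
      exact mul_left_cancel (mul_right_cancel hze) ▸ hz
  refine key N' N'' hN'1 (fun e => hN'1 ((map_eq_bot_iff_of_injective _
    (MulAut.conj x).injective).1 e)) (fun a ha b hb => ?_) ?_
  · have h1 : a * b * a⁻¹ * b⁻¹ ∈ N' ⊓ N'' := mem_inf.2
      ⟨by rw [show a * b * a⁻¹ * b⁻¹ = a * (b * a⁻¹ * b⁻¹) by group]
          exact mul_mem ha ((mem_normalizer_iff.1 (hMN' (hN''M hb)) _).1 (inv_mem ha)),
        mul_mem ((mem_normalizer_iff.1 (hMN'' (hN'M ha)) _).1 hb) (inv_mem hb)⟩
    rw [hinf, mem_bot, mul_inv_eq_one] at h1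
    exact mul_inv_eq_iff_eq_mul.1 h1
  · intro q L hq hLN hnorm hL
    haveI := Fact.mk hq
    haveI := hNn
    obtain ⟨T, hTn, hTN, hLT, hTp⟩ := exists_normal_pGroup_ge (X := M) (N := N)
      (L := L.subgroupOf M)
      (fun w hw => by
        obtain ⟨v, hv, hve⟩ := hLN (mem_subgroupOf.1 hw)
        exact (Subtype.ext hve : v = w) ▸ hv)
      (fun n hn => mem_normalizer_iff.2 fun w => by
        simpa [mem_subgroupOf] using mem_normalizer_iff.1 (hnorm ⟨n, hn, rfl⟩) (w : G))
      (IsPGroup.of_equiv hL (subgroupOfEquivOfLe (hLN.trans hN'M)).symm)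
    have hT1 := hMno q (T.map M.subtype) hq (map_subtype_le _) (fun m hm => by
        refine mem_normalizer_iff.2 fun y => ⟨?_, ?_⟩
        · rintro ⟨w, hw, rfl⟩
          exact ⟨⟨m, hm⟩ * w * ⟨m, hm⟩⁻¹, hTn.conj_mem w hw _, rfl⟩
        · rintro ⟨w, hw, hwe⟩
          refine ⟨⟨m, hm⟩⁻¹ * w * ⟨m, hm⟩, by simpa using hTn.conj_mem w hw ⟨m, hm⟩⁻¹, ?_⟩
          show m⁻¹ * (w : G) * m = y
          rw [show (w : G) = m * y * m⁻¹ from hwe]; group) (hTp.map _)
    rw [eq_bot_iff]
    intro l hl
    have : l ∈ T.map M.subtype :=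
      ⟨⟨l, hN'M (hLN hl)⟩, hLT (mem_subgroupOf.2 hl), rfl⟩
    rwa [hT1] at this

end Part

end CfsgLib.GroupPartition
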