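import Cfsg.Agent.GroupPartition.Basic
import Cfsg.Agent.Solvable.Nilpotent
import Cfsg.Agent.Solvable.Basic
import Cfsg.Agent.S0043
import Cfsg.Agent.S0205

/-!
# General tools for the classification of groups with a partition

The norm criterion for trivial action, a criterion for a normal Sylow subgroup, and a criterion
for a Frobenius complement.
-/

set_option autoImplicit false
set_option linter.style.haveILetI false

namespace CfsgLib.GroupPartition

open Subgroup

universe u

variable {G : Type u} [Group G]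

open scoped IsMulCommutative in
/-- **The norm criterion.** If `x` normalises `U`, the elements of `U x` have `r`-th power
centralising `V` and trivial norm on the abelian normal subgroup `V`, and `U` modulo a subgroup
centralising `V` has order coprime to `|V|`, then `U` centralises `V`. -/
theorem le_centralizer_of_norm [Finite G] (V : Subgroup G) [V.Normal] [IsMulCommutative V]
    {U K : Subgroup G} (hK : K ≤ centralizer (V : Set G))
    (hcop : (K.relIndex U).Coprime (Nat.card V)) {r : ℕ} (hr : r.Prime) {x : G}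
    (hxU : x ∈ normalizer (U : Set G))
    (hpow : ∀ u ∈ U, (u * x) ^ r ∈ centralizer (V : Set G))
    (hv : ∀ u ∈ U, ∀ v ∈ V, (v * (u * x)) ^ r = (u * x) ^ r) :
    U ≤ centralizer (V : Set G) := by
  classical
  set θ : G →* MulAut V := MulAut.conjNormal with hθ
  set T := U.map θ with hT
  have hker : ∀ y : G, y ∈ θ.ker ↔ y ∈ centralizer (V : Set G) := by
    intro y
    rw [MonoidHom.mem_ker, mem_centralizer_iff]
    constructor
    · intro h v hv
      have := congrArg Subtype.val (DFunLike.congr_fun h ⟨v, hv⟩)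
      rw [MulAut.conjNormal_apply, MulAut.one_apply] at this
      exact (mul_inv_eq_iff_eq_mul.1 this).symm
    · intro h
      ext v
      rw [MulAut.conjNormal_apply, MulAut.one_apply, mul_inv_eq_iff_eq_mul]
      exact (h v v.2).symm
  have hTcard : Nat.card T ∣ K.relIndex U := by
    have h1 : Nat.card T = θ.ker.relIndex U := by
      rw [hT, ← relIndex_bot_left, ← relIndex_comap, MonoidHom.comap_bot]
    rw [h1]
    exact relIndex_dvd_of_le_left U fun y hy => (hker y).2 (hK hy)
  have hxr : θ (x ^ r) = 1 := MonoidHom.mem_ker.1 ((hker _).2 (by simpa using hpow 1 (one_mem U)))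
  set b := θ x with hb
  have hbr : b ^ r = 1 := by rw [hb, ← map_pow, hxr]
  have htr : ∀ t ∈ T, (t * b) ^ r = 1 := by
    rintro _ ⟨u, hu, rfl⟩
    rw [hb, ← map_mul, ← map_pow]
    exact MonoidHom.mem_ker.1 ((hker _).2 (hpow u hu))
  have hnorm : ∀ u ∈ U, ∀ v : V,
      ∏ i ∈ Finset.range r, (θ (u * x) ^ i) v = 1 := by
    intro u hu v
    have h := CfsgLib.HughesThompson.mul_pow_eq V v (u * x) r
    rw [hv u hu v v.2] at h
    exact Subtype.ext (mul_eq_right.1 h.symm)
  have hbT : ∀ j : ℕ, ∀ t ∈ T, b ^ j * t * (b ^ j)⁻¹ ∈ T := by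
    rintro j _ ⟨u, hu, rfl⟩
    rw [hb, ← map_pow, ← map_inv, ← map_mul, ← map_mul]
    exact mem_map_of_mem _ ((mem_normalizer_iff.1 (pow_mem hxU j) u).1 hu)
  have hmem : ∀ j : ℕ, ∀ t ∈ T, (t * b) ^ j * (b ^ j)⁻¹ ∈ T := by
    intro j t ht
    induction j with
    | zero => simp
    | succ j ih =>
      have h1 : (t * b) ^ (j + 1) * (b ^ (j + 1))⁻¹ =
          ((t * b) ^ j * (b ^ j)⁻¹) * (b ^ j * t * (b ^ j)⁻¹) := by
        rw [pow_succ, pow_succ]; group
      rw [h1]
      exact mul_mem ih (hbT j t ht)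
  have hbot := CfsgLib.HughesThompson.eq_bot_of_norms r hr.pos T (hcop.coprime_dvd_left hTcard) b
    (fun t => (t : MulAut V) * b) (fun v => by simpa using hnorm 1 (one_mem U) v)
    (fun t v => by
      obtain ⟨u, hu, e⟩ := t.2
      rw [← e, hb, ← map_mul]
      exact hnorm u hu v)
    (fun j hj hjr => by
      refine ⟨fun t => ⟨((t : MulAut V) * b) ^ j * (b ^ j)⁻¹, hmem j t t.2⟩,
        Finite.injective_iff_bijective.1 fun t t' h => ?_, fun t => by simp⟩
      have h' : ((t : MulAut V) * b) ^ j = ((t' : MulAut V) * b) ^ j :=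
        mul_right_cancel (congrArg Subtype.val h)
      have hcop' : r.Coprime j :=
        (hr.coprime_iff_not_dvd).2 (Nat.not_dvd_of_pos_of_lt hj hjr)
      obtain ⟨a, ha⟩ := exists_pow_eq_self_of_coprime (hcop'.symm.coprime_dvd_right
        (orderOf_dvd_of_pow_eq_one (htr t t.2)))
      have hp' : ∀ z : MulAut V, z ^ r = 1 → (z ^ j) ^ a = z ^ (j * a % r) := fun z hz => by
        rw [← pow_mul]
        conv_lhs => rw [← Nat.mod_add_div (j * a) r, pow_add, pow_mul z r, hz, one_pow, mul_one]
      have h2 : ((t : MulAut V) * b) ^ (j * a % r) = (t : MulAut V) * b := by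
        rw [← hp' _ (htr t t.2), ha]
      by_cases hone : (t : MulAut V) * b = 1
      · have : ((t' : MulAut V) * b) ^ j = 1 := by rw [← h', hone, one_pow]
        have h3 : (t' : MulAut V) * b = 1 := orderOf_eq_one_iff.1 (Nat.dvd_one.1
          (hcop'.gcd_eq_one ▸ Nat.dvd_gcd (orderOf_dvd_of_pow_eq_one (htr t' t'.2))
            (orderOf_dvd_of_pow_eq_one this)))
        exact Subtype.ext (mul_right_cancel (hone.trans h3.symm))
      · have ho : orderOf ((t : MulAut V) * b) = r :=
          haveI := Fact.mk hr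
          orderOf_eq_prime (htr t t.2) hone
        have hmod : j * a % r = 1 := by
          have := (pow_inj_mod (n := j * a % r) (m := 1)).1 (h2.trans (pow_one _).symm)
          rwa [ho, Nat.mod_mod, Nat.mod_eq_of_lt hr.one_lt] at this
        have h4 : ((t' : MulAut V) * b) ^ (j * a % r) = (t' : MulAut V) * b := by
          rw [hmod, pow_one]
        rw [← hp' _ (htr t' t'.2), ← h', ha] at h4
        exact Subtype.ext (mul_right_cancel h4))
  intro u hu
  refine (hker u).1 (MonoidHom.mem_ker.2 ?_)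
  exact mem_bot.1 (hbot ▸ mem_map_of_mem θ hu)

/-- The norm criterion when all elements of `U x` have order dividing `r` and `V ≤ U`. -/
theorem le_centralizer_of_outer [Finite G] (V : Subgroup G) [V.Normal] [IsMulCommutative V]
    {U K : Subgroup G} (hVU : V ≤ U) (hK : K ≤ centralizer (V : Set G))
    (hcop : (K.relIndex U).Coprime (Nat.card V)) {r : ℕ} (hr : r.Prime) {x : G}
    (hxU : x ∈ normalizer (U : Set G)) (hlift : ∀ u ∈ U, (u * x) ^ r = 1) :
    U ≤ centralizer (V : Set G) :=
  le_centralizer_of_norm V hK hcop hr hxU (fun u hu => by rw [hlift u hu]; exact one_mem _)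
    fun u hu v hv => by rw [← mul_assoc, hlift _ (mul_mem (hVU hv) hu), hlift u hu]

/-- A normal complemented subgroup without commuting pairs yields a Frobenius complement. -/
theorem isFrobeniusComplement_of_complement [Finite G] {N Y : Subgroup G} [N.Normal]
    (hNY : N.IsComplement' Y) (hN : N ≠ ⊥) (hY : Y ≠ ⊥)
    (hfpf : ∀ y ∈ Y, y ≠ 1 → ∀ u ∈ N, u ≠ 1 → ¬ Commute u y) :
    Cfsg.IsFrobeniusComplement Y := by
  refine ⟨hY, fun h => hN ?_, fun g hg => ?_⟩
  · subst h
    exact isComplement'_top_right.1 hNY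
  rw [eq_bot_iff]
  intro k hk
  obtain ⟨hk, hk'⟩ := mem_inf.1 hk
  rw [mem_bot]
  obtain ⟨k₀, hk₀, rfl⟩ := hk'
  obtain ⟨⟨u, y⟩, huy⟩ := (show IsComplement (N : Set G) (Y : Set G) from hNY).2 g
  simp only at huy
  have hu : (u : G) ≠ 1 := fun e => hg (by rw [← huy, e, one_mul]; exact y.2)
  change g * k₀ * g⁻¹ = 1
  change g * k₀ * g⁻¹ ∈ Y at hk
  by_contra hne
  set k' := (y : G) * k₀ * (y : G)⁻¹ with hk'
  have hk'Y : k' ∈ Y := mul_mem (mul_mem y.2 hk₀) (inv_mem y.2)
  have hgk : g * k₀ * g⁻¹ = (u : G) * k' * (u : G)⁻¹ := by rw [← huy, hk']; group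
  have h1 : (u : G) * k' * (u : G)⁻¹ * k'⁻¹ ∈ N ⊓ Y := by
    refine mem_inf.2 ⟨?_, mul_mem (hgk ▸ hk) (inv_mem hk'Y)⟩
    have e : (u : G) * k' * (u : G)⁻¹ * k'⁻¹ = u * (k' * (u : G)⁻¹ * k'⁻¹) := by group
    rw [e]
    exact mul_mem u.2 (Subgroup.Normal.conj_mem inferInstance _ (inv_mem u.2) _)
  rw [hNY.disjoint.eq_bot, mem_bot, mul_inv_eq_one] at h1
  exact hfpf _ hk'Y (fun e => hne (by rw [hgk, e, mul_one, mul_inv_cancel])) _ u.2 hu
    (mul_inv_eq_iff_eq_mul.1 h1)

/-- **A criterion for a normal Sylow subgroup.** If the elements of order divisible by `p` have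
order `p`, the elements of order `p` normalise no nontrivial `p'`-subgroup, and modulo some normal
`p`-subgroup all involutions are equal (trivial, for `p = 2`), then there is a normal
`p`-subgroup of index prime to `p`. -/
theorem exists_normal_pGroup [Finite G] {p : ℕ} [Fact p.Prime]
    (ha : ∀ g : G, p ∣ orderOf g → g ^ p = 1)
    (hb : ∀ x : G, orderOf x = p → ∀ U : Subgroup G, x ∈ normalizer (U : Set G) →
      ¬ p ∣ Nat.card U → U = ⊥)
    (K : Subgroup G) [K.Normal] (hK : IsPGroup p K)
    (hK2 : p = 2 → ∀ z : G, orderOf z = 2 → z ∈ K)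
    (hKinv : p ≠ 2 → ∀ z z' : G, orderOf z = 2 → orderOf z' = 2 → z * z' ∈ K) :
    ∃ U : Subgroup G, U.Normal ∧ IsPGroup p U ∧ ¬ p ∣ U.index := by
  classical
  have hp : p.Prime := Fact.out
  by_cases hp2 : p = 2
  · subst hp2
    refine ⟨K, inferInstance, hK, fun hd => ?_⟩
    obtain ⟨P, hKP⟩ := hK.exists_le_sylow
    refine P.not_dvd_index ?_
    suffices (P : Subgroup G) = K by rw [this]; exact hd
    refine le_antisymm (fun g hg => ?_) hKP
    by_cases hg1 : g = 1
    · rw [hg1]; exact one_mem K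
    obtain ⟨k, hk⟩ := P.2 ⟨g, hg⟩
    have hgk : g ^ 2 ^ k = 1 := congrArg Subtype.val hk
    obtain ⟨i, -, hi⟩ := (Nat.dvd_prime_pow hp).1 (orderOf_dvd_of_pow_eq_one hgk)
    refine hK2 rfl g (orderOf_eq_prime (ha g ?_) hg1)
    rw [hi]
    exact dvd_pow_self 2 fun e => hg1 (orderOf_eq_one_iff.1 (by rw [hi, e, pow_zero]))
  rcases Nat.even_or_odd (Nat.card G) with heven | hodd
  · -- an involution is central modulo `K`
    haveI := Fact.mk Nat.prime_two
    obtain ⟨z, hz⟩ := exists_prime_orderOf_dvd_card' (G := G) 2 (even_iff_two_dvd.1 heven)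
    have hzz : z * z = 1 := CfsgLib.Small.mul_self_of_orderOf_two hz
    have hzC : ∀ g : G, Commute g z → p ∣ orderOf g → False := by
      intro g hgz hpg
      have hgp : g ^ p = 1 := ha g hpg
      have hgo : orderOf g = p := orderOf_eq_prime hgp fun e => hp.not_dvd_one (by simpa [e] using hpg)
      have hcop : (orderOf g).Coprime (orderOf z) := by
        rw [hgo, hz]
        exact (Nat.coprime_primes hp Nat.prime_two).2 hp2
      have hpo := hgz.orderOf_mul_eq_mul_orderOf_of_coprime hcop
      have h := orderOf_dvd_of_pow_eq_one (ha (g * z) (by rw [hpo, hgo]; exact dvd_mul_right _ _))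
      rw [hpo, hgo, hz] at h
      exact absurd (Nat.le_of_dvd hp.pos h) (by have := hp.two_le; omega)
    refine ⟨K, inferInstance, hK, fun hd => ?_⟩
    set C := centralizer ({z} : Set G) with hC
    -- `G = K C`
    have hcover : ∀ g : G, ∃ k ∈ K, k⁻¹ * g ∈ C := by
      intro g
      let f : K → K := fun k => ⟨(k : G) * z * (k : G)⁻¹ * z⁻¹, by
        have := K.mul_mem k.2 ((inferInstance : K.Normal).conj_mem _ (K.inv_mem k.2) z)
        simpa [mul_assoc] using this⟩
      have hf : Function.Injective f := by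
        intro a c hac
        have h' : (a : G) * z * (a : G)⁻¹ = (c : G) * z * (c : G)⁻¹ :=
          mul_right_cancel (congrArg Subtype.val hac)
        have hcm : Commute ((c : G)⁻¹ * a) z := by
          refine mul_inv_eq_iff_eq_mul.1 ?_
          calc (c : G)⁻¹ * a * z * ((c : G)⁻¹ * a)⁻¹
              = (c : G)⁻¹ * ((a : G) * z * (a : G)⁻¹) * c := by group
            _ = z := by rw [h']; group
        refine Subtype.ext (inv_mul_eq_one.1 ?_).symm
        by_contra hne
        obtain ⟨n, hn⟩ := hK ⟨(c : G)⁻¹ * a, K.mul_mem (K.inv_mem c.2) a.2⟩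
        obtain ⟨i, -, hi⟩ := (Nat.dvd_prime_pow hp).1
          (orderOf_dvd_of_pow_eq_one (congrArg Subtype.val hn : ((c : G)⁻¹ * a) ^ p ^ n = 1))
        exact hzC _ hcm (hi ▸ dvd_pow_self p fun e => hne (orderOf_eq_one_iff.1 (by rw [hi, e, pow_zero])))
      obtain ⟨k, hk⟩ := (Finite.injective_iff_surjective.1 hf)
        ⟨g * z * g⁻¹ * z⁻¹, by
          rw [CfsgLib.Small.inv_eq_self_of_orderOf_two hz]
          exact hKinv hp2 _ _ (by rw [CfsgLib.Small.orderOf_conj_eq, hz]) hz⟩
      refine ⟨k, k.2, mem_centralizer_singleton_iff.2 ?_⟩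
      have h' : (k : G) * z * (k : G)⁻¹ = g * z * g⁻¹ := mul_right_cancel (congrArg Subtype.val hk)
      refine mul_inv_eq_iff_eq_mul.1 ?_
      calc (k : G)⁻¹ * g * z * ((k : G)⁻¹ * g)⁻¹ = (k : G)⁻¹ * (g * z * g⁻¹) * k := by group
        _ = z := by rw [← h']; group
    have hidx : K.index ∣ Nat.card C := by
      rw [index_eq_card]
      refine card_dvd_of_surjective ((QuotientGroup.mk' K).comp C.subtype) fun q => ?_
      induction q using QuotientGroup.induction_on with
      | H g =>
        obtain ⟨k, hk, hkg⟩ := hcover g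
        refine ⟨⟨_, hkg⟩, ?_⟩
        show (QuotientGroup.mk (k⁻¹ * g) : G ⧸ K) = QuotientGroup.mk g
        rw [QuotientGroup.mk_mul, (QuotientGroup.eq_one_iff _).2 (K.inv_mem hk), one_mul]
    obtain ⟨g, hg⟩ := exists_prime_orderOf_dvd_card' (G := C) p (hd.trans hidx)
    exact hzC g (mem_centralizer_singleton_iff.1 g.2) (by rw [Subgroup.orderOf_coe, hg])
  · -- odd order: a solvable group
    haveI : Group.IsSolvable G := Cfsg.Agent.S0205.result hodd
    obtain ⟨U, ⟨hUn, hUp⟩, hUmax⟩ := (Set.toFinite {N : Subgroup G | N.Normal ∧ IsPGroup p N}).exists_maximal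
      ⟨⊥, Subgroup.normal_bot, IsPGroup.of_bot⟩
    refine ⟨U, hUn, hUp, fun hd => ?_⟩
    haveI : Nontrivial (G ⧸ U) := by
      rw [QuotientGroup.nontrivial_iff]
      rintro rfl
      rw [index_top] at hd
      exact hp.not_dvd_one hd
    obtain ⟨M, hMn, hM1, hMmin⟩ := CfsgLib.Solvable.exists_minimal_normal (G := G ⧸ U)
    obtain ⟨-, r, hr, hMr⟩ := Cfsg.Agent.S0043.result M hM1 hMmin
    haveI := Fact.mk hr
    have hMp : IsPGroup r M := fun m => ⟨1, Subtype.ext (by simpa using hMr m m.2)⟩
    set N := M.comap (QuotientGroup.mk' U) with hN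
    have hUN : U ≤ N := fun u hu => by
      rw [hN, mem_comap, QuotientGroup.mk'_apply, (QuotientGroup.eq_one_iff u).2 hu]
      exact one_mem M
    haveI hNn : N.Normal := hMn.comap _
    have hrel : U.relIndex N = Nat.card M := by
      have h := relIndex_comap (⊥ : Subgroup (G ⧸ U)) (QuotientGroup.mk' U) N
      rw [MonoidHom.comap_bot, QuotientGroup.ker_mk', relIndex_bot_left] at h
      rw [h, hN, map_comap_eq_self_of_surjective (QuotientGroup.mk'_surjective U)]
    have hcardN : Nat.card N = Nat.card M * Nat.card U := by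
      rw [← relIndex_bot_left, ← relIndex_mul_relIndex ⊥ U N bot_le hUN, relIndex_bot_left,
        mul_comm, hrel]
    have hrp : r ≠ p := by
      rintro rfl
      refine hM1 (eq_bot_iff.2 fun q hq => ?_)
      have hNp : IsPGroup r N := by
        obtain ⟨a, ha'⟩ := IsPGroup.iff_card.1 hMp
        obtain ⟨b, hb'⟩ := IsPGroup.iff_card.1 hUp
        exact IsPGroup.of_card (n := a + b) (by rw [hcardN, ha', hb', pow_add])
      have := hUmax ⟨hNn, hNp⟩ hUN
      induction q using QuotientGroup.induction_on with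
      | H g => exact mem_bot.2 ((QuotientGroup.eq_one_iff g).2 (this (mem_comap.2 hq)))
    let R : Sylow r N := default
    have hRne : ¬ (R : Subgroup N).map N.subtype = ⊥ := by
      rw [map_eq_bot_iff_of_injective _ N.subtype_injective]
      refine R.ne_bot_of_dvd_card (hcardN ▸ dvd_mul_of_dvd_left ?_ _)
      obtain ⟨a, ha'⟩ := IsPGroup.iff_card.1 hMp
      rw [ha']
      refine dvd_pow_self r fun e => hM1 (Subgroup.eq_bot_of_card_eq _ (by rw [ha', e, pow_zero]))
    set R' := (R : Subgroup N).map N.subtype with hR'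
    have hRr : IsPGroup r R' := R.2.map _
    have hR'p : ¬ p ∣ Nat.card R' := by
      obtain ⟨a, ha'⟩ := IsPGroup.iff_card.1 hRr
      rw [ha']
      exact fun h => hrp ((Nat.prime_dvd_prime_iff_eq hp hr).1 (hp.dvd_of_dvd_pow h)).symm
    have hidx : p ∣ N.index := by
      rw [← relIndex_mul_index hUN] at hd
      refine (hp.dvd_mul.1 hd).resolve_left fun h => ?_
      obtain ⟨a, ha'⟩ := IsPGroup.iff_card.1 hMp
      rw [hrel, ha'] at h
      exact hrp ((Nat.prime_dvd_prime_iff_eq hp hr).1 (hp.dvd_of_dvd_pow h)).symm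
    have hdvd : p ∣ Nat.card (normalizer (R' : Set G)) := by
      refine hidx.trans ?_
      rw [← relIndex_top_right, ← Sylow.normalizer_sup_eq_top R, relIndex_sup_right]
      exact relIndex_dvd_card N _
    obtain ⟨x, hx⟩ := exists_prime_orderOf_dvd_card' (G := normalizer (R' : Set G)) p hdvd
    exact hRne (hb x (by rw [Subgroup.orderOf_coe, hx]) R' x.2 hR'p)

end CfsgLib.GroupPartition
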